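import Cfsg.Agent.Co3M.Bb
import Cfsg.Agent.Co3M.Kit2
import Cfsg.Agent.S0111

/-! Abstract lemmas: dihedral groups, four-groups of automorphisms, an embedding criterion. -/

set_option autoImplicit false

namespace Cfsg.Lib.Co3M

open Subgroup Cfsg.Lib.Trans Cfsg.Lib.Spor Cfsg.Lib.Spor.Bulk Cfsg.Lib.Spor.PK Cfsg.Lib.Spor.WF

variable {G : Type*} [Group G]

theorem dihedral [Finite G] {i j : G} (hi : i * i = 1) (hj : j * j = 1) {Y : Subgroup G}
    (hiY : i ∈ Y) (hjY : j ∈ Y) : (∃ k ∈ Y, k * i * k⁻¹ = j) ∨ ∃ w, w ≠ 1 ∧ w * i = i * w ∧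
      w * j = j * w ∧ ∃ k ∈ Y, k * i * k⁻¹ = i * w ∨ k * j * k⁻¹ = i * w := by
  have k0 : ∀ x, x * (i * j) * x = (i * j)⁻¹ → x * x = 1 → ∀ a : ℕ,
      (i * j) ^ a * x * ((i * j) ^ a)⁻¹ = (i * j) ^ (2 * a) * x := fun x h1 h2 a => by
    have e := inv_eq_of_mul_eq_one_right h2
    rw [← inv_pow, ← h1, ← congrArg (x * (i * j) * ·) e, conj_pow, e, two_mul, pow_add]
    simp only [mul_assoc, as1 h2]
  have e1 := inv_eq_of_mul_eq_one_right hi
  have e2 := inv_eq_of_mul_eq_one_right hj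
  have a := k0 i (by rw [mul_inv_rev, e1, e2, as1 hi]) hi
  have b := k0 j (by rw [mul_inv_rev, e1, e2, mul_assoc, mul_assoc, hj, mul_one]) hj
  have ij : i * j * j = i := by rw [mul_assoc, hj, mul_one]
  have hp := pow_orderOf_eq_one (i * j)
  have mY := fun a : ℕ => pow_mem (mul_mem hiY hjY) a
  rcases Nat.even_or_odd' (orderOf (i * j)) with ⟨m, h | h⟩ <;> rw [h] at hp
  · have c : ∀ x, (i * j) ^ m * x * ((i * j) ^ m)⁻¹ = (i * j) ^ (2 * m) * x →
        (i * j) ^ m * x = x * (i * j) ^ m := fun x e => of_cj (by rw [e, hp, one_mul])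
    refine Or.inr ⟨(i * j) ^ m, pow_ne_one_of_lt_orderOf ?_ ?_, c i (a m), c j (b m), ?_⟩
    · have := orderOf_pos (i * j); omega
    · have := orderOf_pos (i * j); omega
    rw [← c i (a m)]
    rcases Nat.even_or_odd' m with ⟨n, rfl | rfl⟩
    · exact ⟨_, mY n, Or.inl (a n)⟩
    · exact ⟨_, mY (n + 1), Or.inr (by
        rw [b, show 2 * (n + 1) = 2 * n + 1 + 1 by ring, pow_succ _ (2 * n + 1), mul_assoc, ij])⟩
  · refine Or.inl ⟨_, mY m, ?_⟩
    rw [a, ← ij, ← mul_assoc, ij, ← pow_succ, hp, one_mul]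

/-- A subgroup normalized by a four-group without fixed points of its involutions is trivial. -/
theorem eq_bot_of_four {O : Subgroup G} [Finite O] [hn : O.Normal] {a b : G} (ha : a * a = 1)
    (hb : b * b = 1) (h : ∀ x, x = a ∨ x = b ∨ x = a * b → ∀ n ∈ O, n * x = x * n → n = 1) : O = ⊥ := by
  have k : ∀ x, x * x = 1 → (∀ n ∈ O, n * x = x * n → n = 1) → ∀ m ∈ O, x * m * x⁻¹ = m⁻¹ :=
    fun x h1 h2 m hm => by
      let f : O → O := fun n => ⟨n⁻¹ * (x * n * x⁻¹), mul_mem (inv_mem n.2) (hn.conj_mem _ n.2 x)⟩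
      have hf : Function.Injective f := fun n n' e => by
        replace e : (n : G)⁻¹ * (x * n * x⁻¹) = (n' : G)⁻¹ * (x * n' * x⁻¹) := congrArg Subtype.val e
        refine Subtype.ext (mul_inv_eq_one.1 (h2 _ (mul_mem n.2 (inv_mem n'.2)) (of_cj ?_).symm))
        calc _ = n * ((n : G)⁻¹ * (x * n * x⁻¹)) * (x * n' * x⁻¹)⁻¹ := by group
          _ = _ := by rw [e]; group
      obtain ⟨n, e⟩ := hf.bijective_of_finite.2 ⟨m, hm⟩
      obtain rfl : (n : G)⁻¹ * (x * n * x⁻¹) = m := congrArg Subtype.val e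
      calc _ = x * (n : G)⁻¹ * x⁻¹ * (x * x * n * (x * x)⁻¹) := by group
        _ = _ := by rw [h1]; group
  refine eq_bot_iff.2 fun m hm => h _ (Or.inr (Or.inr rfl)) m hm (of_cj ?_).symm
  calc _ = a * (b * m * b⁻¹) * a⁻¹ := by group
    _ = _ := by
      rw [k b hb (h b (by simp)) m hm, k a ha (h a (by simp)) _ (inv_mem hm), inv_inv]

theorem oddCore_eq_bot [Finite G] {a b : G} (ha : a * a = 1) (hb : b * b = 1)
    (h : ∀ N : Subgroup G, N.Normal → (∀ x ∈ N, x * x = 1 → x = 1) →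
      ∀ x, x = a ∨ x = b ∨ x = a * b → ∀ n ∈ N, n * x = x * n → n = 1) : oddCore G = ⊥ :=
  sSup_eq_bot.2 fun N hN => by
    have := hN.1
    refine eq_bot_of_four ha hb (h N hN.1 fun x hx e => orderOf_eq_one_iff.1 ?_)
    exact Nat.eq_one_of_dvd_coprimes hN.2 (N.orderOf_dvd_natCard hx)
      (orderOf_dvd_of_pow_eq_one (by rw [sq, e]))

theorem sylow_top [Finite G] {T N : Subgroup G} (h : IsSylowIn 2 T N) {e : G} (he : e ∈ T)
    (H : ∀ n, n * e * n⁻¹ ∈ N → n ∈ N) : IsSylowIn 2 T ⊤ := by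
  by_contra hn
  obtain ⟨S, hS, hTS, g, hg, hg', hc⟩ := exists_norm le_top h.isPGroup hn
  exact hg' ((h.eq_inf hS.isPGroup hTS).le ⟨hg, H g (h.le (hc e he).1)⟩)

/-- A subgroup `N` containing an abelian subgroup `D` and the centralizers of suitable
involutions. -/
theorem le_of_dihedral [Finite G] {D E N M : Subgroup G} {e t s u : G} (he : e * e = 1)
    (hu : u ∈ N) (hs : s ∈ N) (ht : u * e * u⁻¹ = t) (hD : ∀ a ∈ D, ∀ b ∈ D, a * b = b * a)
    (heD : e ∈ D) (htD : t ∈ D) (hsD : s * e * s⁻¹ ∈ D) (hDN : D ≤ N) (hDM : D ≤ M) (hsM : s ∉ M)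
    (H1 : ∀ n, n * e = e * n → n ∈ D) (H1' : ∀ n, n * (e * t) = e * t * n → n ∈ N)
    (H2 : ∀ n, n * e * n⁻¹ ∈ N → n ∈ N) (hE : ∀ n ∈ N, n ∈ M → n ∈ E)
    (h1 : ∀ n ∈ E, n * e * n * e = e * n * e * n → n * e = e * n)
    (h2 : ∀ n ∈ E, n * e = t * n → ∀ w ∈ D, n * w = w * n → w = 1)
    (h3 : ∀ n ∈ E, n * e * n * t = e * n * t * n → n * t = t * n) : M ≤ N := by
  suffices H : ∀ n, ∀ Y : Subgroup G, Nat.card Y = n → D ≤ Y → Y ≤ M → Y ≤ N from
    H _ M rfl hDM le_rfl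
  intro n
  induction n using Nat.strong_induction_on with
  | _ n ih =>
  rintro Y rfl hDY hYM k hk
  by_contra hkN
  have H2' : ∀ v ∈ N, ∀ n, n * (v * e * v⁻¹) * n⁻¹ ∈ N → n ∈ N := fun v hv n h =>
    (mul_mem_cancel_right hv).1 (H2 _ (by convert h using 1; group))
  have key : ∀ v ∈ N, v * e * v⁻¹ ∈ D → (∃ n ∈ Y, n * e * n⁻¹ = v * e * v⁻¹) ∨
      ∃ w ∈ D, w ≠ 1 ∧ (∀ x ∈ Y, x * w = w * x) ∧ ∃ n ∈ Y, n * (v * e * v⁻¹) * n⁻¹ = e * w :=
    fun v hv hvD => by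
      rcases dihedral he (j := k * (v * e * v⁻¹) * k⁻¹) (by simp [conj_mul, he]) (hDY heD)
        (mul_mem (mul_mem hk (hDY hvD)) (inv_mem hk)) with ⟨n, hn, a⟩ | ⟨w, w1, we, wj, n, hn, a⟩
      · exact Or.inl ⟨k⁻¹ * n, mul_mem (inv_mem hk) hn, by
          calc _ = k⁻¹ * (n * e * n⁻¹) * k := by group
            _ = _ := by rw [a]; group⟩
      have wD := H1 w we
      have hc : Y ≤ centralizer {w} := by
        by_contra hc
        have lt : Y ⊓ centralizer {w} < Y := lt_of_le_of_ne inf_le_left fun e => hc (inf_eq_left.1 e)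
        exact hkN (H2' v hv k (ih _ (card_lt_of_lt lt) _ rfl
          (le_inf hDY fun x hx => mem_centralizer_singleton_iff.2 (hD x hx w wD))
          (inf_le_left.trans hYM) (mem_inf.2 ⟨mul_mem (mul_mem hk (hDY hvD)) (inv_mem hk),
            mem_centralizer_singleton_iff.2 wj.symm⟩)))
      have hc' : ∀ x ∈ Y, x * w = w * x := fun x hx => mem_centralizer_singleton_iff.1 (hc hx)
      rcases a with a | a
      · refine absurd ?_ w1
        have b := of_cj a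
        have := h1 n (hE n (H2 n (a ▸ hDN (mul_mem heD wD))) (hYM hn)) (by
          rw [mul_assoc e n, mul_assoc _ n e, mul_assoc n e (n * e), b]
          simp only [mul_assoc, as1 he, as (hc' n hn)])
        rwa [b, mul_left_inj, mul_eq_left] at this
      · exact Or.inr ⟨w, wD, w1, hc', n * k, mul_mem hn hk, by rw [← a]; group⟩
  have hZ : ∀ w ∈ D, (∀ x ∈ Y, x * w = w * x) → w = 1 := fun w hw hc => by
    rcases key u hu (ht ▸ htD) with ⟨n, hn, a⟩ | ⟨w', hw', -, hc', n, hn, a⟩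
    · rw [ht] at a
      exact h2 n (hE n (H2 n (a ▸ hDN htD)) (hYM hn)) (of_cj a) w hw (hc n hn)
    · have hnN := H2' u hu n (a ▸ hDN (mul_mem heD hw'))
      rw [ht] at a
      have b := of_cj a
      have c := h3 n (hE n hnN (hYM hn)) (by
        rw [mul_assoc e n, b, mul_assoc _ n t, b]
        simp only [mul_assoc, as1 he, as (hc' n hn)])
      rw [cj_of c] at a
      refine absurd (H1' k ?_) hkN
      rw [a, as1 he]
      exact hc' k hk
  rcases key s hs hsD with ⟨n, hn, a⟩ | ⟨w, hw, w1, hc, -⟩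
  · refine hsM ((mul_mem_cancel_left (inv_mem (hYM hn))).1 (hDM (H1 _ (of_cj ?_))))
    calc _ = n⁻¹ * (s * e * s⁻¹) * n := by group
      _ = _ := by rw [← a]; group
  · exact w1 (hZ w hw hc)

theorem thompson [Finite G] {T D : Subgroup G} (h : IsSylowIn 2 T ⊤) (hD : D ≤ T)
    (hc : Nat.card T = Nat.card D * 2) {s : G} (h2 : s * s = 1) (hs : s ∈ T)
    (hn : ∀ g, g * s * g⁻¹ ∉ D) : ∃ M : Subgroup G, M.index = 2 ∧ s ∉ M := by
  obtain ⟨P, rfl⟩ := h.exists_sylow_eq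
  have h1 : s ∉ D := by simpa using hn 1
  rcases Cfsg.Agent.S0111.result P D hD
    (Nat.eq_of_mul_eq_mul_left Nat.card_pos ((card_mul_relIndex hD).trans hc)) s
    (orderOf_eq_prime (by rw [sq, h2]) fun e => h1 (e ▸ one_mem _)) hs h1 with ⟨M, -, a⟩ | ⟨g, a⟩
  · exact ⟨M, a⟩
  · exact absurd a (hn g)

theorem emb_of_card {M : PM} [NeZero M.n] (h : M.ok = true) (h' : M.subsOK = true) {g : ℕ → G}
    (he : ∃ (hm : ∀ l, M.m l ∈ sub M.m (M.W 0)) (φ : sub M.m (M.W 0) →* G),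
      φ.range = sub g (M.W 0) ∧ ∀ l, φ ⟨_, hm l⟩ = g l)
    (hc : certOrder (M.K 0) ≤ Nat.card (sub g (M.W 0))) : Emb M.m g := by
  obtain ⟨hm, φ, a, e⟩ := he
  refine ⟨_, hm, φ, ?_, e⟩
  rw [← PM.card_sub h h', ← a] at hc
  exact (subtype_injective _).comp (φ.rangeRestrict_surjective.bijective_of_nat_card_le hc).1

theorem card_map_ker {B : Type*} [Group B] (π : G →* B) {H : Subgroup G} (h : π.ker ≤ H) :
    Nat.card π.ker * Nat.card (H.map π) = Nat.card H := by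
  rw [← relIndex_ker, card_mul_relIndex h]

theorem mem_map_ker {B : Type*} [Group B] {π : G →* B} {H : Subgroup G} (h : π.ker ≤ H) {x : G} :
    π x ∈ H.map π ↔ x ∈ H := by
  rw [← mem_comap, comap_map_eq_self h]

theorem mem_of_frame [Finite G] {D E N T : Subgroup G} {e t s u : G} (hs : s * s = 1)
    (hu : u ∈ E) (ht : u * e * u⁻¹ = t) (ht' : u * t * u⁻¹ = e * t) (hD : ∀ a ∈ D, a * a = 1)
    (heD : e ∈ D) (hsD : s ∉ D) (hDE : D ≤ E) (hEN : E ≤ N) (hT : IsSylowIn 2 T N) (hDT : D ≤ T)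
    (hsT : s ∈ T) (hc : Nat.card T = Nat.card D * 2) (hn : ∀ n ∈ N, ∀ d ∈ D, n * d * n⁻¹ ∈ D)
    (hsE : ∀ x ∈ E, s * x * s ∈ E) (hNE : ∀ n ∈ N, n ∈ E ∨ s * n ∈ E)
    (hE : ∀ x ∈ E, x * x = 1 → x ∈ D) (hM : ∀ M : Subgroup G, M.index = 2 → E ≤ M)
    (H1 : ∀ n, n * e = e * n → n ∈ D) (H2 : ∀ n, n * e * n⁻¹ ∈ D → n ∈ N)
    (H3 : ∀ n, n * s * n⁻¹ ∈ D → ∃ k, k * e * k⁻¹ = s)
    (h1 : ∀ n ∈ E, n * e * n * e = e * n * e * n → n * e = e * n)
    (h2 : ∀ n ∈ E, n * e = t * n → ∀ w ∈ D, n * w = w * n → w = 1)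
    (h3 : ∀ n ∈ E, n * e * n * t = e * n * t * n → n * t = t * n) (g : G) : g ∈ N := by
  have huN := hEN hu
  have htD : t ∈ D := ht ▸ hn u huN e heD
  have cD : ∀ a ∈ D, ∀ b ∈ D, a * b = b * a := fun a ha b hb => by
    rw [eq_inv_of_mul_eq_one_left (hD _ (mul_mem ha hb)), mul_inv_rev,
      inv_eq_of_mul_eq_one_right (hD a ha), inv_eq_of_mul_eq_one_right (hD b hb)]
  have Ht : ∀ n, n * t * n⁻¹ ∈ D → n ∈ N := fun n h =>
    (mul_mem_cancel_right huN).1 (H2 _ (by rw [← ht] at h; convert h using 1; group))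
  have Het : ∀ n, n * (e * t) * n⁻¹ ∈ D → n ∈ N := fun n h =>
    (mul_mem_cancel_right huN).1 (Ht _ (by rw [← ht'] at h; convert h using 1; group))
  have H2' : ∀ n, n * e * n⁻¹ ∈ N → n ∈ N := fun n h => by
    have k : ∀ d ∈ D, n⁻¹ * d * n ∈ N ∧ n⁻¹ * d * n * (n⁻¹ * d * n) = 1 := fun d hd => by
      refine ⟨H2 _ (H1 _ ?_), by
        simp only [mul_assoc, mul_inv_cancel_left, as1 (hD d hd), inv_mul_cancel]⟩
      have a := hD _ (mul_mem hd (hn _ h _ (inv_mem hd)))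
      have b := inv_eq_of_mul_eq_one_right (hD e heD)
      have c := inv_eq_of_mul_eq_one_right (hD d hd)
      refine of_cj (mul_inv_eq_one.1 ?_)
      rw [← conj_eq_one_iff (a := n), ← a]
      simp only [mul_inv_rev, inv_inv, b, c, mul_assoc, mul_inv_cancel_left]
    have k' : ∀ d ∈ D, n⁻¹ * d * n ∈ E → n⁻¹ * d * n⁻¹⁻¹ ∈ D := fun d hd a => by
      rw [inv_inv]; exact hE _ a (k d hd).2
    refine inv_mem_iff.1 ((hNE _ (k e heD).1).elim (fun a => H2 _ (k' e heD a)) fun a =>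
      (hNE _ (k t htD).1).elim (fun b => Ht _ (k' t htD b)) fun b =>
        Het _ (k' _ (mul_mem heD htD) ?_))
    convert mul_mem (hsE _ a) b using 1
    simp only [mul_assoc, as1 hs, mul_inv_cancel_left]
  have hsN := hT.le hsT
  obtain ⟨M, hM2, hsM⟩ := thompson (sylow_top hT (hDT heD) H2') hDT hc hs hsT fun n h => by
    obtain ⟨k, a⟩ := H3 n h
    exact hsD (a ▸ hn k (H2' k (a ▸ hsN)) e heD)
  have := le_of_dihedral (hD e heD) huN hsN ht cD heD htD (hn s hsN e heD) (hDE.trans hEN)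
    (hDE.trans (hM M hM2)) hsM H1 (fun n h => Het n (by rw [cj_of h]; exact mul_mem heD htD)) H2'
    (fun n h h' => (hNE n h).resolve_right fun a =>
      hsM ((mul_mem_cancel_right h').1 (hM M hM2 a))) h1 h2 h3
  by_cases hg : g ∈ M
  · exact this hg
  · exact (mul_mem_cancel_left hsN).1 (this ((mul_mem_iff_of_index_two hM2).2 (iff_of_false hsM hg)))

section Qt

variable {B : Type*} [Group B] {C : Subgroup G} (π : C →* B) {g : ℕ → G} (h : ∀ l, g l ∈ C)

/-- the images of the letters in a section -/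
def qt (l : ℕ) : B := π ⟨g l, h l⟩

theorem qt_wv (L : List ℕ) : wv (qt π h) L = π ⟨wv g L, wv_mem g fun l _ => h l⟩ :=
  (wv_map π (fun l => ⟨g l, h l⟩) L).trans
    (congrArg π (Subtype.ext (wv_map C.subtype (fun l => ⟨g l, h l⟩) L).symm))

theorem qt_sat {k : ℕ} {ι : ℕ → ℕ} {R : List (List ℕ)} (hg : Sat g k ι R) : Sat (qt π h) k ι R :=
  ⟨(congrArg π (Subtype.ext hg.zero)).trans (map_one π), fun l hl =>
    (congrArg π (Subtype.ext (hg.inv l hl))).trans (map_inv π _), fun r hr =>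
      (qt_wv π h r).trans ((congrArg π (Subtype.ext (hg.rel r hr))).trans (map_one π))⟩

theorem qt_lift (W : List (List ℕ)) (x : C) :
    x ∈ sub (fun l => (⟨g l, h l⟩ : C)) W ↔ (x : G) ∈ sub g W :=
  (mem_map_ker (π := C.subtype) (by simp)).symm.trans (by rw [sub_map]; rfl)

variable {W : List (List ℕ)} (hk : ∀ x : C, π x = 1 → (x : G) ∈ sub g W)
include hk

theorem qt_mem (x : C) : π x ∈ sub (qt π h) W ↔ (x : G) ∈ sub g W := by
  rw [← qt_lift h, ← mem_map_ker (π := π) fun x hx => (qt_lift h W x).2 (hk x hx), sub_map]; rfl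

theorem qt_card : Nat.card π.ker * Nat.card (sub (qt π h) W) = Nat.card (sub g W) := by
  have := card_map_ker π fun x hx => (qt_lift h W x).2 (hk x hx)
  rw [sub_map, ← card_map_of_injective (K := sub _ W) C.subtype_injective, sub_map] at this
  exact this

end Qt

end Cfsg.Lib.Co3M
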