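import Cfsg.Agent.Co3M.Abs

/-! The dihedral argument for a group with an abelian subgroup of index two in a Sylow subgroup. -/

set_option autoImplicit false

namespace Cfsg.Lib.Co3M

open Subgroup Cfsg.Lib.Trans Cfsg.Lib.Spor Cfsg.Lib.Spor.Bulk Cfsg.Lib.Spor.PK Cfsg.Lib.Spor.WF

variable {G : Type*} [Group G]

/-- A subgroup `N` containing an abelian subgroup `D` and the centralizers of suitable
involutions. -/
theorem le_of_dih [Finite G] {D E N M : Subgroup G} {e t s u : G} (he : e * e = 1)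
    (hu : u ∈ N) (hs : s ∈ N) (ht : u * e * u⁻¹ = t) (hD : ∀ a ∈ D, ∀ b ∈ D, a * b = b * a)
    (heD : e ∈ D) (htD : t ∈ D) (hsD : s * e * s⁻¹ ∈ D) (hDN : D ≤ N) (hDM : D ≤ M) (hsM : s ∉ M)
    (H1 : ∀ n, n * e = e * n → n ∈ D) (H1' : ∀ n, n * (e * t) = e * t * n → n ∈ N)
    (H2 : ∀ n, n * e * n⁻¹ ∈ N → n ∈ N) (hE : ∀ n ∈ N, n ∈ M → n ∈ E)
    (h1 : ∀ n ∈ E, n * e * n * e = e * n * e * n → n * e = e * n)
    (h2 : ∀ n ∈ E, n * e = t * n → ∀ w ∈ D, n * w = w * n → w = 1)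
    (h3 : ∀ n ∈ E, n * e * n * t = e * n * t * n → n * t = t * n ∨ n * t = e * n) :
    M ≤ N := by
  suffices H : ∀ n, ∀ Y : Subgroup G, Nat.card Y = n → D ≤ Y → Y ≤ M → Y ≤ N from
    H _ M rfl hDM le_rfl
  intro n
  induction n using Nat.strong_induction_on with
  | _ n ih =>
  rintro Y rfl hDY hYM k hk
  by_contra hkN
  have H2' : ∀ v ∈ N, ∀ n, n * (v * e * v⁻¹) * n⁻¹ ∈ N → n ∈ N := fun v hv n h =>
    (mul_mem_cancel_right hv).1 (H2 _ (by convert h using 1; group))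
  have key : ∀ v ∈ N, v * e * v⁻¹ ∈ D → (∃ n ∈ Y, n * e * n⁻¹ = v * e * v⁻¹) ∨
      ∃ w ∈ D, w ≠ 1 ∧ (∀ x ∈ Y, x * w = w * x) ∧ ∃ n ∈ Y, n * (v * e * v⁻¹) * n⁻¹ = e * w :=
    fun v hv hvD => by
      rcases dihedral he (j := k * (v * e * v⁻¹) * k⁻¹) (by simp [conj_mul, he]) (hDY heD)
        (mul_mem (mul_mem hk (hDY hvD)) (inv_mem hk)) with ⟨n, hn, a⟩ | ⟨w, w1, we, wj, n, hn, a⟩
      · exact Or.inl ⟨k⁻¹ * n, mul_mem (inv_mem hk) hn, by
          calc _ = k⁻¹ * (n * e * n⁻¹) * k := by group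
            _ = _ := by rw [a]; group⟩
      have wD := H1 w we
      have hc : Y ≤ centralizer {w} := by
        by_contra hc
        have lt : Y ⊓ centralizer {w} < Y := lt_of_le_of_ne inf_le_left fun e => hc (inf_eq_left.1 e)
        exact hkN (H2' v hv k (ih _ (card_lt_of_lt lt) _ rfl
          (le_inf hDY fun x hx => mem_centralizer_singleton_iff.2 (hD x hx w wD))
          (inf_le_left.trans hYM) (mem_inf.2 ⟨mul_mem (mul_mem hk (hDY hvD)) (inv_mem hk),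
            mem_centralizer_singleton_iff.2 wj.symm⟩)))
      have hc' : ∀ x ∈ Y, x * w = w * x := fun x hx => mem_centralizer_singleton_iff.1 (hc hx)
      rcases a with a | a
      · refine absurd ?_ w1
        have b := of_cj a
        have := h1 n (hE n (H2 n (a ▸ hDN (mul_mem heD wD))) (hYM hn)) (by
          rw [mul_assoc e n, mul_assoc _ n e, mul_assoc n e (n * e), b]
          simp only [mul_assoc, as1 he, as (hc' n hn)])
        rwa [b, mul_left_inj, mul_eq_left] at this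
      · exact Or.inr ⟨w, wD, w1, hc', n * k, mul_mem hn hk, by rw [← a]; group⟩
  have hZ : ∀ w ∈ D, (∀ x ∈ Y, x * w = w * x) → w = 1 := fun w hw hc => by
    rcases key u hu (ht ▸ htD) with ⟨n, hn, a⟩ | ⟨w', hw', w1, hc', n, hn, a⟩
    · rw [ht] at a
      exact h2 n (hE n (H2 n (a ▸ hDN htD)) (hYM hn)) (of_cj a) w hw (hc n hn)
    · have hnN := H2' u hu n (a ▸ hDN (mul_mem heD hw'))
      rw [ht] at a
      have b := of_cj a
      have c := (h3 n (hE n hnN (hYM hn)) (by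
        rw [mul_assoc e n, b, mul_assoc _ n t, b]
        simp only [mul_assoc, as1 he, as (hc' n hn)])).resolve_right fun c =>
          w1 (by rwa [b, mul_left_inj, mul_eq_left] at c)
      rw [cj_of c] at a
      refine absurd (H1' k ?_) hkN
      rw [a, as1 he]
      exact hc' k hk
  rcases key s hs hsD with ⟨n, hn, a⟩ | ⟨w, hw, w1, hc, -⟩
  · refine hsM ((mul_mem_cancel_left (inv_mem (hYM hn))).1 (hDM (H1 _ (of_cj ?_))))
    calc _ = n⁻¹ * (s * e * s⁻¹) * n := by group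
      _ = _ := by rw [← a]; group
  · exact w1 (hZ w hw hc)

theorem mem_of_fr [Finite G] {D E N T : Subgroup G} {e t s u : G} (hs : s * s = 1)
    (hu : u ∈ E) (ht : u * e * u⁻¹ = t) (ht' : u * t * u⁻¹ = e * t) (hD : ∀ a ∈ D, a * a = 1)
    (heD : e ∈ D) (hsD : s ∉ D) (hDE : D ≤ E) (hEN : E ≤ N) (hT : IsSylowIn 2 T N) (hDT : D ≤ T)
    (hsT : s ∈ T) (hc : Nat.card T = Nat.card D * 2) (hn : ∀ n ∈ N, ∀ d ∈ D, n * d * n⁻¹ ∈ D)
    (hsE : ∀ x ∈ E, s * x * s ∈ E) (hNE : ∀ n ∈ N, n ∈ E ∨ s * n ∈ E)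
    (hE : ∀ x ∈ E, x * x = 1 → x ∈ D) (hM : ∀ M : Subgroup G, M.index = 2 → E ≤ M)
    (H1 : ∀ n, n * e = e * n → n ∈ D) (H2 : ∀ n, n * e * n⁻¹ ∈ D → n ∈ N)
    (H3 : ∀ n, n * s * n⁻¹ ∈ D → ∃ k, k * e * k⁻¹ = s)
    (h1 : ∀ n ∈ E, n * e * n * e = e * n * e * n → n * e = e * n)
    (h2 : ∀ n ∈ E, n * e = t * n → ∀ w ∈ D, n * w = w * n → w = 1)
    (h3 : ∀ n ∈ E, n * e * n * t = e * n * t * n → n * t = t * n ∨ n * t = e * n) (g : G) :
    g ∈ N := by
  have huN := hEN hu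
  have htD : t ∈ D := ht ▸ hn u huN e heD
  have cD : ∀ a ∈ D, ∀ b ∈ D, a * b = b * a := fun a ha b hb => by
    rw [eq_inv_of_mul_eq_one_left (hD _ (mul_mem ha hb)), mul_inv_rev,
      inv_eq_of_mul_eq_one_right (hD a ha), inv_eq_of_mul_eq_one_right (hD b hb)]
  have Ht : ∀ n, n * t * n⁻¹ ∈ D → n ∈ N := fun n h =>
    (mul_mem_cancel_right huN).1 (H2 _ (by rw [← ht] at h; convert h using 1; group))
  have Het : ∀ n, n * (e * t) * n⁻¹ ∈ D → n ∈ N := fun n h =>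
    (mul_mem_cancel_right huN).1 (Ht _ (by rw [← ht'] at h; convert h using 1; group))
  have H2' : ∀ n, n * e * n⁻¹ ∈ N → n ∈ N := fun n h => by
    have k : ∀ d ∈ D, n⁻¹ * d * n ∈ N ∧ n⁻¹ * d * n * (n⁻¹ * d * n) = 1 := fun d hd => by
      refine ⟨H2 _ (H1 _ ?_), by
        simp only [mul_assoc, mul_inv_cancel_left, as1 (hD d hd), inv_mul_cancel]⟩
      have a := hD _ (mul_mem hd (hn _ h _ (inv_mem hd)))
      have b := inv_eq_of_mul_eq_one_right (hD e heD)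
      have c := inv_eq_of_mul_eq_one_right (hD d hd)
      refine of_cj (mul_inv_eq_one.1 ?_)
      rw [← conj_eq_one_iff (a := n), ← a]
      simp only [mul_inv_rev, inv_inv, b, c, mul_assoc, mul_inv_cancel_left]
    have k' : ∀ d ∈ D, n⁻¹ * d * n ∈ E → n⁻¹ * d * n⁻¹⁻¹ ∈ D := fun d hd a => by
      rw [inv_inv]; exact hE _ a (k d hd).2
    refine inv_mem_iff.1 ((hNE _ (k e heD).1).elim (fun a => H2 _ (k' e heD a)) fun a =>
      (hNE _ (k t htD).1).elim (fun b => Ht _ (k' t htD b)) fun b =>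
        Het _ (k' _ (mul_mem heD htD) ?_))
    convert mul_mem (hsE _ a) b using 1
    simp only [mul_assoc, as1 hs, mul_inv_cancel_left]
  have hsN := hT.le hsT
  obtain ⟨M, hM2, hsM⟩ := thompson (sylow_top hT (hDT heD) H2') hDT hc hs hsT fun n h => by
    obtain ⟨k, a⟩ := H3 n h
    exact hsD (a ▸ hn k (H2' k (a ▸ hsN)) e heD)
  have := le_of_dih (hD e heD) huN hsN ht cD heD htD (hn s hsN e heD) (hDE.trans hEN)
    (hDE.trans (hM M hM2)) hsM H1 (fun n h => Het n (by rw [cj_of h]; exact mul_mem heD htD)) H2'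
    (fun n h h' => (hNE n h).resolve_right fun a =>
      hsM ((mul_mem_cancel_right h').1 (hM M hM2 a))) h1 h2 h3
  by_cases hg : g ∈ M
  · exact this hg
  · exact (mul_mem_cancel_left hsN).1 (this ((mul_mem_iff_of_index_two hM2).2 (iff_of_false hsM hg)))

end Cfsg.Lib.Co3M
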