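import Cfsg.Agent.Co3M.Fus

/-! An element swapping `e` and `e z`, and its normalisation. -/

set_option autoImplicit false
set_option linter.unusedSimpArgs false

namespace Cfsg.Lib.Co3M

open Subgroup Cfsg.Lib.Trans Cfsg.Lib.Spor Cfsg.Lib.Spor.Bulk Cfsg.Lib.Spor.PK Cfsg.Lib.Spor.WF

variable {G : Type*} [Group G]

theorem cj_comm {k a b : G} (h : a * b = b * a) :
    k * a * k⁻¹ * (k * b * k⁻¹) = k * b * k⁻¹ * (k * a * k⁻¹) := by rw [conj_mul, conj_mul, h]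

theorem cj_of {k a b : G} (h : k * a = b * k) : k * a * k⁻¹ = b := by rw [h, mul_inv_cancel_right]

theorem of_cj {k a b : G} (h : k * a * k⁻¹ = b) : k * a = b * k := mul_inv_eq_iff_eq_mul.1 h

namespace CF

variable (F : CF G)

theorem D0_comm {d : G} (h : d ∈ F.D0) : d * F.z = F.z * d ∧ d * F.y = F.y * d := by
  have : F.D0 ≤ centralizer {F.z} ⊓ centralizer {F.y} := sub_le fun L hL => by
    simp only [PM.W, List.getD_cons_succ, List.getD_cons_zero, List.mem_cons, List.not_mem_nil,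
      or_false] at hL
    simp only [mem_inf, mem_centralizer_singleton_iff]
    rcases hL with rfl | rfl | rfl | rfl | rfl | rfl | rfl <;> constructor <;> cw F
  exact ⟨mem_centralizer_singleton_iff.1 (this h).1, mem_centralizer_singleton_iff.1 (this h).2⟩

theorem V_comm {k v : G} (h1 : k * F.z = F.z * k) (h2 : k * F.y = F.y * k) (hv : v ∈ F.V) :
    k * v = v * k := by
  rcases F.v_cases v hv with rfl | rfl | rfl | rfl
  · simp
  · exact h1
  · exact h2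
  · rw [← mul_assoc, h2, mul_assoc, h1, mul_assoc]

theorem V_sq {v : G} (hv : v ∈ F.V) : v * v = 1 := by
  rcases F.v_cases v hv with rfl | rfl | rfl | rfl <;> cw F

/-- `b` centralizes `t` and the four-group and swaps `e` and `e z` -/
structure Pb (b : G) : Prop where
  z : b * F.z = F.z * b
  y : b * F.y = F.y * b
  t : b * F.t = F.t * b
  e : b * F.e = F.e * F.z * b

variable {F}

theorem cj_R0 [Finite G] {b x : G} (hz : b * F.z = F.z * b) (he : b * F.e = F.e * F.z * b)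
    (h1 : x * F.e = F.e * x) (h2 : x * F.z = F.z * x) :
    b * x * b⁻¹ * F.e = F.e * (b * x * b⁻¹) ∧ b * x * b⁻¹ * F.z = F.z * (b * x * b⁻¹) := by
  have a := cj_comm (k := b) h1
  have c := cj_comm (k := b) h2
  rw [cj_of he] at a
  rw [cj_of hz] at c
  refine ⟨?_, c⟩
  rw [mul_assoc F.e, ← c, ← mul_assoc, ← mul_assoc F.e] at a
  exact mul_right_cancel a

theorem cj_D0 [Finite G] {b x : G} (hz : b * F.z = F.z * b) (hy : b * F.y = F.y * b)
    (he : b * F.e = F.e * F.z * b) (h : x ∈ F.D0) : b * x * b⁻¹ ∈ F.D0 := by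
  have a := cj_R0 hz he (memC.1 (F.D0_le h)) (F.D0_comm h).1
  have c := cj_comm (k := b) (F.D0_comm h).2
  rw [cj_of hy] at c
  exact F.memD0 a.1 a.2 c

variable (F) in
theorem exists_Pb [Finite G] (h : F.X (F.e * F.z)) : ∃ b, F.Pb b := by
  obtain ⟨k, h1, h2, h3⟩ := h.conjV (q1 := F.a3) (q2 := F.a1) (by cw F) (by cw F) (by cw F)
    (by cw F) (by cw F)
  have h4 : k * F.e = F.e * F.z * k := by
    rw [mul_assoc, ← h2, ← mul_assoc, ← h1, mul_assoc, mul_assoc, F.sq.2.1, mul_one]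
  have ht : F.t ∈ F.D0 := let_mem _ 4 (by decide +kernel)
  rcases F.t_conj _ (cj_D0 h2 h3 h4 ht) (by rw [conj_mul, F.sq.2.2.2.1]; simp) with ⟨a, ha, e⟩ | e
  · have h5 := F.D0_comm ha
    refine ⟨a * k, ?_, ?_, ?_, ?_⟩
    · rw [mul_assoc, h2, ← mul_assoc, h5.1, mul_assoc]
    · rw [mul_assoc, h3, ← mul_assoc, h5.2, mul_assoc]
    · rw [← mul_assoc, ← e]; group
    · rw [mul_assoc, h4, ← mul_assoc, ← mul_assoc, memC.1 (F.D0_le ha), mul_assoc F.e, h5.1]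
      group
  · have a := cj_R0 h2 h4 F.ce.2.2.2.2.2.2.2.2 F.cz.2.2.2.2.2.2
    have := e _ (F.memR0 a.1 a.2) (by simp only [conj_mul, F.sq.2.2.2.2.2.2.1]; simp)
      (by simp only [conj_mul, F.cp.2.2.2.2]; simp)
    rw [← cj_of h3] at this
    simp only [conj_mul, mul_left_inj, mul_right_inj] at this
    exact absurd this F.ne.2.2.2.2.2.2.2.2.2.2.2.2.1

namespace Pb

variable [Finite G] {b : G} (h : F.Pb b)
include h

omit [Finite G] in
theorem v {v : G} (hv : v ∈ F.V) : b * v = v * b := F.V_comm h.z h.y hv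

omit [Finite G] in
theorem cj_ev {w v : G} (hv : v ∈ F.V) (hw : b * w * b⁻¹ = F.e * w * v) :
    b * b * w * (b * b)⁻¹ = F.e * F.z * (F.e * w * v) * v := by
  calc _ = b * (b * w * b⁻¹) * b⁻¹ := by group
    _ = b * F.e * b⁻¹ * (b * w * b⁻¹) * (b * v * b⁻¹) := by rw [conj_mul, conj_mul, ← hw]
    _ = _ := by rw [hw, cj_of (h.v hv), cj_of h.e]

omit [Finite G] in
theorem cj_v {w v : G} (hv : v ∈ F.V) (hw : b * w * b⁻¹ = w * v) :
    b * b * w * (b * b)⁻¹ = w * v * v := by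
  calc _ = b * (b * w * b⁻¹) * b⁻¹ := by group
    _ = b * w * b⁻¹ * (b * v * b⁻¹) := by rw [conj_mul, ← hw]
    _ = _ := by rw [hw, cj_of (h.v hv)]

theorem sq : b * b ∈ F.V := by
  have h1 : b * b ∈ F.D0 := F.memD0 (by
      rw [mul_assoc, h.e, ← mul_assoc, ← mul_assoc, h.e, mul_assoc (F.e * F.z), h.z]
      simp only [mul_assoc, as1 F.sq.2.1])
    (by rw [mul_assoc, h.z, ← mul_assoc, h.z, mul_assoc])
    (by rw [mul_assoc, h.y, ← mul_assoc, h.y, mul_assoc])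
  have h2 : ∀ w, b * b = F.e * w → b * w = w * b → False := fun w e hw => by
    have : b * (F.e * w) = F.e * w * b := by rw [← e, mul_assoc]
    rw [← mul_assoc, h.e, mul_assoc _ b, hw, ← mul_assoc, mul_left_inj, mul_left_inj] at this
    exact F.ne.2.1 (by simpa using this)
  obtain ⟨v, hv, e | e | e | e⟩ := F.cent_t _ h1 (by rw [mul_assoc, h.t, ← mul_assoc, h.t, mul_assoc])
  · exact e ▸ hv
  · exact (h2 v e (h.v hv)).elim
  · exfalso
    have ha : F.a1 ∈ F.D0 := let_mem _ 6 (by decide +kernel)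
    obtain ⟨u, hu, e' | e'⟩ := F.sq_y _ (cj_D0 h.z h.y h.e ha)
      (by rw [conj_mul, F.sq.2.2.2.2.2.2.2.1, cj_of h.y])
    · have := h.cj_v hu e'
      rw [e, mul_assoc F.a1, F.V_sq hu] at this
      revert this
      rcases F.v_cases v hv with rfl | rfl | rfl | rfl <;> cw F
    · have := h.cj_ev hu e'
      rw [e, ← mul_assoc, mul_assoc _ u, F.V_sq hu] at this
      revert this
      rcases F.v_cases v hv with rfl | rfl | rfl | rfl <;> cw F
  · exact (h2 _ (e.trans (mul_assoc _ _ _))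
      (by rw [← mul_assoc, h.t, mul_assoc, h.v hv, mul_assoc])).elim

theorem a1 : ∃ v ∈ F.V, b * F.a1 * b⁻¹ = F.a1 * v := by
  have ha : F.a1 ∈ F.D0 := let_mem _ 6 (by decide +kernel)
  obtain ⟨u, hu, e' | e'⟩ := F.sq_y _ (cj_D0 h.z h.y h.e ha)
    (by rw [conj_mul, F.sq.2.2.2.2.2.2.2.1, cj_of h.y])
  · exact ⟨u, hu, e'⟩
  · have := h.cj_ev hu e'
    rw [← mul_assoc, mul_assoc _ u, F.V_sq hu] at this
    exfalso
    revert this
    rcases F.v_cases _ h.sq with e | e | e | e <;> rw [e] <;> cw F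

theorem a3 : ∃ v ∈ F.V, b * F.a3 * b⁻¹ = F.a3 * v := by
  have ha : F.a3 ∈ F.D0 := let_mem _ 10 (by decide +kernel)
  obtain ⟨u, hu, e' | e'⟩ := F.sq_z _ (cj_D0 h.z h.y h.e ha)
    (by rw [conj_mul, F.sq.2.2.2.2.2.2.2.2.2, cj_of h.z])
  · exact ⟨u, hu, e'⟩
  · have := h.cj_ev hu e'
    rw [← mul_assoc, mul_assoc _ u, F.V_sq hu] at this
    exfalso
    revert this
    rcases F.v_cases _ h.sq with e | e | e | e <;> rw [e] <;> cw F

end Pb

/-- `b` centralizes `t` and the four-group and maps `e` to `e w` -/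
structure Pw (F : CF G) (w b : G) : Prop where
  z : b * F.z = F.z * b
  y : b * F.y = F.y * b
  t : b * F.t = F.t * b
  e : b * F.e = F.e * w * b

theorem Pb.pw {b : G} (h : F.Pb b) : F.Pw F.z b := ⟨h.z, h.y, h.t, h.e⟩

theorem Pw.pb {b : G} (h : F.Pw F.z b) : F.Pb b := ⟨h.z, h.y, h.t, h.e⟩

theorem Pw.mul {w b w' b' : G} (h : F.Pw w b) (h' : F.Pw w' b') (hw : w' ∈ F.V) :
    F.Pw (w * w') (b * b') :=
  ⟨Commute.mul_left h.z h'.z, Commute.mul_left h.y h'.y, Commute.mul_left h.t h'.t, by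
    rw [mul_assoc, h'.e, ← mul_assoc, ← mul_assoc, h.e, mul_assoc (F.e * w), F.V_comm h.z h.y hw]
    group⟩

theorem Pw.inv {w b : G} (h : F.Pw w b) (hw : w ∈ F.V) : F.Pw w b⁻¹ :=
  ⟨Commute.inv_left h.z, Commute.inv_left h.y, Commute.inv_left h.t, by
    have : F.e * b = b * (F.e * w) := by
      rw [← mul_assoc, h.e, mul_assoc, F.V_comm h.z h.y hw, mul_assoc, ← mul_assoc w, F.V_sq hw,
        one_mul]
    calc _ = b⁻¹ * (F.e * b) * b⁻¹ := by group
      _ = _ := by rw [this]; group⟩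

theorem Pw.cj {w b k w' : G} (h : F.Pw w b) (h1 : k⁻¹ * F.z * k ∈ F.V) (h2 : k⁻¹ * F.y * k ∈ F.V)
    (h3 : k * F.t = F.t * k) (h4 : k * F.e = F.e * k) (hw : k * w * k⁻¹ = w') :
    F.Pw w' (k * b * k⁻¹) := by
  have a := cj_comm (k := k) (F.V_comm h.z h.y h1)
  have c := cj_comm (k := k) (F.V_comm h.z h.y h2)
  have d := cj_comm (k := k) h.t
  refine ⟨by simpa [mul_assoc] using a, by simpa [mul_assoc] using c, by rwa [cj_of h3] at d, ?_⟩
  rw [← hw, ← cj_of h4, conj_mul, conj_mul, conj_mul, h.e]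

theorem yzV : F.y * F.z ∈ F.V := mul_mem F.yV F.zV

theorem Pw.g {w b w' : G} (h : F.Pw w b) (hw : F.g * w * F.g⁻¹ = w') :
    F.Pw w' (F.g * b * F.g⁻¹) :=
  h.cj (by rw [show F.g⁻¹ * F.z * F.g = F.y * F.z by cw F]; exact yzV)
    (by rw [show F.g⁻¹ * F.y * F.g = F.z by cw F]; exact F.zV) (by cw F) (by cw F) hw

theorem Pw.r {w b w' : G} (h : F.Pw w b) (hw : F.r * w * F.r⁻¹ = w') :
    F.Pw w' (F.r * b * F.r⁻¹) :=
  h.cj (by rw [show F.r⁻¹ * F.z * F.r = F.z by cw F]; exact F.zV)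
    (by rw [show F.r⁻¹ * F.y * F.r = F.y * F.z by cw F]; exact yzV) (by cw F) (by cw F) hw

theorem Pw.one [Finite G] {d : G} (h : F.Pw 1 d) :
    ∃ v ∈ F.V, d = v ∨ d = F.e * v ∨ d = F.t * v ∨ d = F.e * F.t * v :=
  F.cent_t d (F.memD0 (by simpa using h.e) h.z h.y) h.t

theorem g3 : F.g * (F.g * F.g) = 1 := by cw F

theorem ginv : F.g⁻¹ = F.g * F.g := by cw F

theorem exists_norm_b {b : G} (h : F.Pb b) : ∃ b, F.Pb b ∧ b * F.g * b * F.g * b * F.g = 1 := by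
  have h1 := h.pw.g (w' := F.y) (by cw F)
  have h2 := h1.g (w' := F.y * F.z) (by cw F)
  have h3 := h1.mul (h2.inv yzV) yzV
  rw [show F.y * (F.y * F.z) = F.z by cw F] at h3
  refine ⟨_, h3.pb, ?_⟩
  have e : F.g⁻¹ * F.g⁻¹ = F.g := by cw F
  have e' : ∀ w, F.g⁻¹ * (F.g⁻¹ * w) = F.g * w := as2 e
  have e3 : ∀ w, F.g * (F.g * (F.g * w)) = w := fun w => by
    rw [← mul_assoc F.g F.g, ← mul_assoc, F.sq.2.2.2.2.2.1, one_mul]
  simp only [mul_inv_rev, inv_inv, mul_assoc, inv_mul_cancel_left, mul_inv_cancel_left, e, e', e3,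
    inv_mul_cancel, mul_inv_cancel, mul_one, g3]

theorem comm_b1 [Finite G] {b : G} (h : F.Pb b) (hn : b * F.g * b * F.g * b * F.g = 1) :
    b * (F.g * b * F.g⁻¹) = F.g * b * F.g⁻¹ * b := by
  have h1 := h.pw.g (w' := F.y) (by cw F)
  have h2 := h1.g (w' := F.y * F.z) (by cw F)
  set b1 := F.g * b * F.g⁻¹ with e1
  set b2 := F.g * b1 * F.g⁻¹ with e2
  clear_value b2 b1
  have e3 : F.g * b2 * F.g⁻¹ = b := by
    calc _ = F.g * (F.g * F.g) * b * (F.g * (F.g * F.g))⁻¹ := by rw [e2, e1]; group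
      _ = _ := by rw [g3]; group
  have n : b * b1 * b2 = 1 := by
    rw [← hn]
    calc _ = b * F.g * b * F.g * b * (F.g⁻¹ * F.g⁻¹) := by rw [e2, e1]; group
      _ = _ := by rw [show F.g⁻¹ * F.g⁻¹ = F.g by cw F]
  have gV : ∀ v ∈ F.V, F.g * v * F.g⁻¹ ∈ F.V := fun v hv => by
    rcases F.v_cases v hv with rfl | rfl | rfl | rfl
    · simp
    · rw [show F.g * F.z * F.g⁻¹ = F.y by cw F]; exact F.yV
    · rw [show F.g * F.y * F.g⁻¹ = F.y * F.z by cw F]; exact yzV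
    · rw [show F.g * (F.y * F.z) * F.g⁻¹ = F.z by cw F]; exact F.zV
  have s0 := h.sq
  have s1 : b1 * b1 ∈ F.V := by rw [e1, conj_mul]; exact gV _ s0
  have s2 : b2 * b2 ∈ F.V := by rw [e2, conj_mul]; exact gV _ s1
  have n2 : b2 = (b * b1)⁻¹ := eq_inv_of_mul_eq_one_right n
  have hv : b⁻¹ * (b1 * b * b1⁻¹) ∈ F.V := by
    have : b⁻¹ * (b1 * b * b1⁻¹) = (b * b)⁻¹ * (b2 * b2)⁻¹ * (b1 * b1)⁻¹ := by rw [n2]; group
    exact this ▸ mul_mem (mul_mem (inv_mem s0) (inv_mem s2)) (inv_mem s1)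
  obtain ⟨v, hv, e⟩ : ∃ v ∈ F.V, b1 * b = b * b1 * v :=
    ⟨_, hv, by rw [mul_assoc, F.V_comm h1.z h1.y hv]; group⟩
  have e' : b2 * b1 = b1 * b2 * (F.g * v * F.g⁻¹) := by
    rw [e2]; nth_rewrite 2 3 [e1]; rw [conj_mul, conj_mul, conj_mul, e]
  have e'' : b * b1 = b1 * b * (F.g * v * F.g⁻¹)⁻¹ := by
    have : F.g * v * F.g⁻¹ = (b1 * b2)⁻¹ * (b2 * b1) := by rw [e']; group
    have c := F.V_comm h.z h.y (gV v hv)
    have c1 := F.V_comm h1.z h1.y (gV v hv)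
    have k : b1 * b * (F.g * v * F.g⁻¹)⁻¹ = b1 * (F.g * v * F.g⁻¹)⁻¹ * b := by
      rw [mul_assoc b1 b, (Commute.inv_right c).eq, ← mul_assoc]
    rw [k, this, n2]; group
  rw [e, mul_assoc, left_eq_mul] at e''
  rw [e, left_eq_mul]
  revert e''
  rcases F.v_cases v hv with rfl | rfl | rfl | rfl
  · simp
  all_goals exact fun e => absurd e (by cw F)

theorem norm_mul {b : G} (h : F.Pb b) (hn : b * F.g * b * F.g * b * F.g = 1) :
    (∀ v ∈ F.V, b * v * F.g * (b * v) * F.g * (b * v) * F.g = 1) ∧ ∀ v ∈ F.V,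
      b * (F.e * v) * F.g * (b * (F.e * v)) * F.g * (b * (F.e * v)) * F.g = F.e * F.y ∧
      b * (F.t * v) * F.g * (b * (F.t * v)) * F.g * (b * (F.t * v)) * F.g = F.t ∧
      b * (F.e * F.t * v) * F.g * (b * (F.e * F.t * v)) * F.g * (b * (F.e * F.t * v)) * F.g =
        F.e * F.t * F.y := by
  have zg : F.z * F.g = F.g * (F.y * F.z) := by cw F
  have zg' : ∀ w, F.z * (F.g * w) = F.g * (F.y * (F.z * w)) := fun w => by
    rw [as zg, mul_assoc]
  have yg : F.y * F.g = F.g * F.z := by cw F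
  have eg : F.e * F.g = F.g * F.e := by cw F
  have tg : F.t * F.g = F.g * F.t := by cw F
  have eb : ∀ w, F.e * (b * w) = b * (F.e * (F.z * w)) := fun w => by
    rw [← mul_assoc b, h.e, mul_assoc, mul_assoc, as h.z, as1 F.sq.2.1]
  have zy : F.z * F.y = F.y * F.z := by cw F
  have ze : F.z * F.e = F.e * F.z := by cw F
  have ye : F.y * F.e = F.e * F.y := by cw F
  have te : F.t * F.e = F.e * F.t := by cw F
  have zt : F.z * F.t = F.t * F.z := by cw F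
  have yt : F.y * F.t = F.t * F.y := by cw F
  have hn' : ∀ w, b * (F.g * (b * (F.g * (b * (F.g * w))))) = w := fun w => by
    simp only [← mul_assoc, hn, one_mul]
  have hn'' : b * (F.g * (b * (F.g * (b * F.g)))) = 1 := by simp only [← mul_assoc, hn]
  refine ⟨fun v hv => ?_, fun v hv => ⟨?_, ?_, ?_⟩⟩ <;>
    rcases F.v_cases v hv with rfl | rfl | rfl | rfl <;>
    simp only [mul_assoc, mul_one, zg, zg', yg, as yg, eg, as eg, tg, as tg, eb, as h.z.symm,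
      as h.y.symm, as h.t.symm, zy, as zy, ze, as ze, ye, as ye, te, as te, zt, as zt, yt, as yt,
      hn', hn'', F.sq.1, as1 F.sq.1, F.sq.2.1, as1 F.sq.2.1, F.sq.2.2.1, as1 F.sq.2.2.1,
      F.sq.2.2.2.1, as1 F.sq.2.2.2.1]

theorem norm_r [Finite G] {b : G} (h : F.Pb b) (hn : b * F.g * b * F.g * b * F.g = 1) :
    F.r * b * F.r⁻¹ * F.g * (F.r * b * F.r⁻¹) * F.g * (F.r * b * F.r⁻¹) * F.g = 1 := by
  have c := comm_b1 h hn
  have e : F.g = F.r * F.g⁻¹ * F.r⁻¹ := by cw F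
  have e2 : b * F.g * b * F.g * b * F.g =
      b * (F.g * b * F.g⁻¹) * (F.g * (F.g * b * F.g⁻¹) * F.g⁻¹) * (F.g * (F.g * F.g)) := by group
  have e3 : b * F.g⁻¹ * b * F.g⁻¹ * b * F.g⁻¹ = b * (F.g * (F.g * F.g))⁻¹ *
      (F.g * (F.g * b * F.g⁻¹) * F.g⁻¹ * (F.g * b * F.g⁻¹)) := by group
  have e4 : b * F.g⁻¹ * b * F.g⁻¹ * b * F.g⁻¹ = 1 := by
    rw [e3, ← cj_comm c, ← hn, e2, g3]; group
  rw [e]
  simp only [conj_mul, e4]
  simp

/-- the normalised element -/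
structure Nb (F : CF G) (b : G) : Prop extends F.Pb b where
  n : b * F.g * b * F.g * b * F.g = 1
  r : b * F.r = F.r * b

theorem exists_Nb [Finite G] {b : G} (h : F.Pb b) : ∃ b, F.Nb b := by
  obtain ⟨b, h, hn⟩ := exists_norm_b h
  have h1 := (h.pw.inv F.zV).mul (h.pw.r (w' := F.z) (by cw F)) F.zV
  rw [F.sq.2.1] at h1
  have hr := norm_r h hn
  have k := norm_mul h hn
  obtain ⟨v, hv, e | e | e | e⟩ := h1.one <;> rw [inv_mul_eq_iff_eq_mul] at e
  · have rr : F.r * (F.r * b * F.r⁻¹) * F.r⁻¹ = b := by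
      calc _ = F.r * F.r * b * (F.r * F.r)⁻¹ := by group
        _ = _ := by rw [F.sq.2.2.2.2.1]; group
    rw [e, ← conj_mul, e, mul_assoc, mul_eq_left] at rr
    rcases F.v_cases v hv with rfl | rfl | rfl | rfl
    · exact ⟨b, h, hn, (of_cj (by simpa using e)).symm⟩
    · have h2 := h.pw.mul (⟨by cw F, rfl, by cw F, by cw F⟩ : F.Pw 1 F.y) (one_mem _)
      rw [mul_one] at h2
      refine ⟨_, h2.pb, k.1 _ F.yV, (of_cj ?_).symm⟩
      rw [← conj_mul, e, mul_assoc, mul_right_inj]; cw F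
    all_goals exact absurd rr (by cw F)
  · rw [e, (k.2 v hv).1] at hr; exact absurd hr (by cw F)
  · rw [e, (k.2 v hv).2.1] at hr; exact absurd hr (by cw F)
  · rw [e, (k.2 v hv).2.2] at hr; exact absurd hr (by cw F)

theorem Nb.sq' [Finite G] {b : G} (h : F.Nb b) : b * b = 1 ∨ b * b = F.z := by
  have c : b * b * F.r = F.r * (b * b) := Commute.mul_left h.r h.r
  rcases F.v_cases _ h.toPb.sq with e | e | e | e
  · exact Or.inl e
  · exact Or.inr e
  all_goals exact absurd (e ▸ c) (by cw F)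

theorem Nb.act [Finite G] {b : G} (h : F.Nb b) :
    (b * F.a3 * b⁻¹ = F.a3 ∧ b * F.a1 * b⁻¹ = F.a1) ∨
      (b * F.a3 * b⁻¹ = F.a3 * F.z ∧ b * F.a1 * b⁻¹ = F.a1 * (F.y * F.z)) := by
  obtain ⟨v, hv, e1⟩ := h.toPb.a1
  obtain ⟨u, hu, e3⟩ := h.toPb.a3
  have rr : ∀ x, b * (F.r * x * F.r⁻¹) * b⁻¹ = F.r * (b * x * b⁻¹) * F.r⁻¹ := fun x => by
    calc _ = b * F.r * x * (b * F.r)⁻¹ := by group
      _ = _ := by rw [h.r]; group
  have e2 := rr F.a1
  rw [e1, show F.r * F.a1 * F.r⁻¹ = F.a2 by cw F] at e2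
  have k : b * F.g * b * F.g * b * F.g * F.a3 * (b * F.g * b * F.g * b * F.g)⁻¹ =
      b * (F.g * (b * (F.g * (b * (F.g * F.a3 * F.g⁻¹) * b⁻¹) * F.g⁻¹) * b⁻¹) * F.g⁻¹) * b⁻¹ := by
    group
  have k3 := rr F.a3
  rw [show F.r * F.a3 * F.r⁻¹ = F.a3 by cw F, e3] at k3
  have p : b * (F.a1 * F.a2 * F.a3) * b⁻¹ = 1 := by rw [F.ca.1]; simp
  rw [← conj_mul, ← conj_mul, e1, e2, e3] at p
  have bv : ∀ x w, w ∈ F.V → b * (x * w) * b⁻¹ = b * x * b⁻¹ * w := fun x w hw => by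
    rw [← conj_mul, cj_of (h.toPb.v hw)]
  rw [h.n, show F.g * F.a3 * F.g⁻¹ = F.a1 by cw F, e1] at k
  have oV : (1 : G) ∈ F.V := one_mem _
  rcases F.v_cases v hv with rfl | rfl | rfl | rfl <;>
    rcases F.v_cases u hu with rfl | rfl | rfl | rfl <;>
    first
      | (refine absurd p ?_; cw F)
      | (refine absurd k3 ?_; cw F)
      | exact Or.inl ⟨e3.trans (mul_one _), e1.trans (mul_one _)⟩
      | exact Or.inr ⟨e3, e1⟩
      | skip
  · rw [show F.g * (F.a1 * F.z) * F.g⁻¹ = F.a2 * F.y by cw F, bv _ _ F.yV, e2,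
      show F.g * (F.r * (F.a1 * F.z) * F.r⁻¹ * F.y) * F.g⁻¹ = F.a3 * F.z by cw F, bv _ _ F.zV,
      e3] at k
    exact absurd k (by cw F)
  · rw [show F.g * (F.a1 * F.y) * F.g⁻¹ = F.a2 * (F.y * F.z) by cw F, bv _ _ yzV, e2,
      show F.g * (F.r * (F.a1 * F.y) * F.r⁻¹ * (F.y * F.z)) * F.g⁻¹ = F.a3 * 1 by cw F, bv _ _ oV,
      e3] at k
    exact absurd k (by cw F)

end CF

end Cfsg.Lib.Co3M
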