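import Cfsg.Agent.Co3M.ModL
import Cfsg.Agent.Co3M.P3

/-! The centralizer of the four-group. -/

set_option autoImplicit false
set_option linter.unusedSimpArgs false
set_option maxRecDepth 100000

namespace Cfsg.Lib.Co3M

open Subgroup Cfsg.Lib.Trans Cfsg.Lib.Spor Cfsg.Lib.Spor.Bulk Cfsg.Lib.Spor.PK Cfsg.Lib.Spor.WF

universe u

variable {G : Type u} [Group G]

theorem exists_quot [Finite G] {C V : Subgroup G} (h : ∀ x : C, ∀ v ∈ V, x * v = v * x) :
    ∃ (B : Type u) (_ : Group B) (_ : Finite B) (π : C →* B), Function.Surjective π ∧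
      (∀ x, π x = 1 ↔ (x : G) ∈ V) ∧ Nat.card π.ker ≤ Nat.card V := by
  have : (V.subgroupOf C).Normal := ⟨fun v hv x => mem_subgroupOf.2 (by
    rw [coe_mul, coe_mul, coe_inv, cj_of (h x v hv)]; exact hv)⟩
  refine ⟨_, _, inferInstance, QuotientGroup.mk' (V.subgroupOf C), QuotientGroup.mk'_surjective _,
    fun x => QuotientGroup.eq_one_iff x, ?_⟩
  rw [QuotientGroup.ker_mk']
  exact Nat.card_le_card_of_injective (fun x => ⟨x.1.1, x.2⟩) fun x y e =>
    Subtype.ext (Subtype.ext (congrArg (fun a : V => (a : G)) e))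

namespace KF

variable {F : CF G} {K : KD G} (h : KF F K)
include h

theorem V_le {W : List (List ℕ)} (hW : [1] ∈ W ∧ [2] ∈ W) : F.V ≤ sub K.gK W := fun v hv => by
  have a : F.z ∈ sub K.gK W := h.z ▸ let_mem K.gK 1 hW.1
  have b : F.y ∈ sub K.gK W := h.y ▸ let_mem K.gK 2 hW.2
  rcases F.v_cases v hv with rfl | rfl | rfl | rfl
  exacts [one_mem _, a, b, mul_mem b a]

theorem cenV [Finite G] {n : G} (h1 : n * K.z = K.z * n) (h2 : n * K.y = K.y * n) : n ∈ K.Kz := by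
  have em := h.emb
  let C := centralizer ({K.z, K.y} : Set G)
  have mC : ∀ {x}, x ∈ C ↔ x * K.z = K.z * x ∧ x * K.y = K.y * x := by
    simp [C, mem_centralizer_iff, eq_comm]
  have cV : ∀ x : C, ∀ v ∈ F.V, x * v = v * x := fun x v =>
    F.V_comm (h.z ▸ (mC.1 x.2).1) (h.y ▸ (mC.1 x.2).2)
  obtain ⟨B, _, _, π, sj, ker, b⟩ := exists_quot cV
  obtain ⟨g, g1, g2⟩ : ∃ g : ℕ → G, (∀ l, 26 ≤ l → g l = 1) ∧ ∀ l < 26, g l = K.gK l :=
    ⟨fun l => if l < 26 then K.gK l else 1, fun l hl => if_neg (by omega), fun l hl => if_pos hl⟩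
  have ee : g 3 * g 9 * g 15 = K.e := by rw [g2, g2, g2]; rfl; all_goals omega
  have hg : ∀ l, g l ∈ C := fun l => by
    by_cases hl : l < 26
    · have := sem_andL.1 (PM.holds (M := bare MK) MK_ok (bare_subs MK) em (p := andL (List.range 26)
        fun l => .and (.eq [1, l] [l, 1]) (.eq [2, l] [l, 2])) (by decide +kernel)) l
        (List.mem_range.2 hl)
      simp only [Fm.sem, wv_cons, wv_nil, one_mul] at this
      exact g2 l hl ▸ mC.2 this
    · exact g1 l (by omega) ▸ one_mem _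
  have sb : ∀ W : List (List ℕ), (∀ L ∈ W, ∀ l ∈ L, l < 26) → sub g W = sub K.gK W :=
    fun W a => sub_congr fun L hL l hl => g2 l (a L hL l hl)
  have hk : ∀ W : List (List ℕ), (∀ L ∈ W, ∀ l ∈ L, l < 26) ∧ [1] ∈ W ∧ [2] ∈ W →
      ∀ x : C, π x = 1 → (x : G) ∈ sub g W :=
    fun W a x hx => sb W a.1 ▸ h.V_le a.2 ((ker x).1 hx)
  have eL : Emb ML.m (qt π hg) := embL (qt_sat π hg ((KD.sat0 em).resW (Ls := List.range' 1 25)
      (fun l => by
        rw [List.mem_range'_1]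
        by_cases a : l < 26
        · rcases l with _ | l
          exacts [Or.inr ⟨by omega, g2 0 a⟩, Or.inl ⟨by omega, g2 _ a⟩]
        · exact Or.inr ⟨by omega, g1 l (by omega)⟩) (by decide +kernel)))
    ((ker _).2 (show g 1 ∈ F.V from g2 1 (by omega) ▸ show K.z ∈ F.V from h.z ▸ F.zV))
    ((ker _).2 (show g 2 ∈ F.V from g2 2 (by omega) ▸ show K.y ∈ F.V from h.y ▸ F.yV))
    (fun l hl => (congrArg π (Subtype.ext (g1 l hl))).trans (map_one π)) (by
      have a := qt_card π hg (hk (ML.W 0) (by decide +kernel))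
      have c := Subgroup.card_le_of_le (sub_le (g := K.gK) (W := MK.W 5) fun L hL =>
        wv_mem_sub (W := ML.W 0) _ ((by decide +kernel : ∀ L ∈ MK.W 5, L ∈ ML.W 0) L hL))
      rw [PM.card_of_emb MK_ok MK_subs em, show certOrder (MK.K 5) = 4608 by decide +kernel,
        ← sb _ (by decide +kernel), ← a] at c
      have := Nat.mul_le_mul_right (Nat.card (sub (qt π hg) (ML.W 0))) (F.card_V ▸ b)
      omega)
  have nX : ∀ L : List ℕ, (∀ v ∈ F.V, ¬ F.X (wv g L * v)) →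
      ¬ ∃ x : C, π x = wv (qt π hg) L ∧ F.X x := fun L a ⟨x, e, b⟩ => by
    rw [qt_wv, eq_comm, ← inv_mul_eq_one, ← map_inv, ← map_mul, ker] at e
    exact a _ e (by simpa using b)
  have nX' : ∀ L : List ℕ, wv K.gK L * wv K.gK L ≠ 1 → (∀ l ∈ L, l < 26) →
      ¬ ∃ x : C, π x = wv (qt π hg) L ∧ F.X x := fun L a b => nX L fun v hv c => a (by
    have d := c.sq
    have e : wv g L * v = v * wv g L := cV ⟨_, wv_mem g fun l _ => hg l⟩ v hv
    rwa [mul_assoc, ← mul_assoc v, ← e, mul_assoc, F.V_sq hv, mul_one,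
      wv_congr fun l hl => g2 l (b l hl)] at d)
  have := topL eL (X := fun x => ∃ y : C, π y = x ∧ F.X y) (fun k x ⟨y, e, a⟩ => by
      obtain ⟨k, rfl⟩ := sj k
      exact ⟨k * y * k⁻¹, by rw [map_mul, map_mul, map_inv, e], a.cj k⟩)
    ⟨⟨_, hg 3⟩ * ⟨_, hg 9⟩ * ⟨_, hg 15⟩, by rw [map_mul, map_mul]; rfl,
      show F.X (g 3 * g 9 * g 15) from ee ▸ h.e ▸ F.Xe⟩
    ⟨⟨_, hg 25⟩, rfl, show F.X (g 25) from g2 25 (by omega) ▸ h.Xs⟩
    (by
      simp only [List.forall_mem_cons, List.not_mem_nil, IsEmpty.forall_iff, implies_true, and_true,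
        w_let (qt π hg), w_mul]
      refine ⟨nX [] fun v hv => by simpa using F.nX_V hv, ?_, ?_, ?_, ?_, ?_, ?_,
        nX _ fun v hv => ?_⟩
      rotate_left 6
      · rw [wv_congr fun l hl => g2 l (by revert l; decide)]
        convert h.nX v hv using 3
        ck K em
      all_goals exact nX' _ (by ck K em) (by decide))
    (fun n a => by
      obtain ⟨n, rfl⟩ := sj n
      rw [qt_mem π hg (hk _ (by decide +kernel)), sb _ (by decide +kernel)]
      refine h.memD n (K.e⁻¹ * (n * K.e * (n : G)⁻¹)) (mC.1 n.2).1 (mC.1 n.2).2 ?_ (by group)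
      rw [← ee]
      exact (ker ((⟨_, hg 3⟩ * ⟨_, hg 9⟩ * ⟨_, hg 15⟩)⁻¹ *
        (n * (⟨_, hg 3⟩ * ⟨_, hg 9⟩ * ⟨_, hg 15⟩) * n⁻¹))).1 (by
          rw [map_mul, map_inv, inv_mul_eq_one, map_mul π (n * _), map_mul π n, map_inv, map_mul,
            map_mul]
          exact (cj_of a).symm)) (π ⟨n, mC.2 ⟨h1, h2⟩⟩)
  rw [qt_mem π hg (hk _ (by decide +kernel)), sb _ (by decide +kernel)] at this
  exact sub_le (fun L hL => wv_mem_sub _ ((by decide +kernel : ∀ L ∈ ML.W 0, L ∈ MK.W 0) L hL)) this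

theorem norV [Finite G] {n : G} (h1 : n * K.z = K.z * n)
    (h2 : n * K.y = K.y * n ∨ n * K.y = K.y * K.z * n) : n ∈ K.Kz := by
  have em := h.emb
  refine h2.elim (h.cenV h1) fun a =>
    (mul_mem_cancel_left (let_mem K.gK 26 (by decide +kernel))).1 (h.cenV (n := K.R * n) ?_ ?_)
  · rw [mul_assoc, h1, ← mul_assoc, ← mul_assoc, mul_left_inj]; ck K em
  · rw [mul_assoc, a, ← mul_assoc, ← mul_assoc K.y, mul_left_inj]; ck K em

end KF

end Cfsg.Lib.Co3M
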