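import Cfsg.Agent.Co3M.ModC

/-! Facts on the group `2 × M₁₂`, decided in the model. -/

set_option autoImplicit false
set_option maxRecDepth 100000
set_option linter.unusedSimpArgs false
set_option maxHeartbeats 1000000

namespace Cfsg.Lib.Co3M

open Subgroup Cfsg.Lib.Spor Cfsg.Lib.Spor.Bulk Cfsg.Lib.Spor.PK Cfsg.Lib.Spor.WF

variable {G : Type*} [Group G]

namespace CF

variable (F : CF G)

theorem sq  :
    F.e * F.e = 1 ∧ F.z * F.z = 1 ∧ F.y * F.y = 1 ∧ F.t * F.t = 1 ∧ F.r * F.r = 1 ∧ F.g * F.g * F.g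
    = 1 ∧ F.p * F.p * F.p = 1 ∧ F.a1 * F.a1 = F.y ∧ F.a2 * F.a2 = F.y * F.z ∧ F.a3 * F.a3 = F.z := by
  have := PM.holds MC_ok MC_subs F.emb (p := (.and (.eq [1,1] []) (.and (.eq [2,2] []) (.and (.eq [3,3] []) (.and (.eq [4,4] []) (.and (.eq
      [5,5] []) (.and (.eq [12,12,12] []) (.and (.eq [14,14,14] []) (.and (.eq [6,6] [3]) (.and (.eq
      [8,8] [2,3]) (.eq [10,10] [2]))))))))))) (by decide +kernel)
  simp only [Fm.sem, wv_cons, wv_nil, one_mul, upd_apply, Nat.reduceEqDiff, ↓reduceIte, F.l1, F.l2, F.l3,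
    F.l4, F.l5, F.l6, F.l7, F.l8, F.l9, F.l10, F.l11, F.l12, F.l13, F.l14, F.l15] at this
  exact this

theorem ce  :
    F.z * F.e = F.e * F.z ∧ F.y * F.e = F.e * F.y ∧ F.t * F.e = F.e * F.t ∧ F.r * F.e = F.e * F.r ∧
    F.a1 * F.e = F.e * F.a1 ∧ F.a2 * F.e = F.e * F.a2 ∧ F.a3 * F.e = F.e * F.a3 ∧ F.g * F.e = F.e *
    F.g ∧ F.p * F.e = F.e * F.p := by
  have := PM.holds MC_ok MC_subs F.emb (p := (.and (.eq [1,2] [2,1]) (.and (.eq [1,3] [3,1]) (.and (.eq [1,4] [4,1]) (.and (.eq [1,5] [5,1])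
      (.and (.eq [1,6] [6,1]) (.and (.eq [1,8] [8,1]) (.and (.eq [1,10] [10,1]) (.and (.eq [1,12]
      [12,1]) (.eq [1,14] [14,1])))))))))) (by decide +kernel)
  simp only [Fm.sem, wv_cons, wv_nil, one_mul, upd_apply, Nat.reduceEqDiff, ↓reduceIte, F.l1, F.l2, F.l3,
    F.l4, F.l5, F.l6, F.l7, F.l8, F.l9, F.l10, F.l11, F.l12, F.l13, F.l14, F.l15] at this
  exact this

theorem cz  :
    F.y * F.z = F.z * F.y ∧ F.t * F.z = F.z * F.t ∧ F.r * F.z = F.z * F.r ∧ F.a1 * F.z = F.z * F.a1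
    ∧ F.a2 * F.z = F.z * F.a2 ∧ F.a3 * F.z = F.z * F.a3 ∧ F.p * F.z = F.z * F.p := by
  have := PM.holds MC_ok MC_subs F.emb (p := (.and (.eq [2,3] [3,2]) (.and (.eq [2,4] [4,2]) (.and (.eq [2,5] [5,2]) (.and (.eq [2,6] [6,2])
      (.and (.eq [2,8] [8,2]) (.and (.eq [2,10] [10,2]) (.eq [2,14] [14,2])))))))) (by decide +kernel)
  simp only [Fm.sem, wv_cons, wv_nil, one_mul, upd_apply, Nat.reduceEqDiff, ↓reduceIte, F.l1, F.l2, F.l3,
    F.l4, F.l5, F.l6, F.l7, F.l8, F.l9, F.l10, F.l11, F.l12, F.l13, F.l14, F.l15] at this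
  exact this

theorem cy  :
    F.t * F.y = F.y * F.t ∧ F.a1 * F.y = F.y * F.a1 ∧ F.a2 * F.y = F.y * F.a2 ∧ F.a3 * F.y = F.y *
    F.a3 := by
  have := PM.holds MC_ok MC_subs F.emb (p := (.and (.eq [3,4] [4,3]) (.and (.eq [3,6] [6,3]) (.and (.eq [3,8] [8,3]) (.eq [3,10] [10,3]))))) (by decide +kernel)
  simp only [Fm.sem, wv_cons, wv_nil, one_mul, upd_apply, Nat.reduceEqDiff, ↓reduceIte, F.l1, F.l2, F.l3,
    F.l4, F.l5, F.l6, F.l7, F.l8, F.l9, F.l10, F.l11, F.l12, F.l13, F.l14, F.l15] at this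
  exact this

theorem cg  :
    F.g * F.z = F.y * F.g ∧ F.g * F.y = F.y * F.z * F.g ∧ F.g * F.t = F.t * F.g ∧ F.g * F.a3 = F.a1
    * F.g ∧ F.g * F.a1 = F.a2 * F.g ∧ F.g * F.a2 = F.a3 * F.g ∧ F.r * F.g * F.r * F.g = 1 := by
  have := PM.holds MC_ok MC_subs F.emb (p := (.and (.eq [2,12] [12,3]) (.and (.eq [3,12] [12,2,3]) (.and (.eq [4,12] [12,4]) (.and (.eq
      [10,12] [12,6]) (.and (.eq [6,12] [12,8]) (.and (.eq [8,12] [12,10]) (.eq [12,5,12,5] [])))))))) (by decide +kernel)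
  simp only [Fm.sem, wv_cons, wv_nil, one_mul, upd_apply, Nat.reduceEqDiff, ↓reduceIte, F.l1, F.l2, F.l3,
    F.l4, F.l5, F.l6, F.l7, F.l8, F.l9, F.l10, F.l11, F.l12, F.l13, F.l14, F.l15] at this
  exact this

theorem cr  :
    F.r * F.y = F.y * F.z * F.r ∧ F.r * F.t = F.t * F.r ∧ F.r * F.a3 = F.a3 * F.r ∧ F.r * F.a1 =
    F.a2 * F.r ∧ F.r * F.a2 = F.a1 * F.r := by
  have := PM.holds MC_ok MC_subs F.emb (p := (.and (.eq [3,5] [5,2,3]) (.and (.eq [4,5] [5,4]) (.and (.eq [10,5] [5,10]) (.and (.eq [6,5]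
      [5,8]) (.eq [8,5] [5,6])))))) (by decide +kernel)
  simp only [Fm.sem, wv_cons, wv_nil, one_mul, upd_apply, Nat.reduceEqDiff, ↓reduceIte, F.l1, F.l2, F.l3,
    F.l4, F.l5, F.l6, F.l7, F.l8, F.l9, F.l10, F.l11, F.l12, F.l13, F.l14, F.l15] at this
  exact this

theorem ca  :
    F.a1 * F.a2 * F.a3 = 1 ∧ F.a1 * F.a3 = F.a3 * F.a1 ∧ F.t * F.a1 = F.a1 * F.y * F.t ∧ F.t * F.a2
    = F.a2 * F.y * F.z * F.t ∧ F.t * F.a3 = F.a3 * F.z * F.t ∧ F.a2 * F.a1 = F.a1 * F.a2 ∧ F.a2 *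
    F.a3 = F.a3 * F.a2 := by
  have := PM.holds MC_ok MC_subs F.emb (p := (.and (.eq [10,8,6] []) (.and (.eq [10,6] [6,10]) (.and (.eq [6,4] [4,3,6]) (.and (.eq [8,4]
      [4,2,3,8]) (.and (.eq [10,4] [4,2,10]) (.and (.eq [6,8] [8,6]) (.eq [10,8] [8,10])))))))) (by decide +kernel)
  simp only [Fm.sem, wv_cons, wv_nil, one_mul, upd_apply, Nat.reduceEqDiff, ↓reduceIte, F.l1, F.l2, F.l3,
    F.l4, F.l5, F.l6, F.l7, F.l8, F.l9, F.l10, F.l11, F.l12, F.l13, F.l14, F.l15] at this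
  exact this

theorem cp  :
    F.p * F.y = F.t * F.a3 * F.p ∧ F.p * F.t = F.r * F.p ∧ F.p * F.r = F.r * F.t * F.p ∧ F.p * F.a3
    = F.r * F.t * F.y * F.a3 * F.p ∧ F.t * F.p * F.t * F.p * F.t * F.p = 1 := by
  have := PM.holds MC_ok MC_subs F.emb (p := (.and (.eq [3,14] [14,10,4]) (.and (.eq [4,14] [14,5]) (.and (.eq [5,14] [14,4,5]) (.and (.eq
      [10,14] [14,10,3,4,5]) (.eq [14,4,14,4,14,4] [])))))) (by decide +kernel)
  simp only [Fm.sem, wv_cons, wv_nil, one_mul, upd_apply, Nat.reduceEqDiff, ↓reduceIte, F.l1, F.l2, F.l3,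
    F.l4, F.l5, F.l6, F.l7, F.l8, F.l9, F.l10, F.l11, F.l12, F.l13, F.l14, F.l15] at this
  exact this

theorem ne  :
    F.e ≠ 1 ∧ F.z ≠ 1 ∧ F.y ≠ 1 ∧ F.y ≠ F.z ∧ F.y * F.z ≠ 1 ∧ F.t ≠ 1 ∧ F.e ≠ F.z ∧ F.e ≠ F.y ∧ F.e
    ≠ F.y * F.z ∧ F.e * F.z ≠ 1 ∧ F.e * F.t ≠ 1 ∧ F.e * F.t * F.y ≠ 1 ∧ F.p * F.t * F.p * F.p * F.y
    ≠ F.y * F.p * F.t * F.p * F.p ∧ F.t * F.a3 ≠ F.a3 * F.t := by
  have := PM.holds MC_ok MC_subs F.emb (p := (.and (.not (.eq [1] [])) (.and (.not (.eq [2] [])) (.and (.not (.eq [3] [])) (.and (.not (.eq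
      [3] [2])) (.and (.not (.eq [2,3] [])) (.and (.not (.eq [4] [])) (.and (.not (.eq [1] [2])) (.and
      (.not (.eq [1] [3])) (.and (.not (.eq [1] [2,3])) (.and (.not (.eq [2,1] [])) (.and (.not (.eq
      [4,1] [])) (.and (.not (.eq [3,4,1] [])) (.and (.not (.eq [3,14,14,4,14] [14,14,4,14,3])) (.not
      (.eq [10,4] [4,10])))))))))))))))) (by decide +kernel)
  simp only [Fm.sem, wv_cons, wv_nil, one_mul, upd_apply, Nat.reduceEqDiff, ↓reduceIte, F.l1, F.l2, F.l3,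
    F.l4, F.l5, F.l6, F.l7, F.l8, F.l9, F.l10, F.l11, F.l12, F.l13, F.l14, F.l15] at this
  exact this

theorem v_cases  :
    ∀ v ∈ F.V, v = 1 ∨ v = F.z ∨ v = F.y ∨ v = F.y * F.z := by
  have := PM.holds MC_ok MC_subs F.emb (p := (.all 3 42 (.or (.eq [42] []) (.or (.eq [42] [2]) (.or (.eq [42] [3]) (.eq [42] [2,3])))))) (by decide +kernel)
  simp only [Fm.sem, wv_cons, wv_nil, one_mul, upd_apply, Nat.reduceEqDiff, ↓reduceIte, F.l1, F.l2, F.l3,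
    F.l4, F.l5, F.l6, F.l7, F.l8, F.l9, F.l10, F.l11, F.l12, F.l13, F.l14, F.l15] at this
  exact this

theorem mem_D0  :
    ∀ x ∈ F.R0, x * F.y = F.y * x → (∃ d ∈ F.D0, x = d) := by
  have := PM.holds MC_ok MC_subs F.emb (p := (.all 1 40 (.imp (.eq [3,40] [40,3]) (.ex 2 45 (.eq [40] [45]))))) (by decide +kernel)
  simp only [Fm.sem, wv_cons, wv_nil, one_mul, upd_apply, Nat.reduceEqDiff, ↓reduceIte, F.l1, F.l2, F.l3,
    F.l4, F.l5, F.l6, F.l7, F.l8, F.l9, F.l10, F.l11, F.l12, F.l13, F.l14, F.l15] at this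
  exact this

theorem z_T0  :
    ∀ x ∈ F.T0, x * F.t = F.t * x → x * F.r = F.r * x → x * F.a1 = F.a1 * x → (x = 1 ∨ x = F.e ∨ x =
    F.z ∨ x = F.e * F.z) := by
  have := PM.holds MC_ok MC_subs F.emb (p := (.all 0 40 (.imp (.eq [4,40] [40,4]) (.imp (.eq [5,40] [40,5]) (.imp (.eq [6,40] [40,6]) (.or
      (.eq [40] []) (.or (.eq [40] [1]) (.or (.eq [40] [2]) (.eq [40] [2,1]))))))))) (by decide +kernel)
  simp only [Fm.sem, wv_cons, wv_nil, one_mul, upd_apply, Nat.reduceEqDiff, ↓reduceIte, F.l1, F.l2, F.l3,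
    F.l4, F.l5, F.l6, F.l7, F.l8, F.l9, F.l10, F.l11, F.l12, F.l13, F.l14, F.l15] at this
  exact this

theorem sq_T0  :
    ∀ x ∈ F.T0, x * x * x * x = 1 → (∃ v ∈ F.V, x * x = v) := by
  have := PM.holds MC_ok MC_subs F.emb (p := (.all 0 40 (.imp (.eq [40,40,40,40] []) (.ex 3 42 (.eq [40,40] [42]))))) (by decide +kernel)
  simp only [Fm.sem, wv_cons, wv_nil, one_mul, upd_apply, Nat.reduceEqDiff, ↓reduceIte, F.l1, F.l2, F.l3,
    F.l4, F.l5, F.l6, F.l7, F.l8, F.l9, F.l10, F.l11, F.l12, F.l13, F.l14, F.l15] at this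
  exact this

theorem pair_V  :
    ∀ v ∈ F.V, ∀ w ∈ F.V, v = 1 ∨ w = 1 ∨ v = w ∨ (∃ k ∈ F.S3, k * v = F.z * k ∧ k * w = F.y * k) := by
  have := PM.holds MC_ok MC_subs F.emb (p := (.all 3 42 (.all 3 41 (.or (.eq [42] []) (.or (.eq [41] []) (.or (.eq [42] [41]) (.ex 4 43 (.and
      (.eq [42,43] [43,2]) (.eq [41,43] [43,3]))))))))) (by decide +kernel)
  simp only [Fm.sem, wv_cons, wv_nil, one_mul, upd_apply, Nat.reduceEqDiff, ↓reduceIte, F.l1, F.l2, F.l3,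
    F.l4, F.l5, F.l6, F.l7, F.l8, F.l9, F.l10, F.l11, F.l12, F.l13, F.l14, F.l15] at this
  exact this

theorem t_conj  :
    ∀ x ∈ F.D0, x * x = 1 → ((∃ a ∈ F.D0, a * x = F.t * a) ∨ (∀ q ∈ F.R0, q * q * q = 1 → x * q * x
    * q * x * q = 1 → q * x * q * q * F.y = F.y * q * x * q * q)) := by
  have := PM.holds MC_ok MC_subs F.emb (p := (.all 2 40 (.imp (.eq [40,40] []) (.or (.ex 2 46 (.eq [40,46] [46,4])) (.all 1 44 (.imp (.eq
      [44,44,44] []) (.imp (.eq [44,40,44,40,44,40] []) (.eq [3,44,44,40,44] [44,44,40,44,3])))))))) (by decide +kernel)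
  simp only [Fm.sem, wv_cons, wv_nil, one_mul, upd_apply, Nat.reduceEqDiff, ↓reduceIte, F.l1, F.l2, F.l3,
    F.l4, F.l5, F.l6, F.l7, F.l8, F.l9, F.l10, F.l11, F.l12, F.l13, F.l14, F.l15] at this
  exact this

theorem sq_y  :
    ∀ x ∈ F.D0, x * x = F.y → (∃ v ∈ F.V, x = F.a1 * v ∨ x = F.e * F.a1 * v) := by
  have := PM.holds MC_ok MC_subs F.emb (p := (.all 2 40 (.imp (.eq [40,40] [3]) (.ex 3 42 (.or (.eq [40] [42,6]) (.eq [40] [42,6,1])))))) (by decide +kernel)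
  simp only [Fm.sem, wv_cons, wv_nil, one_mul, upd_apply, Nat.reduceEqDiff, ↓reduceIte, F.l1, F.l2, F.l3,
    F.l4, F.l5, F.l6, F.l7, F.l8, F.l9, F.l10, F.l11, F.l12, F.l13, F.l14, F.l15] at this
  exact this

theorem sq_z  :
    ∀ x ∈ F.D0, x * x = F.z → (∃ v ∈ F.V, x = F.a3 * v ∨ x = F.e * F.a3 * v) := by
  have := PM.holds MC_ok MC_subs F.emb (p := (.all 2 40 (.imp (.eq [40,40] [2]) (.ex 3 42 (.or (.eq [40] [42,10]) (.eq [40] [42,10,1])))))) (by decide +kernel)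
  simp only [Fm.sem, wv_cons, wv_nil, one_mul, upd_apply, Nat.reduceEqDiff, ↓reduceIte, F.l1, F.l2, F.l3,
    F.l4, F.l5, F.l6, F.l7, F.l8, F.l9, F.l10, F.l11, F.l12, F.l13, F.l14, F.l15] at this
  exact this

theorem cent_t  :
    ∀ x ∈ F.D0, x * F.t = F.t * x → (∃ v ∈ F.V, x = v ∨ x = F.e * v ∨ x = F.t * v ∨ x = F.e * F.t *
    v) := by
  have := PM.holds MC_ok MC_subs F.emb (p := (.all 2 40 (.imp (.eq [4,40] [40,4]) (.ex 3 42 (.or (.eq [40] [42]) (.or (.eq [40] [42,1]) (.or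
      (.eq [40] [42,4]) (.eq [40] [42,4,1])))))))) (by decide +kernel)
  simp only [Fm.sem, wv_cons, wv_nil, one_mul, upd_apply, Nat.reduceEqDiff, ↓reduceIte, F.l1, F.l2, F.l3,
    F.l4, F.l5, F.l6, F.l7, F.l8, F.l9, F.l10, F.l11, F.l12, F.l13, F.l14, F.l15] at this
  exact this

theorem cent_Q  :
    ∀ x ∈ F.R0, x * F.y = F.y * x → x * F.t = F.t * x → x * F.r = F.r * x → x * F.a3 = F.a3 * x → (x
    = 1 ∨ x = F.e ∨ x = F.z ∨ x = F.e * F.z) := by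
  have := PM.holds MC_ok MC_subs F.emb (p := (.all 1 40 (.imp (.eq [3,40] [40,3]) (.imp (.eq [4,40] [40,4]) (.imp (.eq [5,40] [40,5]) (.imp
      (.eq [10,40] [40,10]) (.or (.eq [40] []) (.or (.eq [40] [1]) (.or (.eq [40] [2]) (.eq [40]
      [2,1])))))))))) (by decide +kernel)
  simp only [Fm.sem, wv_cons, wv_nil, one_mul, upd_apply, Nat.reduceEqDiff, ↓reduceIte, F.l1, F.l2, F.l3,
    F.l4, F.l5, F.l6, F.l7, F.l8, F.l9, F.l10, F.l11, F.l12, F.l13, F.l14, F.l15] at this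
  exact this

theorem uniq_p  :
    ∀ x ∈ F.R0, x * x * x = 1 → x * F.y = F.t * F.a3 * x → x * F.t = F.r * x → x * F.r = F.r * F.t *
    x → x * F.a3 = F.r * F.t * F.y * F.a3 * x → x = F.p := by
  have := PM.holds MC_ok MC_subs F.emb (p := (.all 1 40 (.imp (.eq [40,40,40] []) (.imp (.eq [3,40] [40,10,4]) (.imp (.eq [4,40] [40,5])
      (.imp (.eq [5,40] [40,4,5]) (.imp (.eq [10,40] [40,10,3,4,5]) (.eq [40] [14])))))))) (by decide +kernel)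
  simp only [Fm.sem, wv_cons, wv_nil, one_mul, upd_apply, Nat.reduceEqDiff, ↓reduceIte, F.l1, F.l2, F.l3,
    F.l4, F.l5, F.l6, F.l7, F.l8, F.l9, F.l10, F.l11, F.l12, F.l13, F.l14, F.l15] at this
  exact this

theorem cent_y12  :
    ∀ x ∈ F.D0, x * F.t * F.a1 = F.t * F.a1 * x → x * F.t * F.a2 = F.t * F.a2 * x → F.r * x * F.r *
    x = 1 → (x = 1 ∨ x = F.e ∨ x = F.z ∨ x = F.e * F.z) := by
  have := PM.holds MC_ok MC_subs F.emb (p := (.all 2 40 (.imp (.eq [6,4,40] [40,6,4]) (.imp (.eq [8,4,40] [40,8,4]) (.imp (.eq [40,5,40,5]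
      []) (.or (.eq [40] []) (.or (.eq [40] [1]) (.or (.eq [40] [2]) (.eq [40] [2,1]))))))))) (by decide +kernel)
  simp only [Fm.sem, wv_cons, wv_nil, one_mul, upd_apply, Nat.reduceEqDiff, ↓reduceIte, F.l1, F.l2, F.l3,
    F.l4, F.l5, F.l6, F.l7, F.l8, F.l9, F.l10, F.l11, F.l12, F.l13, F.l14, F.l15] at this
  exact this

theorem ta3_conj  :
    ∀ v ∈ F.V, ∃ k ∈ F.R0, k * F.y = F.t * F.a3 * v * k := by
  have := PM.holds MC_ok MC_subs F.emb (p := (.all 3 42 (.ex 1 43 (.eq [3,43] [43,42,10,4])))) (by decide +kernel)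
  simp only [Fm.sem, wv_cons, wv_nil, one_mul, upd_apply, Nat.reduceEqDiff, ↓reduceIte, F.l1, F.l2, F.l3,
    F.l4, F.l5, F.l6, F.l7, F.l8, F.l9, F.l10, F.l11, F.l12, F.l13, F.l14, F.l15] at this
  exact this

theorem cent_g  :
    ∀ x ∈ F.D0, x * F.g = F.g * x → (x = 1 ∨ x = F.e ∨ x = F.t ∨ x = F.e * F.t) := by
  have := PM.holds MC_ok MC_subs F.emb (p := (.all 2 40 (.imp (.eq [12,40] [40,12]) (.or (.eq [40] []) (.or (.eq [40] [1]) (.or (.eq [40]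
      [4]) (.eq [40] [4,1]))))))) (by decide +kernel)
  simp only [Fm.sem, wv_cons, wv_nil, one_mul, upd_apply, Nat.reduceEqDiff, ↓reduceIte, F.l1, F.l2, F.l3,
    F.l4, F.l5, F.l6, F.l7, F.l8, F.l9, F.l10, F.l11, F.l12, F.l13, F.l14, F.l15] at this
  exact this

theorem cent_gd  :
    ∀ d ∈ F.D0, ∀ x ∈ F.D0, x * F.g * d = F.g * d * x → x * x = 1 → (x = 1 ∨ (∃ k ∈ F.D0, k * F.e =
    x * k ∨ k * F.t = x * k ∨ k * F.e * F.t = x * k)) := by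
  have := PM.holds MC_ok MC_subs F.emb (p := (.all 2 45 (.all 2 40 (.imp (.eq [45,12,40] [40,45,12]) (.imp (.eq [40,40] []) (.or (.eq [40]
      []) (.ex 2 43 (.or (.eq [1,43] [43,40]) (.or (.eq [4,43] [43,40]) (.eq [4,1,43] [43,40])))))))))) (by decide +kernel)
  simp only [Fm.sem, wv_cons, wv_nil, one_mul, upd_apply, Nat.reduceEqDiff, ↓reduceIte, F.l1, F.l2, F.l3,
    F.l4, F.l5, F.l6, F.l7, F.l8, F.l9, F.l10, F.l11, F.l12, F.l13, F.l14, F.l15] at this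
  exact this

theorem std_p0  :
    ∃ q ∈ F.R1, q * q * q = 1 ∧ q * F.y = F.t * F.a3 * q ∧ q * F.t = F.r * q ∧ q * F.r = F.r * F.t *
    q ∧ q * F.a3 = F.r * F.t * F.y * F.a3 * q ∧ (∀ x ∈ F.R0, x * x * x = 1 → x * F.y = F.t * F.a3 *
    x → x * F.t = F.r * x → x * F.r = F.r * F.t * x → x * F.a3 = F.r * F.t * F.y * F.a3 * x → x = q) := by
  have := PM.holds MC_ok MC_subs F.emb (p := (.ex 5 44 (.and (.eq [44,44,44] []) (.and (.eq [3,44] [44,10,4]) (.and (.eq [4,44] [44,5]) (.and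
      (.eq [5,44] [44,4,5]) (.and (.eq [10,44] [44,10,3,4,5]) (.all 1 40 (.imp (.eq [40,40,40] [])
      (.imp (.eq [3,40] [40,10,4]) (.imp (.eq [4,40] [40,5]) (.imp (.eq [5,40] [40,4,5]) (.imp (.eq
      [10,40] [40,10,3,4,5]) (.eq [40] [44])))))))))))))) (by decide +kernel)
  simp only [Fm.sem, wv_cons, wv_nil, one_mul, upd_apply, Nat.reduceEqDiff, ↓reduceIte, F.l1, F.l2, F.l3,
    F.l4, F.l5, F.l6, F.l7, F.l8, F.l9, F.l10, F.l11, F.l12, F.l13, F.l14, F.l15] at this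
  exact this

theorem std_p1  :
    ∃ q ∈ F.R1, q * q * q = 1 ∧ q * F.y = F.t * F.a3 * F.z * q ∧ q * F.t = F.r * q ∧ q * F.r = F.r *
    F.t * q ∧ q * F.a3 * F.z = F.r * F.t * F.y * F.a3 * F.z * q ∧ (∀ x ∈ F.R0, x * x * x = 1 → x *
    F.y = F.t * F.a3 * F.z * x → x * F.t = F.r * x → x * F.r = F.r * F.t * x → x * F.a3 * F.z = F.r
    * F.t * F.y * F.a3 * F.z * x → x = q) := by
  have := PM.holds MC_ok MC_subs F.emb (p := (.ex 5 44 (.and (.eq [44,44,44] []) (.and (.eq [3,44] [44,2,10,4]) (.and (.eq [4,44] [44,5])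
      (.and (.eq [5,44] [44,4,5]) (.and (.eq [2,10,44] [44,2,10,3,4,5]) (.all 1 40 (.imp (.eq
      [40,40,40] []) (.imp (.eq [3,40] [40,2,10,4]) (.imp (.eq [4,40] [40,5]) (.imp (.eq [5,40]
      [40,4,5]) (.imp (.eq [2,10,40] [40,2,10,3,4,5]) (.eq [40] [44])))))))))))))) (by decide +kernel)
  simp only [Fm.sem, wv_cons, wv_nil, one_mul, upd_apply, Nat.reduceEqDiff, ↓reduceIte, F.l1, F.l2, F.l3,
    F.l4, F.l5, F.l6, F.l7, F.l8, F.l9, F.l10, F.l11, F.l12, F.l13, F.l14, F.l15] at this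
  exact this

theorem std_p2  :
    ∃ q ∈ F.R1, q * q * q = 1 ∧ q * F.y = F.t * F.a3 * F.y * q ∧ q * F.t = F.t * F.r * q ∧ q * F.t *
    F.r = F.t * F.r * F.t * q ∧ q * F.a3 * F.y = F.t * F.r * F.t * F.y * F.a3 * F.y * q ∧ (∀ x ∈
    F.R0, x * x * x = 1 → x * F.y = F.t * F.a3 * F.y * x → x * F.t = F.t * F.r * x → x * F.t * F.r =
    F.t * F.r * F.t * x → x * F.a3 * F.y = F.t * F.r * F.t * F.y * F.a3 * F.y * x → x = q) := by
  have := PM.holds MC_ok MC_subs F.emb (p := (.ex 5 44 (.and (.eq [44,44,44] []) (.and (.eq [3,44] [44,3,10,4]) (.and (.eq [4,44] [44,5,4])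
      (.and (.eq [5,4,44] [44,4,5,4]) (.and (.eq [3,10,44] [44,3,10,3,4,5,4]) (.all 1 40 (.imp (.eq
      [40,40,40] []) (.imp (.eq [3,40] [40,3,10,4]) (.imp (.eq [4,40] [40,5,4]) (.imp (.eq [5,4,40]
      [40,4,5,4]) (.imp (.eq [3,10,40] [40,3,10,3,4,5,4]) (.eq [40] [44])))))))))))))) (by decide +kernel)
  simp only [Fm.sem, wv_cons, wv_nil, one_mul, upd_apply, Nat.reduceEqDiff, ↓reduceIte, F.l1, F.l2, F.l3,
    F.l4, F.l5, F.l6, F.l7, F.l8, F.l9, F.l10, F.l11, F.l12, F.l13, F.l14, F.l15] at this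
  exact this

theorem std_p3  :
    ∃ q ∈ F.R1, q * q * q = 1 ∧ q * F.y = F.t * F.a3 * F.y * F.z * q ∧ q * F.t = F.t * F.r * q ∧ q *
    F.t * F.r = F.t * F.r * F.t * q ∧ q * F.a3 * F.y * F.z = F.t * F.r * F.t * F.y * F.a3 * F.y *
    F.z * q ∧ (∀ x ∈ F.R0, x * x * x = 1 → x * F.y = F.t * F.a3 * F.y * F.z * x → x * F.t = F.t *
    F.r * x → x * F.t * F.r = F.t * F.r * F.t * x → x * F.a3 * F.y * F.z = F.t * F.r * F.t * F.y *
    F.a3 * F.y * F.z * x → x = q) := by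
  have := PM.holds MC_ok MC_subs F.emb (p := (.ex 5 44 (.and (.eq [44,44,44] []) (.and (.eq [3,44] [44,2,3,10,4]) (.and (.eq [4,44] [44,5,4])
      (.and (.eq [5,4,44] [44,4,5,4]) (.and (.eq [2,3,10,44] [44,2,3,10,3,4,5,4]) (.all 1 40 (.imp
      (.eq [40,40,40] []) (.imp (.eq [3,40] [40,2,3,10,4]) (.imp (.eq [4,40] [40,5,4]) (.imp (.eq
      [5,4,40] [40,4,5,4]) (.imp (.eq [2,3,10,40] [40,2,3,10,3,4,5,4]) (.eq [40] [44])))))))))))))) (by decide +kernel)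
  simp only [Fm.sem, wv_cons, wv_nil, one_mul, upd_apply, Nat.reduceEqDiff, ↓reduceIte, F.l1, F.l2, F.l3,
    F.l4, F.l5, F.l6, F.l7, F.l8, F.l9, F.l10, F.l11, F.l12, F.l13, F.l14, F.l15] at this
  exact this

end CF

end Cfsg.Lib.Co3M
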