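import Cfsg.Agent.Co3M.ModC

/-! Facts on the group `2 × M₁₂`, decided in the model. -/

set_option autoImplicit false
set_option maxRecDepth 100000
set_option linter.unusedSimpArgs false
set_option maxHeartbeats 1000000

namespace Cfsg.Lib.Co3M

open Subgroup Cfsg.Lib.Spor Cfsg.Lib.Spor.Bulk Cfsg.Lib.Spor.PK Cfsg.Lib.Spor.WF

variable {G : Type*} [Group G]

namespace CF

variable (F : CF G)

theorem rank  :
    ∀ a ∈ F.T1, a * a = 1 → (a = 1 ∨ (∀ b ∈ F.T1, b * b = 1 → a * b = b * a → (b = 1 ∨ b = a ∨ (∀ c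
    ∈ F.T1, c * c = 1 → a * c = c * a → b * c = c * b → (c = 1 ∨ c = a ∨ c = b ∨ c = a * b ∨ (∀ d ∈
    F.T1, d * d = 1 → a * d = d * a → b * d = d * b → c * d = d * c → (d = 1 ∨ d = a ∨ d = b ∨ d = a
    * b ∨ d = c ∨ d = a * c ∨ d = b * c ∨ d = a * b * c))))))) := by
  have := PM.holds MC_ok MC_subs F.emb (p := (.all 6 46 (.imp (.eq [46,46] []) (.or (.eq [46] []) (.all 6 47 (.imp (.eq [47,47] []) (.imp
      (.eq [47,46] [46,47]) (.or (.eq [47] []) (.or (.eq [47] [46]) (.all 6 48 (.imp (.eq [48,48] [])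
      (.imp (.eq [48,46] [46,48]) (.imp (.eq [48,47] [47,48]) (.or (.eq [48] []) (.or (.eq [48] [46])
      (.or (.eq [48] [47]) (.or (.eq [48] [47,46]) (.all 6 45 (.imp (.eq [45,45] []) (.imp (.eq
      [45,46] [46,45]) (.imp (.eq [45,47] [47,45]) (.imp (.eq [45,48] [48,45]) (.or (.eq [45] []) (.or
      (.eq [45] [46]) (.or (.eq [45] [47]) (.or (.eq [45] [47,46]) (.or (.eq [45] [48]) (.or (.eq [45]
      [48,46]) (.or (.eq [45] [48,47]) (.eq [45] [48,47,46])))))))))))))))))))))))))))))) (by decide +kernel)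
  simp only [Fm.sem, wv_cons, wv_nil, one_mul, upd_apply, Nat.reduceEqDiff, ↓reduceIte, F.l1, F.l2, F.l3,
    F.l4, F.l5, F.l6, F.l7, F.l8, F.l9, F.l10, F.l11, F.l12, F.l13, F.l14, F.l15] at this
  exact this

end CF

end Cfsg.Lib.Co3M
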