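import Cfsg.Agent.Co3M.Kit
import Cfsg.Agent.Co3M.FactC
import Cfsg.Agent.Co3M.RankC

/-! First fusion results for a group with an involution centralizer `2 × M₁₂`. -/

set_option autoImplicit false
set_option linter.unusedSimpArgs false

namespace Cfsg.Lib.Co3M

open Subgroup Cfsg.Lib.Trans Cfsg.Lib.Spor Cfsg.Lib.Spor.Bulk Cfsg.Lib.Spor.PK Cfsg.Lib.Spor.WF

variable {G : Type*} [Group G]

namespace CF

variable (F : CF G)

theorem ws : F.e = wv F.g0 [1] ∧ F.z = wv F.g0 [2] ∧ F.y = wv F.g0 [3] ∧ F.t = wv F.g0 [4] ∧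
    F.r = wv F.g0 [5] ∧ F.a1 = wv F.g0 [6] ∧ F.a2 = wv F.g0 [8] ∧ F.a3 = wv F.g0 [10] ∧
    F.g = wv F.g0 [12] ∧ F.p = wv F.g0 [14] :=
  ⟨w_let _ _, w_let _ _, w_let _ _, w_let _ _, w_let _ _, w_let _ _, w_let _ _, w_let _ _,
    w_let _ _, w_let _ _⟩

/-- decide an equation between words in the model -/
macro "cw " F:term : tactic =>
  `(tactic| (simp (disch := decide +kernel) only [CF.ws $F, w_mul, w_one (CF.g0 $F),
      w_inv (CF.sat $F)] <;> first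
        | (refine w_eq MC_ok (CF.emb $F) ?_; decide +kernel)
        | (refine w_ne MC_ok (CF.emb $F) ?_; decide +kernel)))

/-- the conjugates of `e` -/
def X (x : G) : Prop := IsConj F.e x

variable {F}

theorem X.conj {x k y : G} (h : F.X x) (e : k * x = y * k) : F.X y := h.trans (conj_of_mul e)

theorem X.cj {x : G} (h : F.X x) (k : G) : F.X (k * x * k⁻¹) := h.conj (k := k) (by group)

theorem X.sq {x : G} (h : F.X x) : x * x = 1 := by
  obtain ⟨k, rfl⟩ := isConj_iff.1 h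
  rw [conj_mul, F.sq.1]; simp

theorem X.ne_one {x : G} (h : F.X x) : x ≠ 1 := by
  rintro rfl
  exact F.ne.1 (isConj_one_left.1 h)

theorem memC {x : G} : x ∈ F.C ↔ x * F.e = F.e * x := by
  rw [C, F.cent, mem_centralizer_singleton_iff]; rfl

variable (F)

theorem Xe : F.X F.e := IsConj.refl _

theorem sub_le_C {W : List (List ℕ)} (h : ∀ L ∈ W, L ∈ MB.W 0) : sub F.g0 W ≤ F.C :=
  sub_le fun L hL => wv_mem_sub _ (h L hL)

theorem M_le : F.M ≤ F.C := F.sub_le_C (by decide +kernel)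
theorem T0_le : F.T0 ≤ F.C := F.sub_le_C (by decide +kernel)
theorem R0_le : F.R0 ≤ F.C := F.sub_le_C (by decide +kernel)
theorem D0_le : F.D0 ≤ F.C := F.sub_le_C (by decide +kernel)
theorem S3_le : F.S3 ≤ F.C := F.sub_le_C (by decide +kernel)
theorem T1_le : F.T1 ≤ F.M := sub_le fun L hL => wv_mem_sub _ (by revert L; decide +kernel)
theorem R1_le : F.R1 ≤ F.R0 := sub_le fun L hL => wv_mem_sub _ (by revert L; decide +kernel)
theorem V_le : F.V ≤ F.M := sub_le fun L hL => wv_mem_sub _ (by revert L; decide +kernel)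
theorem V_leD : F.V ≤ F.D0 := sub_le fun L hL => wv_mem_sub _ (by revert L; decide +kernel)

theorem conj_e {x : G} (h : x ∈ F.C) : F.e * x * F.e = x := by
  rw [← memC.1 h, mul_assoc, F.sq.1, mul_one]

theorem mem_or {x : G} (h : x ∈ F.C) : x ∈ F.M ∨ F.e * x ∈ F.M :=
  mem_or_mul_mem F.sq.1 (fun x hx => by rwa [F.conj_e (F.M_le hx)]) (fun L hL => by
    have : ∀ L ∈ MB.W 0, L = [1] ∨ L ∈ MB.W 1 := by decide +kernel
    exact (this L hL).imp (fun e => by rw [e]; exact F.ws.1.symm) (wv_mem_sub _)) h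

theorem mem_or_T {x : G} (h : x ∈ F.T0) : x ∈ F.T1 ∨ F.e * x ∈ F.T1 :=
  mem_or_mul_mem F.sq.1 (fun x hx => by rwa [F.conj_e (F.M_le (F.T1_le hx))]) (fun L hL => by
    have : ∀ L ∈ MC.W 0, L = [1] ∨ L ∈ MC.W 6 := by decide +kernel
    exact (this L hL).imp (fun e => by rw [e]; exact F.ws.1.symm) (wv_mem_sub _)) h

theorem e_nM [Finite G] : F.e ∉ F.M := fun h => by
  have : F.C ≤ F.M := fun x hx => (F.mem_or hx).elim id fun h' => (mul_mem_cancel_left h).1 h'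
  have := Subgroup.card_le_of_le this
  rw [F.card_C, F.card_M] at this
  omega

theorem comm_mem {a b : G} (ha : a ∈ F.C) (hb : b ∈ F.C) : a * b * a⁻¹ * b⁻¹ ∈ F.M := by
  have k : ∀ x ∈ F.C, ∃ m ∈ F.M, ∀ w ∈ F.C, x * w * x⁻¹ = m * w * m⁻¹ := fun x hx =>
    (F.mem_or hx).elim (fun h => ⟨x, h, fun _ _ => rfl⟩) fun h => ⟨_, h, fun w hw => by
      rw [← F.conj_e (mul_mem (mul_mem hx hw) (inv_mem hx)), mul_inv_rev,
        inv_eq_of_mul_eq_one_right F.sq.1]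
      group⟩
  obtain ⟨m, hm, h1⟩ := k a ha
  obtain ⟨n, hn, h2⟩ := k b hb
  rw [h1 b hb, show m * b * m⁻¹ * b⁻¹ = m * (b * m⁻¹ * b⁻¹) by group, h2 _ (inv_mem (F.M_le hm))]
  exact mul_mem hm (mul_mem (mul_mem hn (inv_mem hm)) (inv_mem hn))

theorem sq_mem {x : G} (h : x ∈ F.C) : x * x ∈ F.M := by
  rcases F.mem_or h with a | a
  · exact mul_mem a a
  · have := mul_mem a a
    rwa [← mul_assoc, F.conj_e h] at this

variable {F} in
theorem X.nsq [Finite G] {x w : G} (h : F.X x) : w * w ≠ x := by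
  obtain ⟨k, rfl⟩ := isConj_iff.1 h
  intro e
  have h1 : k⁻¹ * w * k * (k⁻¹ * w * k) = F.e := by
    calc _ = k⁻¹ * (w * w) * k := by group
      _ = _ := by rw [e]; group
  exact F.e_nM (h1 ▸ F.sq_mem (memC.2 (by rw [← h1]; simp only [mul_assoc])))

theorem nX_V [Finite G] {v : G} (hv : v ∈ F.V) : ¬ F.X v := fun h => by
  rcases F.v_cases v hv with rfl | rfl | rfl | rfl
  · exact h.ne_one rfl
  · exact h.nsq F.sq.2.2.2.2.2.2.2.2.2
  · exact h.nsq F.sq.2.2.2.2.2.2.2.1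
  · exact h.nsq F.sq.2.2.2.2.2.2.2.2.1

theorem zV : F.z ∈ F.V := let_mem _ 2 (by decide +kernel)
theorem yV : F.y ∈ F.V := let_mem _ 3 (by decide +kernel)

theorem nX_ta3 [Finite G] {v : G} (hv : v ∈ F.V) : ¬ F.X (F.t * F.a3 * v) := fun h => by
  obtain ⟨k, -, e⟩ := F.ta3_conj v hv
  exact F.nX_V F.yV (h.trans (conj_of_mul e).symm)

theorem memR0 [Finite G] {x : G} (h1 : x * F.e = F.e * x) (h2 : x * F.z = F.z * x) : x ∈ F.R0 := by
  have h3 : F.R0 ≤ F.C ⊓ centralizer {F.z} := le_inf F.R0_le (sub_le fun L hL => by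
    rw [mem_centralizer_singleton_iff]
    simp only [PM.W, List.getD_cons_succ, List.getD_cons_zero, List.mem_cons, List.not_mem_nil,
      or_false] at hL
    rcases hL with rfl | rfl | rfl | rfl | rfl | rfl | rfl | rfl | rfl <;> cw F)
  rw [eq_of_le_of_card_ge h3 (by rw [F.card_Cz, F.card_R0])]
  exact ⟨memC.2 h1, mem_centralizer_singleton_iff.2 h2⟩

theorem memD0 [Finite G] {x : G} (h1 : x * F.e = F.e * x) (h2 : x * F.z = F.z * x)
    (h3 : x * F.y = F.y * x) : x ∈ F.D0 := by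
  obtain ⟨d, hd, rfl⟩ := F.mem_D0 x (F.memR0 h1 h2) h3
  exact hd

theorem sylT0 [Finite G] : IsSylowIn 2 F.T0 F.C :=
  sylow_of_card (n := 7) (m := 1485) F.T0_le F.card_T0 F.card_C (by norm_num)

theorem memT0 : F.e ∈ F.T0 ∧ F.t ∈ F.T0 ∧ F.r ∈ F.T0 ∧ F.a1 ∈ F.T0 :=
  ⟨let_mem _ 1 (by decide +kernel), let_mem _ 4 (by decide +kernel),
    let_mem _ 5 (by decide +kernel), let_mem _ 6 (by decide +kernel)⟩

theorem not_sylow [Finite G] (hO : ∀ K : Subgroup G, K.index = 2 → F.e ∈ K) :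
    ¬ IsSylowIn 2 F.T0 ⊤ := fun h => by
  obtain ⟨n, h1, h2⟩ := parity hO F.sq.1 F.M
  have h3 : 2 ∣ {w | IsConj F.e w ∧ w ∈ F.M}.ncard := by
    by_contra ho
    obtain ⟨w, ⟨hw, hm⟩, hc⟩ := exists_fixed (S := {w | IsConj F.e w ∧ w ∈ F.M})
      (isPGroup_of_card (n := 6) F.card_T1) (fun k hk w hw => ⟨X.cj hw.1 k, mul_mem (mul_mem (F.T1_le hk) hw.2)
        (inv_mem (F.T1_le hk))⟩) ho
    have k : ∀ l, [l] ∈ MC.W 6 → w * F.g0 l = F.g0 l * w := fun l hl =>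
      (hc _ (let_mem _ l hl)).symm
    rcases F.cent_Q w (F.memR0 (memC.1 (F.M_le hm)) (k 2 (by decide +kernel)))
      (k 3 (by decide +kernel)) (k 4 (by decide +kernel)) (k 5 (by decide +kernel))
      (k 10 (by decide +kernel)) with rfl | rfl | rfl | rfl
    · exact X.ne_one hw rfl
    · exact F.e_nM hm
    · exact F.nX_V F.zV hw
    · exact F.e_nM ((mul_mem_cancel_right (F.V_le F.zV)).1 hm)
  have h4 : Nat.card (centralizer ({F.e} : Set G)) = 190080 := by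
    rw [← F.card_C, C, F.cent]; rfl
  have h5 := F.M.index_mul_card
  have h6 := F.T0.index_mul_card
  have h7 := h.not_dvd
  rw [relIndex_top_right] at h7
  rw [h4, F.card_M] at h1
  rw [F.card_M] at h5
  rw [F.card_T0] at h6
  omega

theorem Xez [Finite G] (hO : ∀ K : Subgroup G, K.index = 2 → F.e ∈ K) : F.X (F.e * F.z) := by
  obtain ⟨S, hS, hTS, g, hg, hg', hn⟩ := exists_norm le_top F.sylT0.isPGroup (F.not_sylow hO)
  have k : ∀ x ∈ F.T0, g * F.e * g⁻¹ * x = x * (g * F.e * g⁻¹) := fun x hx => by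
    have := memC.1 (F.T0_le (hn x hx).2)
    calc _ = g * (F.e * (g⁻¹ * x * g)) * g⁻¹ := by group
      _ = _ := by rw [← this]; group
  have hX := F.Xe.cj g
  rcases F.z_T0 _ (hn _ F.memT0.1).1 (k _ F.memT0.2.1) (k _ F.memT0.2.2.1) (k _ F.memT0.2.2.2)
    with e | e | e | e
  · exact absurd e hX.ne_one
  · exact absurd ((F.sylT0.eq_inf hS.isPGroup hTS).le
      ⟨hg, memC.2 (mul_inv_eq_iff_eq_mul.1 e)⟩) hg'
  · exact absurd (e ▸ hX) (F.nX_V F.zV)
  · exact e ▸ hX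

variable {F} in
/-- conjugate a `2`-subgroup of the centralizer of a conjugate of `e` into `T0` -/
theorem X.into [Finite G] {x : G} (h : F.X x) {P : Subgroup G} (hP : IsPGroup 2 P)
    (hc : P ≤ centralizer {x}) : ∃ k, k * x * k⁻¹ = F.e ∧ ∀ w ∈ P, k * w * k⁻¹ ∈ F.T0 := by
  obtain ⟨k, rfl⟩ := isConj_iff.1 h
  obtain ⟨c, hc, e⟩ := F.sylT0.exists_cj_le (isPGroup_cj hP k⁻¹) (cj_le_iff.2 fun w hw => by
    have := mem_centralizer_singleton_iff.1 (hc hw)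
    refine memC.2 ?_
    calc _ = k⁻¹ * (w * (k * F.e * k⁻¹)) * k := by group
      _ = _ := by rw [this]; group)
  refine ⟨c * k⁻¹, ?_, fun w hw => by rw [cj_cj] at e; exact cj_le_iff.1 e w hw⟩
  calc _ = c * F.e * c⁻¹ := by group
    _ = _ := by rw [memC.1 hc]; group

variable {F} in
theorem X.conjV [Finite G] {x q1 q2 : G} (h : F.X x) (h1 : q1 * q1 = F.z) (h2 : q2 * q2 = F.y)
    (h3 : q1 * q2 = q2 * q1) (h4 : q1 * x = x * q1) (h5 : q2 * x = x * q2) :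
    ∃ k, k * x = F.e * k ∧ k * F.z = F.z * k ∧ k * F.y = F.y * k := by
  have p4 : ∀ a : G, a ^ 4 = a * a * (a * a) := fun a => by simp [pow_succ, mul_assoc]
  obtain ⟨k, e, hk⟩ := h.into (isPGroup_closure (S := {q1, q2})
    (by rintro a (rfl | rfl) b (rfl | rfl) <;> first | rfl | exact h3 | exact h3.symm)
    (by rintro a (rfl | rfl); rw [p4, h1, F.sq.2.1]; rw [p4, h2, F.sq.2.2.1]))
    ((closure_le _).2 (by rintro a (rfl | rfl) <;> exact mem_centralizer_singleton_iff.2 ‹_›))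
  have key : ∀ q ∈ closure {q1, q2}, q * q * (q * q) = 1 → k * (q * q) * k⁻¹ ∈ F.V :=
    fun q hq e => by
      obtain ⟨v, hv, e'⟩ := F.sq_T0 _ (hk q hq) (by
        calc _ = k * (q * q * (q * q)) * k⁻¹ := by simp only [mul_assoc, inv_mul_cancel_left]
          _ = 1 := by rw [e]; simp)
      rwa [← e', conj_mul] at hv
  have hz := key q1 (subset_closure (by simp)) (by rw [h1, F.sq.2.1])
  have hy := key q2 (subset_closure (by simp)) (by rw [h2, F.sq.2.2.1])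
  rw [h1] at hz
  rw [h2] at hy
  rcases F.pair_V _ hz _ hy with a | a | a | ⟨c, hc, a, b⟩
  · exact absurd (conj_eq_one_iff.1 a) F.ne.2.1
  · exact absurd (conj_eq_one_iff.1 a) F.ne.2.2.1
  · exact absurd (by simpa using a.symm) F.ne.2.2.2.1
  · refine ⟨c * k, ?_, ?_, ?_⟩
    · rw [mul_assoc, mul_inv_eq_iff_eq_mul.1 e, ← mul_assoc, memC.1 (F.S3_le hc), mul_assoc]
    · rw [← mul_assoc, ← a]; group
    · rw [← mul_assoc, ← b]; group

theorem rankT0 [Finite G] {a b c d : G} (ha : a ∈ F.T0) (hb : b ∈ F.T0) (hc : c ∈ F.T0)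
    (hd : d ∈ F.T0) (hs : a * a = 1 ∧ b * b = 1 ∧ c * c = 1 ∧ d * d = 1)
    (hk : a * b = b * a ∧ a * c = c * a ∧ b * c = c * b ∧ a * d = d * a ∧ b * d = d * b ∧
      c * d = d * c) {H : Subgroup G} (he : F.e ∈ H) (haH : a ∈ H) (hbH : b ∈ H) :
    (a = 1 ∨ a = F.e ∨ b = 1 ∨ b = F.e ∨ a * b = 1 ∨ a * b = F.e) ∨ c ∈ H ∨ d ∈ H ∨ c * d ∈ H := by
  have k : ∀ x ∈ F.T0, ∃ u, (u = 1 ∨ u = F.e) ∧ u * x ∈ F.T1 := fun x hx =>
    (F.mem_or_T hx).elim (fun h => ⟨1, Or.inl rfl, by rwa [one_mul]⟩) fun h => ⟨_, Or.inr rfl, h⟩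
  have cu : ∀ {u x : G}, (u = 1 ∨ u = F.e) → x ∈ F.T0 → Commute u x := fun hu hx =>
    hu.elim (fun e => e ▸ Commute.one_left _) fun e => e ▸ (memC.1 (F.T0_le hx)).symm
  have uT : ∀ {u : G}, (u = 1 ∨ u = F.e) → u ∈ F.T0 ∧ u ∈ H ∧ u * u = 1 := fun hu =>
    hu.elim (fun e => by simp [e]) fun e => e ▸ ⟨F.memT0.1, he, F.sq.1⟩
  have cm : ∀ {u v x y : G}, (u = 1 ∨ u = F.e) → (v = 1 ∨ v = F.e) → x ∈ F.T0 → y ∈ F.T0 →
      Commute x y → Commute (u * x) (v * y) := fun hu hv hx hy h =>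
    ((cu hu (uT hv).1).mul_right (cu hu hy)).mul_left ((cu hv hx).symm.mul_right h)
  have sq : ∀ {u x : G}, (u = 1 ∨ u = F.e) → x ∈ F.T0 → x * x = 1 → u * x * (u * x) = 1 :=
    fun hu hx h => by rw [(cu hu hx).symm.mul_mul_mul_comm, (uT hu).2.2, h, one_mul]
  have ex : ∀ {u x : G}, (u = 1 ∨ u = F.e) → u * x = 1 → x = 1 ∨ x = F.e := fun hu h =>
    hu.imp (fun e => by simpa [e] using h) fun e =>
      mul_left_cancel ((e ▸ h).trans F.sq.1.symm)
  obtain ⟨s1, s2, s3, s4⟩ := hs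
  obtain ⟨c1, c2, c3, c4, c5, c6⟩ := hk
  obtain ⟨u1, hu1, ha'⟩ := k a ha
  obtain ⟨u2, hu2, hb'⟩ := k b hb
  obtain ⟨u3, hu3, hc'⟩ := k c hc
  obtain ⟨u4, hu4, hd'⟩ := k d hd
  have ma := mul_mem (uT hu1).2.1 haH
  have mb := mul_mem (uT hu2).2.1 hbH
  have mc : u3 * c ∈ H → c ∈ H := (mul_mem_cancel_left (uT hu3).2.1).1
  have md : u4 * d ∈ H → d ∈ H := (mul_mem_cancel_left (uT hu4).2.1).1
  have mcd : ∀ w ∈ H, u4 * d = w * (u3 * c) → c * d ∈ H := fun w hw e => by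
    have : c * d = u4⁻¹ * w * u3 := by
      rw [c6, show d = u4⁻¹ * w * u3 * c by rw [mul_assoc, mul_assoc, ← e]; group, mul_assoc, s3,
        mul_one]
    exact this ▸ mul_mem (mul_mem (inv_mem (uT hu4).2.1) hw) (uT hu3).2.1
  rcases F.rank _ ha' (sq hu1 ha s1) with e | h
  · exact Or.inl ((ex hu1 e).elim Or.inl fun e => Or.inr (Or.inl e))
  rcases h _ hb' (sq hu2 hb s2) (cm hu1 hu2 ha hb c1) with e | e | h
  · exact Or.inl (Or.inr (Or.inr ((ex hu2 e).elim Or.inl fun e => Or.inr (Or.inl e))))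
  · refine Or.inl (Or.inr (Or.inr (Or.inr (Or.inr (ex (u := u1 * u2) ?_ ?_)))))
    · rcases hu1 with rfl | rfl <;> rcases hu2 with rfl | rfl <;> simp [F.sq.1]
    · rw [← (cu hu2 ha).symm.mul_mul_mul_comm, e, sq hu1 ha s1]
  refine Or.inr ?_
  rcases h _ hc' (sq hu3 hc s3) (cm hu1 hu3 ha hc c2) (cm hu2 hu3 hb hc c3) with e | e | e | e | h
  · exact Or.inl (mc (e ▸ one_mem _))
  · exact Or.inl (mc (e ▸ ma))
  · exact Or.inl (mc (e ▸ mb))
  · exact Or.inl (mc (e ▸ mul_mem ma mb))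
  refine Or.inr ?_
  rcases h _ hd' (sq hu4 hd s4) (cm hu1 hu4 ha hd c4) (cm hu2 hu4 hb hd c5) (cm hu3 hu4 hc hd c6)
    with e | e | e | e | e | e | e | e
  · exact Or.inl (md (e ▸ one_mem _))
  · exact Or.inl (md (e ▸ ma))
  · exact Or.inl (md (e ▸ mb))
  · exact Or.inl (md (e ▸ mul_mem ma mb))
  · exact Or.inr (mcd 1 (one_mem _) (by rw [e, one_mul]))
  · exact Or.inr (mcd _ ma e)
  · exact Or.inr (mcd _ mb e)
  · exact Or.inr (mcd _ (mul_mem ma mb) e)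

variable {F} in
/-- The centralizer of a conjugate of `e` has `2`-rank four. -/
theorem X.rank [Finite G] {x a b c d : G} (h : F.X x)
    (hs : a * a = 1 ∧ b * b = 1 ∧ c * c = 1 ∧ d * d = 1)
    (hx : a * x = x * a ∧ b * x = x * b ∧ c * x = x * c ∧ d * x = x * d)
    (hk : a * b = b * a ∧ a * c = c * a ∧ b * c = c * b ∧ a * d = d * a ∧ b * d = d * b ∧
      c * d = d * c) {H : Subgroup G} (he : x ∈ H) (haH : a ∈ H) (hbH : b ∈ H) :
    (a = 1 ∨ a = x ∨ b = 1 ∨ b = x ∨ a * b = 1 ∨ a * b = x) ∨ c ∈ H ∨ d ∈ H ∨ c * d ∈ H := by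
  have p4 : ∀ a : G, a * a = 1 → a ^ 4 = 1 := fun a h => by simp [pow_succ, h]
  obtain ⟨s1, s2, s3, s4⟩ := hs
  obtain ⟨x1, x2, x3, x4⟩ := hx
  obtain ⟨c1, c2, c3, c4, c5, c6⟩ := hk
  obtain ⟨k, e, hk⟩ := h.into (isPGroup_closure (S := {a, b, c, d})
    (by rintro x (rfl | rfl | rfl | rfl) y (rfl | rfl | rfl | rfl) <;>
      first | rfl | assumption | (symm; assumption))
    (by rintro x (rfl | rfl | rfl | rfl) <;> exact p4 _ ‹_›))
    ((closure_le _).2 (by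
      rintro y (rfl | rfl | rfl | rfl) <;> exact mem_centralizer_singleton_iff.2 ‹_›))
  have := F.rankT0 (hk a (subset_closure (by simp))) (hk b (subset_closure (by simp)))
    (hk c (subset_closure (by simp))) (hk d (subset_closure (by simp)))
    (by simp [s1, s2, s3, s4]) (by simp only [conj_mul, c1, c2, c3, c4, c5, c6, and_self])
    (H := Trans.cj k H) (e ▸ conj_mem_cj.2 he) (conj_mem_cj.2 haH) (conj_mem_cj.2 hbH)
  simpa only [← e, conj_mul, conj_mem_cj, conj_eq_one_iff, mul_left_inj, mul_right_inj] using this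

end CF

end Cfsg.Lib.Co3M
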