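import Cfsg.Agent.Co3M.Kb

/-! The action of the normalizer of `D` on the nine points. -/

set_option autoImplicit false
set_option linter.unusedSimpArgs false

namespace Cfsg.Lib.Co3M

open Subgroup Cfsg.Lib.Trans Cfsg.Lib.Spor Cfsg.Lib.Spor.Bulk Cfsg.Lib.Spor.PK Cfsg.Lib.Spor.WF

variable {G : Type*} [Group G]

/-- the nine points -/
abbrev Pt := Fin 3 × Fin 3

/-- a product of two elements -/
def pw {α : Type*} [Monoid α] (s g : α) : List Bool → α
  | [] => 1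
  | c :: w => cond c s g * pw s g w

theorem pw_eq_def' : type_of% @pw.eq_def := @pw.eq_def

/-- a composite of two maps -/
def fw (s g : Pt → Pt) : List Bool → Pt → Pt
  | [] => id
  | c :: w => cond c s g ∘ fw s g w

theorem fw_eq_def' : type_of% @fw.eq_def := @fw.eq_def

/-- rotation of the blocks -/
def fg (p : Pt) : Pt := (p.1 + 1, p.2)
/-- transposition of two blocks -/
def fr (p : Pt) : Pt := (1 - p.1, p.2)
/-- the vector `(1, 1, 2)` -/
def xv (i : Fin 3) : Fin 3 := if i = 2 then 2 else 1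
/-- block-preserving maps -/
def fe (ε : Fin 3 → Bool) (p : Pt) : Pt := (p.1, if ε p.1 then p.2 - xv p.1 else xv p.1 - p.2)
/-- the reflection -/
def fs (p : Pt) : Pt := (p.1, xv p.1 - p.2)
/-- the central translation -/
def fu (p : Pt) : Pt := (p.1, p.2 + 1)
/-- a second translation -/
def fc (p : Pt) : Pt := (p.1, p.2 + (p.1 + 1))

namespace CF

/-- `n` acts on the nine points by `f` -/
structure Ac (F : CF G) (b n : G) (f : Pt → Pt) : Prop where
  nv : n ∈ normalizer (F.V : Set G)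
  ac : ∀ p : Pt, ∃ v ∈ F.V, n * F.q b p.1 p.2 * n⁻¹ = F.q b (f p).1 (f p).2 * v

variable {F : CF G} {b n n' : G} {f f' : Pt → Pt}

theorem Ac.cv (h : F.Ac b n f) {v : G} (hv : v ∈ F.V) : n * v * n⁻¹ ∈ F.V :=
  (mem_normalizer_iff.1 h.nv v).1 hv

theorem Ac.mul (h : F.Ac b n f) (h' : F.Ac b n' f') : F.Ac b (n * n') (f ∘ f') :=
  ⟨mul_mem h.nv h'.nv, fun p => by
    obtain ⟨v, hv, e⟩ := h'.ac p
    obtain ⟨w, hw, e'⟩ := h.ac (f' p)
    refine ⟨_, mul_mem hw (h.cv hv), ?_⟩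
    rw [Function.comp, ← mul_assoc, ← e', conj_mul, ← e]; group⟩

theorem Ac.congr (h : F.Ac b n f) (e : ∀ p, f p = f' p) : F.Ac b n f' :=
  (funext e : f = f') ▸ h

theorem Ac.inv (h : F.Ac b n f) (e : ∀ p, f (f' p) = p) : F.Ac b n⁻¹ f' :=
  ⟨inv_mem h.nv, fun p => by
    obtain ⟨v, hv, a⟩ := h.ac (f' p)
    rw [e] at a
    refine ⟨_, (mem_normalizer_iff''.1 h.nv _).1 (inv_mem hv), ?_⟩
    calc _ = n⁻¹ * (F.q b p.1 p.2 * v) * n * (n⁻¹ * v⁻¹ * n) := by group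
      _ = _ := by rw [← a]; group⟩

theorem Ac.one : F.Ac b 1 id := ⟨one_mem _, fun p => ⟨1, one_mem _, by simp⟩⟩

theorem Ac.word (h : F.Ac b n f) (h' : F.Ac b n' f') (w : List Bool) :
    F.Ac b (pw n n' w) (fw f f' w) := by
  induction w with
  | nil => exact Ac.one
  | cons c w ih => cases c; exacts [h'.mul ih, h.mul ih]

theorem nV_of [Finite G] (h1 : n * F.z * n⁻¹ ∈ F.V) (h2 : n * F.y * n⁻¹ ∈ F.V) :
    n ∈ normalizer (F.V : Set G) := mem_normalizer_fintype fun v hv => by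
  rcases F.v_cases v hv with rfl | rfl | rfl | rfl
  · simp
  · exact h1
  · exact h2
  · rw [← conj_mul]; exact mul_mem h2 h1

theorem nV_of_comm [Finite G] (h1 : n * F.z = F.z * n) (h2 : n * F.y = F.y * n) :
    n ∈ normalizer (F.V : Set G) :=
  nV_of (by rw [cj_of h1]; exact F.zV) (by rw [cj_of h2]; exact F.yV)

namespace Kb

variable [Finite G] (h : F.Kb b)
include h

theorem qm (i a : Fin 3) : F.q b i a ∈ F.D b := by
  obtain ⟨d, hd, e⟩ := h.qD i a
  exact e ▸ hd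

theorem DV {d v : G} (hd : d ∈ F.D b) (hv : v ∈ F.V) : d * v = v * d :=
  F.V_comm (h.D_comm d hd).1 (h.D_comm d hd).2 hv

theorem D0_le : F.D0 ≤ F.D b := sub_le fun L hL => by
  simp only [PM.W, List.getD_cons_succ, List.getD_cons_zero, List.mem_cons, List.not_mem_nil,
    or_false] at hL
  rcases hL with rfl | rfl | rfl | rfl | rfl | rfl | rfl <;> rw [← w_let]
  exacts [h.letD 1 (by simp), h.letD 2 (by simp), h.letD 3 (by simp), h.letD 4 (by simp),
    h.letD 6 (by simp), h.letD 8 (by simp), h.letD 10 (by simp)]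

theorem V_le : F.V ≤ F.D b := F.V_leD.trans h.D0_le

theorem memD {v : G} (h1 : n * F.z = F.z * n) (h2 : n * F.y = F.y * n) (hv : v ∈ F.V)
    (he : n * F.e * n⁻¹ = F.e * v) : n ∈ F.D b := by
  have key : ∀ c ∈ F.D b, F.Pw v c → n ∈ F.D b := fun c hc p =>
    (mul_mem_cancel_left (inv_mem hc)).1 (h.D0_le (F.memD0 (by
      rw [mul_assoc, of_cj he, ← mul_assoc, ← mul_assoc, (p.inv hv).e, mul_assoc (F.e * v),
        F.V_comm (p.inv hv).z (p.inv hv).y hv, mul_assoc F.e,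
        ← mul_assoc v, F.V_sq hv, one_mul, mul_assoc])
      (Commute.mul_left (p.inv hv).z h1) (Commute.mul_left (p.inv hv).y h2)))
  have p1 := h.toPb.pw.g (w' := F.y) (by cw F)
  rcases F.v_cases v hv with rfl | rfl | rfl | rfl
  · exact key 1 (one_mem _) ⟨by simp, by simp, by simp, by simp⟩
  · exact key _ (h.letD 18 (by simp)) h.toPb.pw
  · exact key _ (h.letD 14 (by simp)) p1
  · exact key _ (h.letD 16 (by simp)) (p1.g (by cw F))

theorem sq_qv (i a : Fin 3) {v : G} (hv : v ∈ F.V) : F.q b i a * v * (F.q b i a * v) = F.zi i := by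
  rw [Commute.mul_mul_mul_comm (h.DV (h.qm i a) hv).symm, F.V_sq hv, h.q_sq, mul_one]

theorem cj_zi (a : F.Ac b n f) (p : Pt) : n * F.zi p.1 * n⁻¹ = F.zi (f p).1 := by
  obtain ⟨v, hv, e⟩ := a.ac p
  rw [← h.q_sq p.1 p.2, ← conj_mul, e, h.sq_qv _ _ hv]

theorem blk (a : F.Ac b n f) (e : ∀ p, (f p).1 = p.1) : n * F.z = F.z * n ∧ n * F.y = F.y * n := by
  have a0 := h.cj_zi a (0, 0)
  have a2 := h.cj_zi a (2, 0)
  rw [e] at a0 a2
  exact ⟨of_cj (F.zi_val.2.2 ▸ a2), of_cj (F.zi_val.1 ▸ a0)⟩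

theorem cj3 (a : F.Ac b n f) (p p' p'' : Pt) {v : G} (hv : v ∈ F.V) : ∃ w ∈ F.V,
    n * (F.q b p.1 p.2 * F.q b p'.1 p'.2 * F.q b p''.1 p''.2 * v) * n⁻¹ =
      F.q b (f p).1 (f p).2 * F.q b (f p').1 (f p').2 * F.q b (f p'').1 (f p'').2 * w := by
  obtain ⟨v1, h1, e1⟩ := a.ac p
  obtain ⟨v2, h2, e2⟩ := a.ac p'
  obtain ⟨v3, h3, e3⟩ := a.ac p''
  refine ⟨_, mul_mem (mul_mem (mul_mem h1 h2) h3) (a.cv hv), ?_⟩
  rw [← conj_mul, ← conj_mul, ← conj_mul, e1, e2, e3,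
    Commute.mul_mul_mul_comm (h.DV (h.qm _ _) h1).symm,
    Commute.mul_mul_mul_comm (h.DV (h.qm _ _) (mul_mem h1 h2)).symm, mul_assoc]

theorem mem (a : F.Ac b n f) (e : ∀ p, f p = p) : n ∈ F.D b := by
  obtain ⟨v, hv, e1⟩ := h.vals.1
  obtain ⟨w, hw, e2⟩ := h.cj3 a (0, 0) (1, 0) (2, 0) hv
  simp only [e] at e2
  have := h.blk a fun p => by rw [e]
  refine h.memD this.1 this.2 (mul_mem (inv_mem hv) hw) ?_
  rw [e1, e2]; group

theorem normD (a : F.Ac b n f) : ∀ d ∈ F.D b, n * d * n⁻¹ ∈ F.D b :=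
  conj_mem_sub fun L hL => by
    obtain ⟨i, c, rfl⟩ := (by decide +kernel : ∀ L ∈ MD.W 1, ∃ i c, L = wq i c) L hL
    obtain ⟨v, hv, e⟩ := a.ac (i, c)
    exact e ▸ mul_mem (h.qm _ _) (h.V_le hv)

theorem acD {d : G} (hd : d ∈ F.D b) : F.Ac b d id :=
  ⟨nV_of_comm (h.D_comm d hd).1 (h.D_comm d hd).2, fun p => (h.q_comm d hd p.1 p.2).elim
    (fun e => ⟨1, one_mem _, by rw [cj_of e, mul_one]; rfl⟩) fun e => ⟨_, F.ziV _, cj_of e⟩⟩

theorem acg : F.Ac b F.g fg :=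
  ⟨nV_of (by rw [show F.g * F.z * F.g⁻¹ = F.y by cw F]; exact F.yV)
    (by rw [show F.g * F.y * F.g⁻¹ = F.y * F.z by cw F]; exact yzV),
    fun p => ⟨1, one_mem _, by rw [cj_of (h.q_g p.1 p.2).1, mul_one]; rfl⟩⟩

theorem acr : F.Ac b F.r fr :=
  ⟨nV_of (by rw [show F.r * F.z * F.r⁻¹ = F.z by cw F]; exact F.zV)
    (by rw [show F.r * F.y * F.r⁻¹ = F.y * F.z by cw F]; exact yzV),
    fun p => ⟨1, one_mem _, by rw [cj_of (h.q_g p.1 p.2).2, mul_one]; rfl⟩⟩

theorem bad (a : F.Ac b n f) (e : f (0, 0) = (0, 2) ∧ f (1, 0) = (1, 2) ∧ f (2, 0) = (2, 1)) :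
    False := by
  obtain ⟨v, hv, e1⟩ := h.vals.1
  obtain ⟨w, hw, e2⟩ := h.cj3 a (0, 0) (1, 0) (2, 0) hv
  obtain ⟨u, hu, e3⟩ := h.vals.2.2.2.1
  simp only [e] at e2
  rw [← e1, e3, mul_assoc _ u] at e2
  exact F.nX_ta3 (mul_mem hu hw) (e2 ▸ F.Xe.cj n)

theorem exists_s0 : ∃ s, F.Ac b s fs := by
  have rt := h.holds (p := .and (.eq [14, 4, 14, 4] [3]) (.and (.eq [14, 4, 18] [18, 14, 4])
    (.and (.eq [10, 4, 1, 18] [18, 10, 4, 1]) (.eq [10, 4, 1, 14, 4] [14, 4, 10, 4, 1]))))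
    (by decide +kernel)
  simp only [Fm.sem, wv_cons, wv_nil, one_mul, mul_assoc] at rt
  obtain ⟨k, h1, h2, h3⟩ := h.toPb.Xx.conjV (x := F.gB b 1 * F.gB b 4 * F.gB b 10)
    (q1 := F.gB b 18) (q2 := F.gB b 4 * F.gB b 14) h.sq2 (by rw [mul_assoc]; exact rt.1)
    (by simp only [mul_assoc, rt.2.1]) (by simp only [mul_assoc, rt.2.2.1])
    (by simp only [mul_assoc, rt.2.2.2])
  replace h1 : k * (F.e * F.t * F.a3) = F.e * k := h1
  have nD : ∀ d ∈ F.D b, k * d * k⁻¹ ∈ F.D b := fun d hd => by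
    obtain ⟨v, hv, e⟩ := h.comm_x d hd
    refine h.memD ?_ ?_ hv ?_
    · exact Commute.mul_left (Commute.mul_left h2 (h.D_comm d hd).1) (Commute.inv_left h2)
    · exact Commute.mul_left (Commute.mul_left h3 (h.D_comm d hd).2) (Commute.inv_left h3)
    · rw [← cj_of h1, ← cj_of (F.V_comm h2 h3 hv), conj_mul]
      calc _ = k * (d * F.e * F.t * F.a3 * d⁻¹) * k⁻¹ := by group
        _ = _ := by rw [e]; group
  have nD' := mem_normalizer_fintype nD
  have kz : ∀ i, k * F.zi i * k⁻¹ = F.zi i := fun i => cj_of (F.V_comm h2 h3 (F.ziV i))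
  have ty : ∀ i a, ∃ c, ∃ v ∈ F.V, k * F.q b i a * k⁻¹ = F.q b i c * v := fun i a =>
    h.q_type _ (nD _ (h.qm i a)) i (by rw [conj_mul, h.q_sq, kz]) fun c => by
      rcases h.q_comm _ ((mem_normalizer_iff''.1 nD' _).1 (h.qm (i + 1) c)) i a with e | e
      · refine Or.inl ?_
        calc _ = k * (k⁻¹ * F.q b (i + 1) c * k * F.q b i a) * k⁻¹ := by group
          _ = _ := by rw [e]; group
      · refine Or.inr ?_
        rw [← kz]
        calc _ = k * (k⁻¹ * F.q b (i + 1) c * k * F.q b i a) * k⁻¹ := by group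
          _ = _ := by rw [e]; group
  choose φ hφ using ty
  have a : F.Ac b k fun p => (p.1, φ p.1 p.2) := ⟨nV_of_comm h2 h3, fun p => hφ p.1 p.2⟩
  have inj : ∀ i, Function.Injective (φ i) := fun i a c e => by
    by_contra hn
    obtain ⟨v, hv, e1⟩ := hφ i a
    obtain ⟨w, hw, e2⟩ := hφ i c
    refine h.q_inj _ (mul_mem (inv_mem hw) hv) i a c hn ?_
    have : k * F.q b i a * k⁻¹ = k * (F.q b i c * (w⁻¹ * v)) * k⁻¹ := by
      rw [← conj_mul, e1, e2, e, cj_of (F.V_comm h2 h3 (mul_mem (inv_mem hw) hv))]; group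
    simpa using this
  have z0 : ∀ i, φ i (xv i) = 0 := by
    obtain ⟨v, hv, e1⟩ := h.vals.2.2.1
    obtain ⟨w, hw, e2⟩ := h.cj3 a (0, 1) (1, 1) (2, 2) hv
    rw [← e1, cj_of h1] at e2
    have := not_not.1 fun hn => h.tri w hw _ _ _ hn e2
    intro i
    fin_cases i
    exacts [this.1, this.2.1, this.2.2]
  have key : ∀ (ψ : Fin 3 → Fin 3) (x : Fin 3), Function.Injective ψ → ψ x = 0 →
      ∃ ε : Bool, ∀ a, ψ a = if ε then a - x else x - a := by decide
  choose ε hε using fun i => key (φ i) (xv i) (inj i) (z0 i)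
  have a' : F.Ac b k (fe ε) := a.congr fun p => Prod.ext rfl (hε _ _)
  have hε' : ∀ ε : Fin 3 → Bool, (∀ p, fe ε p = fs p) ∨ ∃ w ∈ [[true],
      [false, true, false, false, true, true, true], [false, true, false, true, true, true, false],
      [false, true, false, false], [true, true, false, true, false, false, true, true, true],
      [false, false, true, false], [true, false, true, true, false, true, true, false]],
      fw (fe ε) fg w (0, 0) = (0, 2) ∧ fw (fe ε) fg w (1, 0) = (1, 2) ∧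
        fw (fe ε) fg w (2, 0) = (2, 1) := by decide
  rcases hε' ε with e | ⟨w, -, e⟩
  · exact ⟨k, a'.congr e⟩
  · exact (h.bad (a'.word h.acg w) e).elim

end Kb

end CF

end Cfsg.Lib.Co3M
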