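import Cfsg.Agent.Co3M.KAct

/-! Normalised generators of the normalizer of `D`. -/

set_option autoImplicit false
set_option linter.unusedSimpArgs false

namespace Cfsg.Lib.Co3M

open Subgroup Cfsg.Lib.Trans Cfsg.Lib.Spor Cfsg.Lib.Spor.Bulk Cfsg.Lib.Spor.PK Cfsg.Lib.Spor.WF

variable {G : Type*} [Group G]

theorem cube_cj {x : G} (h : x * x * x = 1) (k : G) :
    k * x * k⁻¹ * (k * x * k⁻¹) * (k * x * k⁻¹) = 1 := by rw [conj_mul, conj_mul, h]; simp

theorem cube_inv {x : G} (h : x * x * x = 1) : x⁻¹ * x⁻¹ * x⁻¹ = 1 := by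
  rw [← mul_inv_rev, ← mul_inv_rev, ← mul_assoc, h, inv_one]

theorem cube_mul {v x : G} (h : v * x = x * v) (hv : v * v = 1) :
    v * x * (v * x) * (v * x) = v * (x * x * x) := by
  rw [Commute.mul_mul_mul_comm h.symm, hv, one_mul, ← mul_assoc,
    ← (Commute.mul_right h h : v * (x * x) = _), mul_assoc]

namespace CF

variable {F : CF G} {b n n' u : G} {f f' : Pt → Pt} {Q : Fin 3 → Fin 3 → G}

theorem g3' : F.g * (F.g * F.g) = 1 := g3

theorem V_g {v : G} (hv : v ∈ F.V) (h : v * F.g = F.g * v) : v = 1 := by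
  rcases F.v_cases v hv with rfl | rfl | rfl | rfl
  · rfl
  all_goals exact absurd h (by cw F)

namespace Kb

variable [Finite G] (h : F.Kb b)
include h

theorem cos (a : F.Ac b n f) (a' : F.Ac b n' f') (e : (∀ p, f p = f' p) ∧ Function.Surjective f') :
    n * n'⁻¹ ∈ F.D b :=
  h.mem (a.mul (a'.inv (Function.surjInv_eq e.2))) fun p => (e.1 _).trans (Function.surjInv_eq e.2 p)

theorem ord3 (a : F.Ac b n f) (e : ∀ p, f (f (f p)) = p) : F.Ac b (n * n * n * n) f ∧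
    n * n * n * n * (n * n * n * n) * (n * n * n * n) = 1 := by
  have h1 := h.mem ((a.mul a).mul a) e
  obtain ⟨v, hv, e1⟩ := h.D_sq _ h1
  refine ⟨(h.acD h1).mul a, ?_⟩
  rw [← F.V_sq hv, ← e1]
  simp only [mul_assoc]

theorem exists_cj {k k' : G} {φ φ' : Pt → Pt} (a : F.Ac b n f) (ak : F.Ac b k φ) (ak' : F.Ac b k' φ')
    (h3 : k * k * k = 1) (h3' : k' * k' * k' = 1)
    (e : (∀ p, f (φ p) = φ' (f p)) ∧ Function.Surjective f ∧ Function.Surjective φ') :
    ∃ m, F.Ac b m f ∧ m * k * m⁻¹ = k' := by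
  have hs := Function.surjInv_eq e.2.1
  obtain ⟨d, hd, e1⟩ := conj_of_coset (D := F.D b) (by rw [h.card_D]; norm_num) (h.normD ak') h3'
    (cube_cj h3 n) (h.cos ((a.mul ak).mul (a.inv hs)) ak' ⟨fun p => by
      simp only [Function.comp, e.1, hs], e.2.2⟩)
  refine ⟨d⁻¹ * n, (h.acD (inv_mem hd)).mul a, ?_⟩
  calc _ = d⁻¹ * (n * k * n⁻¹ * d) := by group
    _ = _ := by rw [← e1]; group

end Kb

/-- an element of order three acting as the central translation, and canonical points -/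
structure Uf (F : CF G) (b u : G) (Q : Fin 3 → Fin 3 → G) : Prop extends F.Kb b where
  au : F.Ac b u fu
  u3 : u * u * u = 1
  ug : u * F.g = F.g * u
  qv : ∀ i a, ∃ v ∈ F.V, Q i a = F.q b i a * v
  cube : ∀ i a, Q i a * u * (Q i a * u) * (Q i a * u) = 1

theorem Kb.exists_Uf [Finite G] (h : F.Kb b) : ∃ u Q, F.Uf b u Q := by
  obtain ⟨s, hs⟩ := h.exists_s0
  have g3 := F.sq.2.2.2.2.2.1
  obtain ⟨m, am, e⟩ := h.exists_cj ((hs.word h.acg
    [true, false, true, false, true, false, false, true, false, false]).congr (f' := fu) (by decide))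
    h.acg h.acg g3 g3 (by decide)
  obtain ⟨au, u3⟩ := h.ord3 am (by decide)
  have ug : m * m * m * m * F.g = F.g * (m * m * m * m) :=
    Commute.mul_left (Commute.mul_left (Commute.mul_left (of_cj e) (of_cj e)) (of_cj e)) (of_cj e)
  generalize m * m * m * m = u at au u3 ug
  have uv : ∀ v ∈ F.V, u * v = v * u := fun v hv =>
    F.V_comm (h.blk au fun _ => rfl).1 (h.blk au fun _ => rfl).2 hv
  have step : ∀ i a, (∃ x, (∃ v ∈ F.V, x = F.q b i a * v) ∧ x * u * (x * u) * (x * u) = 1) →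
      ∃ x, (∃ v ∈ F.V, x = F.q b i (a + 1) * v) ∧ x * u * (x * u) * (x * u) = 1 := by
    rintro i a ⟨_, ⟨v, hv, rfl⟩, e⟩
    obtain ⟨w, hw, e1⟩ := au.ac (i, a)
    refine ⟨u * (F.q b i a * v) * u⁻¹, ⟨_, mul_mem hw hv, ?_⟩, ?_⟩
    · rw [← conj_mul, e1, cj_of (uv v hv), mul_assoc]; rfl
    · rw [← cube_cj e u]; group
  have z0 : ∀ i, ∃ x, (∃ v ∈ F.V, x = F.q b i 0 * v) ∧ x * u * (x * u) * (x * u) = 1 := fun i => by
    obtain ⟨v1, h1, e1⟩ := au.ac (i, 0)
    obtain ⟨v2, h2, e2⟩ := (au.mul au).ac (i, 0)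
    obtain ⟨v3, h3, e3⟩ := h.vals.2.2.2.2.2 i
    have e4 : F.q b i 0 * u * (F.q b i 0 * u) * (F.q b i 0 * u) = v3 * (v1 * v2) := by
      calc _ = F.q b i 0 * (u * F.q b i 0 * u⁻¹) * (u * u * F.q b i 0 * (u * u)⁻¹) * (u * u * u) := by
            group
        _ = F.q b i 0 * (F.q b i 1 * v1 * (F.q b i 2 * v2)) := by
            rw [u3, mul_one, mul_assoc (F.q b i 0)]; exact congrArg _ (congrArg₂ _ e1 e2)
        _ = _ := by rw [Commute.mul_mul_mul_comm (h.DV (h.qm _ _) h1).symm, ← e3]; group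
    have hv := mul_mem h3 (mul_mem h1 h2)
    refine ⟨_, ⟨_, hv, rfl⟩, ?_⟩
    rw [h.DV (h.qm _ _) hv, mul_assoc _ _ u, cube_mul (Commute.mul_right (h.DV (h.qm _ _) hv).symm
      (uv _ hv).symm) (F.V_sq hv), e4, F.V_sq hv]
  have all : ∀ i a, ∃ x, (∃ v ∈ F.V, x = F.q b i a * v) ∧ x * u * (x * u) * (x * u) = 1 :=
    fun i a => by
      fin_cases a
      exacts [z0 i, step i 0 (z0 i), step i 1 (step i 0 (z0 i))]
  choose Q hQ using all
  exact ⟨u, Q, h, au, u3, ug, fun i a => (hQ i a).1, fun i a => (hQ i a).2⟩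

namespace Uf

variable [Finite G] (h : F.Uf b u Q)
include h

theorem uv {v : G} (hv : v ∈ F.V) : u * v = v * u :=
  F.V_comm (h.blk h.au fun _ => rfl).1 (h.blk h.au fun _ => rfl).2 hv

theorem QD (i a : Fin 3) : Q i a ∈ F.D b := by
  obtain ⟨v, hv, e⟩ := h.qv i a
  exact e ▸ mul_mem (h.qm i a) (h.V_le hv)

theorem Q_sq (i a : Fin 3) : Q i a * Q i a = F.zi i := by
  obtain ⟨v, hv, e⟩ := h.qv i a
  rw [e, h.sq_qv _ _ hv]

theorem uniq {x v : G} {i a : Fin 3} (hv : v ∈ F.V) (e : x = F.q b i a * v)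
    (h3 : x * u * (x * u) * (x * u) = 1) : x = Q i a := by
  obtain ⟨w, hw, e1⟩ := h.qv i a
  have hz := mul_mem hv (inv_mem hw)
  have e2 : x = v * w⁻¹ * Q i a := by
    rw [← h.DV (h.QD i a) hz, e, e1, mul_assoc, ← h.DV (h.V_le hv) (inv_mem hw) |>.symm]; group
  rw [e2, mul_assoc _ _ u, cube_mul (Commute.mul_right (h.DV (h.QD _ _) hz).symm
      (h.uv hz).symm) (F.V_sq hz), h.cube, mul_one] at h3
  rw [e2, h3, one_mul]

omit [Finite G] in
theorem acQ (a : F.Ac b n f) (p : Pt) :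
    ∃ v ∈ F.V, n * Q p.1 p.2 * n⁻¹ = F.q b (f p).1 (f p).2 * v := by
  obtain ⟨w, hw, e1⟩ := h.qv p.1 p.2
  obtain ⟨v, hv, e⟩ := a.ac p
  exact ⟨_, mul_mem hv (a.cv hw), by rw [e1, ← conj_mul, e, mul_assoc]⟩

theorem actQ (a : F.Ac b n f) (e : n * u = u * n) (i c : Fin 3) :
    n * Q i c = Q (f (i, c)).1 (f (i, c)).2 * n := by
  obtain ⟨v, hv, e1⟩ := h.acQ a (i, c)
  refine of_cj (h.uniq hv e1 ?_)
  rw [← cube_cj (h.cube i c) n, ← conj_mul, cj_of e]

theorem act' (a : F.Ac b n f) (e : n * u * n⁻¹ = u⁻¹) (i c : Fin 3) :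
    n * Q i c = (Q (f (i, c)).1 (f (i, c)).2)⁻¹ * n := by
  obtain ⟨v, hv, e1⟩ := h.acQ a (i, c)
  refine of_cj (inv_eq_iff_eq_inv.1 (h.uniq (mul_mem (inv_mem (F.ziV (f (i, c)).1)) (inv_mem hv))
    ?_ ?_))
  · rw [e1, ← h.q_sq _ (f (i, c)).2, h.DV (h.qm _ _) hv]
    group
  · have := cube_cj (cube_inv (cube_cj (h.cube i c) n)) u⁻¹
    rw [← conj_mul, e] at this
    rw [← this]; group

theorem cent {d : G} (hd : d ∈ F.D b) (e : d * u = u * d) : d ∈ F.V := by
  obtain ⟨v, hv, rfl⟩ := h.cenD d hd fun i a => by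
    obtain ⟨w, hw, e1⟩ := h.qv i a
    have := h.actQ (h.acD hd) e i a
    simp only [id] at this
    rw [e1, ← mul_assoc, mul_assoc _ w, ← h.DV hd hw, ← mul_assoc] at this
    exact mul_right_cancel this
  exact hv

theorem cosV (a : F.Ac b n f) (a' : F.Ac b n' f') (e : (∀ p, f p = f' p) ∧ Function.Surjective f')
    {w : G} (h1 : n * u = w * n) (h2 : n' * u = w * n') (hw : w = u ∨ w = u⁻¹) : n * n'⁻¹ ∈ F.V :=
  h.cent (h.cos a a' e) (by
    have : n * n'⁻¹ * w = w * (n * n'⁻¹) := by rw [← mul_assoc, ← h1, ← cj_of h2]; group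
    rcases hw with rfl | rfl
    · exact this
    · exact Commute.inv_right_iff.1 this)

theorem uniq3 (a : F.Ac b n f) (a' : F.Ac b n' f')
    (e : ((∀ p, f p = f' p) ∧ Function.Surjective f') ∧ ∀ p, (f' p).1 = p.1)
    (h1 : n * u = u * n) (h2 : n' * u = u * n') (h3 : n * n * n = 1) (h4 : n' * n' * n' = 1) :
    n = n' := by
  have hv := h.cosV a a' e.1 h1 h2 (Or.inl rfl)
  have := cube_mul (F.V_comm (h.blk a' e.2).1 (h.blk a' e.2).2 hv).symm (F.V_sq hv)
  rw [inv_mul_cancel_right, h3, h4, mul_one] at this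
  exact mul_inv_eq_one.1 this.symm

/-- adjust by an element of the four-group -/
theorem adjust {k w : G} {φ : Pt → Pt} (a : F.Ac b n f) (hw : w = u ∨ w = u⁻¹) (e1 : n * u * n⁻¹ = w)
    (ak : F.Ac b k φ) (h3 : k * k * k = 1) (hk : k * u = u * k)
    (e : (∀ p, f (fg p) = φ (f p)) ∧ Function.Surjective f ∧ Function.Surjective φ) :
    ∃ m, F.Ac b m f ∧ m * u * m⁻¹ = w ∧ m * F.g * m⁻¹ = k := by
  have hs := Function.surjInv_eq e.2.1
  have c1 : n * F.g * n⁻¹ * u = u * (n * F.g * n⁻¹) := by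
    have := cj_comm (k := n) h.ug
    rw [e1] at this
    rcases hw with rfl | rfl
    · exact this.symm
    · exact (Commute.inv_left_iff.1 this).symm
  obtain ⟨d, hd, e2⟩ := conj_of_coset (D := F.V) (by rw [F.card_V]; norm_num) (fun _ => ak.cv) h3
    (cube_cj F.sq.2.2.2.2.2.1 n) (h.cosV ((a.mul h.acg).mul (a.inv hs)) ak ⟨fun p => by
      simp only [Function.comp, e.1, hs], e.2.2⟩ c1 hk (Or.inl rfl))
  refine ⟨d⁻¹ * n, (h.acD (inv_mem (h.V_le hd))).mul a, ?_, ?_⟩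
  · have : w * d = d * w := by
      rcases hw with rfl | rfl
      · exact h.uv hd
      · exact Commute.inv_left (h.uv hd)
    calc _ = d⁻¹ * (n * u * n⁻¹ * d) := by group
      _ = _ := by rw [e1, this]; group
  · calc _ = d⁻¹ * (n * F.g * n⁻¹ * d) := by group
      _ = _ := by rw [← e2]; group

theorem exists_c : ∃ c, F.Ac b c fc ∧ c * c * c = 1 ∧ c * u = u * c := by
  obtain ⟨s, hs⟩ := h.exists_s0
  obtain ⟨m, am, e⟩ := h.exists_cj ((hs.word h.acg
    [false, true, false, true, false]).congr (f' := fc) (by decide)) h.au h.au h.u3 h.u3 (by decide)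
  obtain ⟨a, a3⟩ := h.ord3 am (by decide)
  exact ⟨_, a, a3, Commute.mul_left (Commute.mul_left (Commute.mul_left (of_cj e) (of_cj e))
    (of_cj e)) (of_cj e)⟩

end Uf

/-- all generators of the normalizer of the four-group -/
structure Ff (F : CF G) (b u : G) (Q : Fin 3 → Fin 3 → G) (c s R : G) : Prop
    extends F.Uf b u Q where
  ac : F.Ac b c fc
  cc3 : c * c * c = 1
  cu : c * u = u * c
  as : F.Ac b s fs
  su : s * u * s⁻¹ = u⁻¹
  sc : s * c * s⁻¹ = c⁻¹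
  s2 : s * s = 1
  ar : F.Ac b R fr
  Ru : R * u = u * R
  Rc : R * c * R⁻¹ = c⁻¹
  R2 : R * R = 1
  Rs : R * s = s * R
  Rr : R = F.r ∨ R = F.r * F.e ∨ R = F.r * F.t ∨ R = F.r * (F.e * F.t)

theorem Uf.exists_Ff [Finite G] (h : F.Uf b u Q) : ∃ c s R, F.Ff b u Q c s R := by
  obtain ⟨c, ac, c3, cu⟩ := h.exists_c
  have g3 := F.sq.2.2.2.2.2.1
  have ci := ac.inv (f' := fc ∘ fc) (by decide)
  have ui := h.au.inv (f' := fu ∘ fu) (by decide)
  have gi := h.acg.inv (f' := fg ∘ fg) (by decide)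
  have cu' : c⁻¹ * u = u * c⁻¹ := Commute.inv_left cu
  have gc : F.g * c * F.g⁻¹ = c * u * u := h.uniq3 ((h.acg.mul ac).mul gi) ((ac.mul h.au).mul h.au)
    (by decide) (by have := cj_comm (k := F.g) cu; rwa [cj_of h.ug.symm] at this)
    (Commute.mul_left (Commute.mul_left cu rfl) rfl) (cube_cj c3 _) (by
      have e1 : ∀ w, c * (c * (c * w)) = w := fun w => by simp only [← mul_assoc, c3, one_mul]
      have e2 : ∀ w, u * (u * (u * w)) = w := fun w => by simp only [← mul_assoc, h.u3, one_mul]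
      simp only [mul_assoc, as cu.symm, e1, e2]
      rw [← mul_assoc, h.u3])
  have k3 : c * u * F.g * (c * u * F.g) * (c * u * F.g) = 1 := by
    have e1 : ∀ w, c * (c * (c * w)) = w := fun w => by simp only [← mul_assoc, c3, one_mul]
    have e2 : ∀ w, u * (u * (u * w)) = w := fun w => by simp only [← mul_assoc, h.u3, one_mul]
    have e3 : ∀ w, F.g * (c * w) = c * (u * (u * (F.g * w))) := fun w => by
      rw [← mul_assoc, of_cj gc]; simp only [mul_assoc]
    simp only [mul_assoc, as cu.symm, e1, e2, e3, as h.ug.symm, g3']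
  obtain ⟨s0, hs⟩ := h.exists_s0
  obtain ⟨s1, a1, e1⟩ := h.exists_cj hs h.au ui h.u3 (cube_inv h.u3) (by decide)
  obtain ⟨s, as, su, sg⟩ := h.adjust a1 (Or.inr rfl) e1 ((ac.mul h.au).mul h.acg) k3
    (Commute.mul_left (Commute.mul_left cu rfl) h.ug.symm) (by decide)
  have sc : s * c * s⁻¹ = c⁻¹ := h.uniq3 ((as.mul ac).mul (as.inv (f' := fs) (by decide))) ci
    (by decide) (by
      have := cj_comm (k := s) cu
      rw [su] at this
      exact Commute.inv_right_iff.1 this) cu' (cube_cj c3 _) (cube_inv c3)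
  have s2 : s * s = 1 := V_g (h.cent (h.mem (as.mul as) (by decide)) (of_cj (by
      calc _ = s * (s * u * s⁻¹) * s⁻¹ := by group
        _ = _ := by rw [su, ← conj_inv, su, inv_inv]))) (of_cj (by
      calc _ = s * (s * F.g * s⁻¹) * s⁻¹ := by group
        _ = s * c * s⁻¹ * (s * u * s⁻¹) * (s * F.g * s⁻¹) := by rw [conj_mul, conj_mul, ← sg]
        _ = c⁻¹ * (u⁻¹ * (c * u)) * F.g := by rw [su, sc, sg]; group
        _ = _ := by rw [cu]; group))
  obtain ⟨r1, a1, e1⟩ := h.exists_cj h.acr h.au h.au h.u3 h.u3 (by decide)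
  obtain ⟨R, ar, Ru, Rg⟩ := h.adjust a1 (Or.inl rfl) e1 gi (cube_inv g3)
    (Commute.inv_left h.ug.symm) (by decide)
  have ri := ar.inv (f' := fr) (by decide)
  have Rc : R * c * R⁻¹ = c⁻¹ := h.uniq3 ((ar.mul ac).mul ri) ci
    (by decide) (by have := cj_comm (k := R) cu; rwa [Ru] at this) cu' (cube_cj c3 _) (cube_inv c3)
  have R2 : R * R = 1 := V_g (h.cent (h.mem (ar.mul ar) (by decide))
    (Commute.mul_left (of_cj Ru) (of_cj Ru))) (of_cj (by
      calc _ = R * (R * F.g * R⁻¹) * R⁻¹ := by group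
        _ = _ := by rw [Rg, ← conj_inv, Rg, inv_inv]))
  have Rs : R * s = s * R := by
    have si := as.inv (f' := fs) (by decide)
    have hv : s⁻¹ * (R * s * R⁻¹) ∈ F.V := h.cent (h.mem (si.mul ((ar.mul as).mul ri)) (by decide))
      (of_cj (by
        have : R⁻¹ * u * R = u := by rw [mul_assoc, ← of_cj Ru]; group
        have e : s⁻¹ * u⁻¹ * s = u := by rw [← su]; group
        have e' : s * u * s⁻¹ = u⁻¹ := su
        calc _ = s⁻¹ * (R * (s * (R⁻¹ * u * R) * s⁻¹) * R⁻¹) * s := by group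
          _ = _ := by rw [this, su, ← conj_inv, Ru, e]))
    have := V_g hv (of_cj (by
      have e : R⁻¹ * F.g⁻¹ * R = F.g := by rw [← Rg]; group
      have e0 : R⁻¹ * F.g * R = F.g⁻¹ := by
        calc _ = (R⁻¹ * F.g⁻¹ * R)⁻¹ := by group
          _ = _ := by rw [e]
      have e2 : s⁻¹ * (c * u * F.g) * s = F.g := by rw [← sg]; group
      calc _ = s⁻¹ * (R * (s * (R⁻¹ * F.g * R) * s⁻¹) * R⁻¹) * s := by group
        _ = s⁻¹ * (R * c * R⁻¹ * (R * u * R⁻¹) * (R * F.g * R⁻¹))⁻¹ * s := by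
            rw [e0, ← conj_inv, sg, ← conj_inv, conj_mul, conj_mul]
        _ = s⁻¹ * (F.g * u⁻¹ * F.g⁻¹ * (F.g * c * F.g⁻¹) * F.g) * s := by rw [Rc, Ru, Rg]; group
        _ = s⁻¹ * (u⁻¹ * (c * u) * u * F.g) * s := by
            rw [gc, cj_of (Commute.inv_right h.ug.symm : F.g * u⁻¹ = _)]; group
        _ = _ := by rw [cu, inv_mul_cancel_left, e2]))
    rw [inv_mul_eq_one] at this
    exact of_cj this.symm
  refine ⟨c, s, R, h, ac, c3, cu, as, su, sc, s2, ar, of_cj Ru, Rc, R2, Rs, ?_⟩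
  have rg : F.r⁻¹ * F.g⁻¹ * F.r = F.g := by cw F
  simpa only [inv_mul_eq_iff_eq_mul, mul_one] using h.cent_g _
    (h.mem ((h.acr.inv (f' := fr) (by decide)).mul ar) (by decide)) (of_cj (by
      calc _ = F.r⁻¹ * (R * F.g * R⁻¹) * F.r := by group
        _ = _ := by rw [Rg, rg]))

end CF

end Cfsg.Lib.Co3M
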