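import Cfsg.Agent.Co3M.KFr
import Cfsg.Agent.Co3M.ModK

/-! The frame of generators in the centralizer of `z`. -/

set_option autoImplicit false
set_option linter.unusedSimpArgs false
set_option maxRecDepth 100000

namespace Cfsg.Lib.Co3M

open Subgroup Cfsg.Lib.Trans Cfsg.Lib.Spor Cfsg.Lib.Spor.Bulk Cfsg.Lib.Spor.PK Cfsg.Lib.Spor.WF

variable {G : Type*} [Group G]

namespace KD

variable (K : KD G)

/-- a subgroup -/
def Kz : Subgroup G := sub K.gK (MK.W 0)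
/-- a subgroup -/
def D : Subgroup G := sub K.gK (MK.W 1)
/-- a subgroup -/
def V : Subgroup G := sub K.gK (MK.W 2)
/-- a subgroup -/
def S : Subgroup G := sub K.gK (MK.W 3)
/-- a subgroup -/
def DE : Subgroup G := sub K.gK (MK.W 4)
/-- a subgroup -/
def L0 : Subgroup G := sub K.gK (MK.W 5)
/-- all letters -/
def LH : List ℕ := [1,2,3,4,5,6,7,8,9,10,11,12,13,14,15,16,17,18,19,20,21,22,23,24,25,26,27,28]
/-- a subgroup -/
def H : Subgroup G := sub K.gH (LH.map fun l => [l])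
/-- an element -/
def e : G := K.Q 0 0 * K.Q 1 0 * K.Q 2 0
/-- an element -/
def t : G := K.Q 0 1 * K.Q 1 1 * K.Q 2 1
/-- an element -/
def al : G := K.Q 0 0 * K.Q 1 0
/-- an element -/
def rho : G := K.e * K.R
/-- an element -/
def w0 : G := K.Q 2 1 * K.y

theorem ws : K.z = wv K.gK [1] ∧ K.y = wv K.gK [2] ∧ K.Q 0 0 = wv K.gK [3] ∧ K.Q 0 1 = wv K.gK [5] ∧
    K.Q 0 2 = wv K.gK [7] ∧ K.Q 1 0 = wv K.gK [9] ∧ K.Q 1 1 = wv K.gK [11] ∧
    K.Q 1 2 = wv K.gK [13] ∧ K.Q 2 0 = wv K.gK [15] ∧ K.Q 2 1 = wv K.gK [17] ∧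
    K.Q 2 2 = wv K.gK [19] ∧ K.u = wv K.gK [21] ∧ K.c = wv K.gK [23] ∧ K.s = wv K.gK [25] ∧
    K.R = wv K.gK [26] :=
  ⟨w_let K.gK 1, w_let K.gK 2, w_let K.gK 3, w_let K.gK 5, w_let K.gK 7, w_let K.gK 9,
    w_let K.gK 11, w_let K.gK 13, w_let K.gK 15, w_let K.gK 17, w_let K.gK 19, w_let K.gK 21,
    w_let K.gK 23, w_let K.gK 25, w_let K.gK 26⟩

theorem sat0 {K : KD G} (h : Emb MK.m K.gK) : Sat K.gK 27 iK rK := sat_of_emb h (PM.sat MK_ok MK_sat)

theorem letH (l : ℕ) (hl : l ∈ LH) : K.gH l ∈ K.H :=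
  let_mem _ l (List.mem_map_of_mem (f := fun l => [l]) hl)

theorem Kz_le : K.Kz ≤ K.H := sub_le fun L hL => by
  obtain ⟨l, hl, rfl, h⟩ := (by decide +kernel : ∀ L ∈ MK.W 0, ∃ l ∈ LH, L = [l] ∧ l < 27) L hL
  rw [← w_let, ← K.gH_lt h]
  exact K.letH l hl

theorem le_Kz (i : ℕ) (h : ∀ L ∈ MK.W i, L ∈ MK.W 0) : sub K.gK (MK.W i) ≤ K.Kz :=
  sub_le fun L hL => wv_mem_sub _ (h L hL)

theorem D_le : K.D ≤ K.Kz := K.le_Kz 1 (by decide +kernel)

end KD

/-- decide an equation between words in the model -/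
macro "ck " K:term:max h:term:max : tactic =>
  `(tactic| (simp (disch := decide +kernel) only [KD.e, KD.t, KD.al, KD.rho, KD.w0, KD.ws $K, w_mul,
      w_one (KD.gK $K), w_inv (KD.sat0 $h)] <;> first
        | (refine w_eq MK_ok $h ?_; decide +kernel)
        | (refine w_ne MK_ok $h ?_; decide +kernel)))

/-- the frame in the centralizer of `z` -/
structure KF (F : CF G) (K : KD G) : Prop where
  z : K.z = F.z
  y : K.y = F.y
  e : K.e = F.e
  t : K.t = F.t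
  sat : Sat K.gH 29 iK (rK ++ rP)
  emb : Emb MK.m K.gK
  memD : ∀ n v, n * K.z = K.z * n → n * K.y = K.y * n → v ∈ F.V → n * K.e * n⁻¹ = K.e * v → n ∈ K.D
  cenQ : ∀ x, x * K.e = K.e * x → x * K.z = K.z * x → x * K.y = K.y * x → x * K.t = K.t * x →
    x * K.rho = K.rho * x → x * K.al = K.al * x → x = 1 ∨ x = K.e ∨ x = K.z ∨ x = K.e * K.z
  R0 : F.R0 ≤ K.H
  nX : ∀ v ∈ F.V, ¬ F.X (K.t * K.al * v)

namespace CF

variable {F : CF G} {b u c s R : G} {Q : Fin 3 → Fin 3 → G}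

theorem std_p {ρ α : G} (h : ρ = F.r ∧ (α = F.a3 * 1 ∨ α = F.a3 * F.z) ∨
    ρ = F.t * F.r ∧ (α = F.a3 * F.y ∨ α = F.a3 * (F.y * F.z))) :
    ∃ q ∈ F.R1, q * q * q = 1 ∧ q * F.y = F.t * α * q ∧ q * F.t = ρ * q ∧ q * ρ = ρ * F.t * q ∧
      q * α = ρ * F.t * F.y * α * q ∧ ∀ x ∈ F.R0, x * x * x = 1 → x * F.y = F.t * α * x →
        x * F.t = ρ * x → x * ρ = ρ * F.t * x → x * α = ρ * F.t * F.y * α * x → x = q := by
  rcases h with ⟨rfl, rfl | rfl⟩ | ⟨rfl, rfl | rfl⟩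
  · simpa only [mul_one] using F.std_p0
  · simpa only [mul_assoc] using F.std_p1
  · simpa only [mul_assoc] using F.std_p2
  · simpa only [mul_assoc] using F.std_p3

/-- the words of `e`, `t`, `r` -/
def DE : List (List ℕ) := [[], [1], [4], [5]]

/-- composite action tables -/
def tw (W : List (List ℕ)) (w : List Bool) : List (List ℕ) :=
  w.foldr (fun c T => T.map (sb (cond c W [[], [1], [3], [2, 3]]))) [[], [1], [2], [3]]

theorem act_DE {x : G} {L1 L2 L3 : List ℕ} (h1 : x * F.e * x⁻¹ = wv (lf [1, F.e, F.t, F.r]) L1)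
    (h2 : x * F.t * x⁻¹ = wv (lf [1, F.e, F.t, F.r]) L2)
    (h3 : x * F.r * x⁻¹ = wv (lf [1, F.e, F.t, F.r]) L3) : Act (sg F.g0 DE) x [[], L1, L2, L3] := by
  have : sg F.g0 DE = lf [1, F.e, F.t, F.r] := funext fun l => by
    rcases l with _ | _ | _ | _ | l <;> first | rfl | exact one_mul _
  rw [this]
  intro l
  rcases l with _ | _ | _ | _ | l
  exacts [by simp [lf, sg], h1, h2, h3, by simp [lf, sg]]

theorem no_act [Finite G] {W : List (List ℕ)} (a : Act (sg F.g0 DE) u W) (w : List Bool)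
    (hd : MC.dec (.and (.eq (sb DE ((tw W w).getD 1 [])) [1])
      (.eq (sb DE ((tw W w).getD 2 [])) [5, 1])) = true) : False := by
  have ap : Act (sg F.g0 DE) F.p [[], [1], [3], [2, 3]] :=
    act_DE ((by cw F : _ = F.e).trans (one_mul _).symm) ((by cw F : _ = F.r).trans (one_mul _).symm)
      (by change _ = 1 * F.r * F.t; cw F)
  have : Act (sg F.g0 DE) (pw u F.p w) (tw W w) := by
    clear hd
    induction w with
    | nil => exact act_DE (by simp [pw, lf]) (by simp [pw, lf]) (by simp [pw, lf])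
    | cons c w ih => cases c; exacts [ap.mul ih, a.mul ih]
  obtain ⟨h1, h2⟩ := PM.holds MC_ok MC_subs F.emb hd
  simp only [Fm.sem, wv_sb] at h1 h2
  have e1 := (this 1).trans h1
  have e2 := (this 2).trans h2
  simp only [sg, DE, List.getD_cons_succ, List.getD_cons_zero, wv_cons, wv_nil, one_mul] at e1 e2
  have := F.comm_mem (memC.2 (of_cj e1)) (memC.2 F.ce.2.2.1)
  rw [show pw u F.p w * F.t * (pw u F.p w)⁻¹ = F.e * F.r from e2, mul_assoc] at this
  exact F.e_nM ((mul_mem_cancel_right (mul_mem (let_mem _ 5 (by decide +kernel))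
    (inv_mem (let_mem _ 4 (by decide +kernel))))).1 this)

namespace Uf

variable [Finite G] (h : F.Uf b u Q)
include h

theorem Q_blocks {i j : Fin 3} (a c : Fin 3) (hij : i ≠ j) : Q i a * Q j c = Q j c * Q i a := by
  obtain ⟨v, hv, e⟩ := h.qv i a
  obtain ⟨w, hw, e'⟩ := h.qv j c
  rw [e, e']
  exact Commute.mul_left (Commute.mul_right (h.q_blocks i j a c hij) (h.DV (h.qm _ _) hw))
    (Commute.mul_right (h.DV (h.qm _ _) hv).symm (h.DV (h.V_le hv) hw))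

theorem Q_prod (i : Fin 3) : Q i 0 * Q i 1 * Q i 2 = 1 := by
  have a0 : u * Q i 0 = Q i 1 * u := h.actQ h.au rfl i 0
  have a1 : u * Q i 1 = Q i 2 * u := h.actQ h.au rfl i 1
  have := h.cube i 0
  simp only [mul_assoc, as a0, as a1] at this
  rwa [← mul_assoc u, h.u3, mul_one, ← mul_assoc] at this

theorem tri_eq {x : G} {a : Fin 3} (hx : ∃ v ∈ F.V, x = F.q b 0 a * F.q b 1 a * F.q b 2 a * v)
    (hg : x * F.g = F.g * x) : Q 0 a * Q 1 a * Q 2 a = x := by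
  obtain ⟨v, hv, e⟩ := hx
  obtain ⟨v0, h0, e0⟩ := h.qv 0 a
  obtain ⟨v1, h1, e1⟩ := h.qv 1 a
  obtain ⟨v2, h2, e2⟩ := h.qv 2 a
  have hw := mul_mem (inv_mem (mul_mem (mul_mem h0 h1) h2)) hv
  have e3 : x = Q 0 a * Q 1 a * Q 2 a * ((v0 * v1 * v2)⁻¹ * v) := by
    rw [e, e0, e1, e2, Commute.mul_mul_mul_comm (h.DV (h.qm _ _) h0).symm,
      Commute.mul_mul_mul_comm (h.DV (h.qm _ _) (mul_mem h0 h1)).symm]; group
  have g0 : F.g * Q 0 a = Q 1 a * F.g := h.actQ h.acg h.ug.symm 0 a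
  have g1 : F.g * Q 1 a = Q 2 a * F.g := h.actQ h.acg h.ug.symm 1 a
  have g2 : F.g * Q 2 a = Q 0 a * F.g := h.actQ h.acg h.ug.symm 2 a
  have c : F.g * (Q 0 a * Q 1 a * Q 2 a) = Q 0 a * Q 1 a * Q 2 a * F.g := by
    simp only [mul_assoc, as g0, as g1, g2, as (h.Q_blocks a a (by decide : (2 : Fin 3) ≠ 0)),
      as (h.Q_blocks a a (by decide : (1 : Fin 3) ≠ 0))]
  rw [e3, ← mul_assoc F.g, c, mul_assoc _ _ F.g, mul_assoc _ F.g, mul_right_inj] at hg
  rw [e3, V_g hw hg, mul_one]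

theorem e_eq : Q 0 0 * Q 1 0 * Q 2 0 = F.e := h.tri_eq h.vals.1 (by cw F)

theorem t_eq : Q 0 1 * Q 1 1 * Q 2 1 = F.t := h.tri_eq h.vals.2.1 (by cw F)

theorem ue : u * F.e * u⁻¹ = F.t := by
  rw [← h.e_eq, ← h.t_eq, ← conj_mul, ← conj_mul, cj_of (h.actQ h.au rfl 0 0),
    cj_of (h.actQ h.au rfl 1 0), cj_of (h.actQ h.au rfl 2 0)]; rfl

theorem ut : u * F.t * u⁻¹ = F.e * F.t := by
  have et : F.e ≠ F.t := by cw F
  have a := cj_comm (k := u) (show F.t * F.g = F.g * F.t by cw F)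
  rw [cj_of h.ug] at a
  rcases h.cent_g _ (h.normD h.au _ (h.letD 4 (by simp))) a with e | e | e | e
  · exact absurd (conj_eq_one_iff.1 e) F.ne.2.2.2.2.2.1
  · refine absurd ?_ et
    replace e : u * F.t * u⁻¹ = F.e := e
    calc F.e = u * u * u * F.e * (u * u * u)⁻¹ := by rw [h.u3]; group
      _ = u * (u * (u * F.e * u⁻¹) * u⁻¹) * u⁻¹ := by group
      _ = _ := by rw [h.ue, e, h.ue]
  · replace e : u * F.t * u⁻¹ = F.t := e
    have := h.ue.trans e.symm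
    exact absurd (by simpa using this) et
  · exact e

theorem al_eq : ∃ v ∈ F.V, Q 0 0 * Q 1 0 = F.a3 * v := by
  obtain ⟨v, hv, e⟩ := h.vals.2.2.2.2.1
  obtain ⟨v0, h0, e0⟩ := h.qv 0 0
  obtain ⟨v1, h1, e1⟩ := h.qv 1 0
  exact ⟨_, mul_mem hv (mul_mem h0 h1), by
    rw [e0, e1, Commute.mul_mul_mul_comm (h.DV (h.qm _ _) h0).symm, e, mul_assoc]⟩

end Uf

namespace Ff

variable [Finite G] (h : F.Ff b u Q c s R)
include h

theorem rho : F.e * R = F.r ∨ F.e * R = F.t * F.r := by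
  have k : ∀ L, u * F.r * u⁻¹ = wv (lf [1, F.e, F.t, F.r]) L →
      Act (sg F.g0 DE) u [[], [2], [2, 1], L] := fun L e =>
    act_DE (h.ue.trans (one_mul _).symm) (h.ut.trans (congrArg (· * F.t) (one_mul _).symm)) e
  have uR := cj_of h.Ru.symm
  rcases h.Rr with e | e | e | e <;> rw [e] at uR ⊢
  · exact (no_act (k [3] (uR.trans (one_mul _).symm)) [true, false, true, false, false, true]
      (by decide +kernel)).elim
  · exact Or.inl (by cw F)
  · refine (no_act (k [1, 3] ?_) [true, false, true, false, true, true] (by decide +kernel)).elim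
    rw [← conj_mul, h.ut, ← eq_mul_inv_iff_mul_eq] at uR
    rw [uR]
    change _ = 1 * F.r * F.e
    cw F
  · exact Or.inr (by cw F)

theorem emb (p : G) : Emb MK.m (KD.gK ⟨F.z, F.y, Q, u, c, s, R, p⟩) := by
  have z := fun i a => (h.D_comm _ (h.QD i a)).1
  have y := fun i a => (h.D_comm _ (h.QD i a)).2
  have q := fun i a => h.Q_sq i a
  have b0 := fun a c => h.Q_blocks (i := 0) (j := 1) a c (by decide)
  have b1 := fun a c => h.Q_blocks (i := 0) (j := 2) a c (by decide)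
  have b2 := fun a c => h.Q_blocks (i := 1) (j := 2) a c (by decide)
  have au := h.actQ h.au rfl
  have ac := h.actQ h.ac h.cu
  have as := h.act' h.as h.su
  have ar := h.actQ h.ar h.Ru
  have Rz : R * F.z * R⁻¹ = F.z := F.zi_val.2.2 ▸ h.cj_zi h.ar (2, 0)
  have Ry : R * F.y * R⁻¹ = F.y * F.z := F.zi_val.2.1 ▸ F.zi_val.1 ▸ h.cj_zi h.ar (0, 0)
  refine embK (sat_of_eqs (KD.satK0 _ (KD.satH0 _ F.sq.2.1 F.sq.2.2.1 h.s2 h.R2)) eK ?_
    (by decide +kernel)) (fun l hl => List.getD_eq_default _ _ hl) ?_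
  · simp only [eK, List.forall_mem_cons, List.not_mem_nil, IsEmpty.forall_iff, implies_true,
      and_true, wv_cons, wv_nil, one_mul]
    exact ⟨F.cz.1, (q 0 0).trans F.zi_val.1, (q 0 1).trans F.zi_val.1, (q 0 2).trans F.zi_val.1,
      (q 1 0).trans F.zi_val.2.1, (q 1 1).trans F.zi_val.2.1, (q 1 2).trans F.zi_val.2.1,
      (q 2 0).trans F.zi_val.2.2, (q 2 1).trans F.zi_val.2.2, (q 2 2).trans F.zi_val.2.2,
      h.Q_prod 0, h.Q_prod 1, h.Q_prod 2, z 0 0, z 0 1, z 0 2, z 1 0, z 1 1, z 1 2, z 2 0, z 2 1,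
      z 2 2, y 0 0, y 0 1, y 0 2, y 1 0, y 1 1, y 1 2, y 2 0, y 2 1, y 2 2, b0 0 0, b0 0 1, b0 1 0,
      b0 1 1, b1 0 0, b1 0 1, b1 1 0, b1 1 1, b2 0 0, b2 0 1, b2 1 0, b2 1 1,
      au 0 0, au 0 1, au 0 2, au 1 0, au 1 1, au 1 2, au 2 0, au 2 1, au 2 2,
      (h.blk h.au fun _ => rfl).1, (h.blk h.au fun _ => rfl).2, h.u3,
      ac 0 0, ac 0 1, ac 0 2, ac 1 0, ac 1 1, ac 1 2, ac 2 0, ac 2 1, ac 2 2,
      (h.blk h.ac fun _ => rfl).1, (h.blk h.ac fun _ => rfl).2, h.cc3, h.cu,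
      as 0 0, as 0 1, as 0 2, as 1 0, as 1 1, as 1 2, as 2 0, as 2 1, as 2 2,
      (h.blk h.as fun _ => rfl).1, (h.blk h.as fun _ => rfl).2, of_cj h.su, of_cj h.sc,
      ar 0 0, ar 0 1, ar 0 2, ar 1 0, ar 1 1, ar 1 2, ar 2 0, ar 2 1, ar 2 2,
      of_cj Rz, of_cj Ry, h.Ru, of_cj h.Rc, h.Rs⟩
  · simp only [List.forall_mem_cons, List.not_mem_nil, IsEmpty.forall_iff, implies_true,
      and_true, wv_cons, wv_nil, one_mul]
    exact ⟨F.ne.2.1, F.ne.2.2.1, F.ne.2.2.2.2.1⟩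

theorem exists_KF : ∃ K, KF F K := by
  obtain ⟨v, hv, ea⟩ := h.al_eq
  have em := h.emb 1
  set K1 : KD G := ⟨F.z, F.y, Q, u, c, s, R, 1⟩ with hK1
  have e1 : K1.e = F.e := h.e_eq
  have e2 : K1.t = F.t := h.t_eq
  have e3 : K1.rho = F.e * R := congrArg (· * R) h.e_eq
  have e4 : K1.al = F.a3 * v := ea
  have c0 : K1.rho * K1.al = K1.al * K1.rho := by ck K1 em
  have hc : K1.rho = F.r ∧ (K1.al = F.a3 * 1 ∨ K1.al = F.a3 * F.z) ∨
      K1.rho = F.t * F.r ∧ (K1.al = F.a3 * F.y ∨ K1.al = F.a3 * (F.y * F.z)) := by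
    rw [e3, e4] at c0 ⊢
    rcases h.rho with e | e <;> rw [e] at c0 ⊢ <;>
      rcases F.v_cases v hv with rfl | rfl | rfl | rfl <;>
      first
        | (refine absurd c0 ?_; cw F)
        | simp
  obtain ⟨p, hp, p3, p1, p2, p4, p5, pu⟩ := std_p hc
  have pe := memC.1 (F.R0_le (F.R1_le hp))
  have pz : p * F.z = F.z * p := mem_centralizer_singleton_iff.1 ((sub_le fun L hL => by
    simp only [PM.W, List.getD_cons_succ, List.getD_cons_zero, List.mem_cons, List.not_mem_nil,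
      or_false] at hL
    rw [mem_centralizer_singleton_iff]
    rcases hL with rfl | rfl | rfl | rfl | rfl | rfl | rfl | rfl <;> cw F :
      F.R1 ≤ centralizer {F.z}) hp)
  have pw0 : p * K1.w0 = K1.w0 * p := by
    have k : ∀ x y, K1.w0 * x = x * K1.w0 → K1.w0 * y = y * K1.w0 → p * x = y * p →
        K1.w0 * p * K1.w0⁻¹ * x = y * (K1.w0 * p * K1.w0⁻¹) := fun x y a b e => by
      rw [← cj_of a, ← cj_of b, conj_mul, conj_mul, e]
    have a := cj_R0 (b := K1.w0) (show K1.w0 * K1.z = K1.z * K1.w0 by ck K1 em)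
      (e1 ▸ show K1.w0 * K1.e = K1.e * K1.z * K1.w0 by ck K1 em) pe pz
    rw [← e2] at p1 p2 p4 p5 pu
    exact (of_cj (pu _ (F.memR0 a.1 a.2) (cube_cj p3 _)
      (k K1.y (K1.t * K1.al) (by ck K1 em) (by ck K1 em) p1) (k _ _ (by ck K1 em) (by ck K1 em) p2)
      (k _ _ (by ck K1 em) (by ck K1 em) p4)
      (k _ (K1.rho * K1.t * K1.y * K1.al) (by ck K1 em) (by ck K1 em) p5))).symm
  let K : KD G := ⟨F.z, F.y, Q, u, c, s, R, p⟩
  have hD : F.D b ≤ K.D := sub_le fun L hL => by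
    obtain ⟨i, a, rfl, l, hl, e⟩ := (by decide +kernel : ∀ L ∈ MD.W 1, ∃ i a, L = wq i a ∧
      ∃ l ∈ [3, 5, 9, 11, 15, 17], l = 3 + 6 * i.1 + 2 * a.1) L hL
    obtain ⟨w, hw, e'⟩ := h.qv i a
    have hV : F.V ≤ K.D := sub_le fun L hL => by
      simp only [PM.W, List.getD_cons_succ, List.getD_cons_zero, List.mem_cons, List.not_mem_nil,
        or_false] at hL
      rcases hL with rfl | rfl <;> rw [← w_let]
      exacts [let_mem K.gK 1 (by decide +kernel), let_mem K.gK 2 (by decide +kernel)]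
    refine (mul_mem_cancel_right (hV hw)).1 (e' ▸ ?_)
    have : K.gK (3 + 6 * i.1 + 2 * a.1) = Q i a := by fin_cases i <;> fin_cases a <;> rfl
    rw [← this, ← e]
    exact let_mem _ l ((by decide +kernel : ∀ l ∈ [3, 5, 9, 11, 15, 17], [l] ∈ MK.W 1) l hl)
  have DH := hD.trans (K.D_le.trans K.Kz_le)
  refine ⟨K, rfl, rfl, e1, e2, Sat.append (R := rK) ⟨rfl, (K.satH0 F.sq.2.1 F.sq.2.2.1 h.s2 h.R2).inv,
    fun r hr => (K.gH_wv ((by decide +kernel : ∀ r ∈ rK, r.all (· < 27) = true) r hr)).trans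
      ((KD.sat0 em).rel r hr)⟩ (sat_of_eqs (K.satH0 F.sq.2.1 F.sq.2.2.1 h.s2 h.R2) eP ?_
      (by decide +kernel)).rel, em, fun n w a1 a2 hw e => hD (h.memD a1 a2 hw (e1 ▸ e)),
    fun x a1 a2 a3 a4 a5 a6 => ?_, ?_, fun w hw => ?_⟩
  · rw [← e2] at p1 p2 p4 p5
    rw [← e1] at pe
    simp only [KD.e, KD.t, KD.al, KD.rho, KD.w0, ← mul_assoc] at p1 p2 p4 p5 pe pw0
    simp only [eP, List.forall_mem_cons, List.not_mem_nil, IsEmpty.forall_iff, implies_true,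
      and_true, wv_cons, wv_nil, one_mul]
    exact ⟨p3, pz, p1, p2, p4, p5, pe, pw0⟩
  · replace a1 : x * F.e = F.e * x := e1 ▸ a1
    replace a4 : x * F.t = F.t * x := e2 ▸ a4
    replace a5 : x * K1.rho = K1.rho * x := a5
    replace a6 : x * (F.a3 * v) = F.a3 * v * x := e4 ▸ a6
    rw [show K.e = F.e from e1]
    refine F.cent_Q x (F.memR0 a1 a2) a3 a4 ?_ ?_
    · rcases hc with ⟨e, -⟩ | ⟨e, -⟩ <;> rw [e] at a5
      · exact a5
      · rw [← mul_assoc, a4, mul_assoc, mul_assoc] at a5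
        exact mul_left_cancel a5
    · rw [← mul_assoc, mul_assoc F.a3, ← F.V_comm a2 a3 hv, ← mul_assoc] at a6
      exact mul_right_cancel a6
  · have hT : F.T0 ≤ F.R0 ⊓ K.H := le_inf (sub_le fun L hL => wv_mem_sub _
        (by revert L; decide +kernel)) (sub_le fun L hL => by
      simp only [PM.W, List.getD_cons_succ, List.getD_cons_zero, List.mem_cons, List.not_mem_nil,
        or_false] at hL
      have hr : F.r ∈ K.H := by
        have : K1.rho ∈ K.H := e3 ▸ mul_mem (DH (h.letD 1 (by simp))) (K.letH 26 (by decide))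
        rcases hc with ⟨e, -⟩ | ⟨e, -⟩ <;> rw [e] at this
        exacts [this, (mul_mem_cancel_left (DH (h.letD 4 (by simp)))).1 this]
      rcases hL with rfl | rfl | rfl | rfl | rfl | rfl | rfl | rfl <;> rw [← w_let]
      exacts [DH (h.letD 1 (by simp)), DH (h.letD 2 (by simp)), DH (h.letD 3 (by simp)),
        DH (h.letD 4 (by simp)), hr, DH (h.letD 6 (by simp)), DH (h.letD 8 (by simp)),
        DH (h.letD 10 (by simp))])
    have d1 := card_dvd_of_le hT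
    have : Fact (Nat.Prime 3) := ⟨by norm_num⟩
    have d2 := orderOf_dvd_natCard (⟨p, F.R1_le hp, K.letH 27 (by decide)⟩ : ↥(F.R0 ⊓ K.H))
    rw [← Subgroup.orderOf_coe, orderOf_eq_prime (p := 3) (by simpa [pow_succ] using p3) (by
      rintro (rfl : p = 1)
      rw [one_mul, mul_one] at p2
      rcases hc with ⟨e, -⟩ | ⟨e, -⟩ <;> exact absurd (p2.trans e) (by cw F))] at d2
    rw [F.card_T0] at d1
    exact inf_eq_left.1 (eq_of_le_of_card_ge inf_le_left (by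
      rw [F.card_R0]
      exact Nat.le_of_dvd Nat.card_pos (Nat.Coprime.mul_dvd_of_dvd_of_dvd (by norm_num) d1 d2)))
  · rw [show K.t = F.t from e2, show K.al = F.a3 * v from e4, ← mul_assoc, mul_assoc _ v]
    exact F.nX_ta3 (mul_mem hv hw)

end Ff

theorem Kb.exists_KF [Finite G] (h : F.Kb b) : ∃ K, KF F K := by
  obtain ⟨u, Q, h⟩ := h.exists_Uf
  obtain ⟨c, s, R, h⟩ := h.exists_Ff
  exact h.exists_KF

end CF

end Cfsg.Lib.Co3M
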