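import Cfsg.Agent.Co3M.Rk
import Cfsg.Agent.Co3M.ModB

/-! The remaining case for `b`: the group `D` of order `256` and its nine points. -/

set_option autoImplicit false
set_option linter.unusedSimpArgs false
set_option maxRecDepth 100000

namespace Cfsg.Lib.Co3M

open Subgroup Cfsg.Lib.Trans Cfsg.Lib.Spor Cfsg.Lib.Spor.Bulk Cfsg.Lib.Spor.PK Cfsg.Lib.Spor.WF

variable {G : Type*} [Group G]

namespace CF

/-- the case of the third Conway group -/
structure Kb (F : CF G) (b : G) : Prop extends F.Nb b where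
  sq2 : b * b = F.z
  c3 : b * F.a3 * b⁻¹ = F.a3 * F.z
  c1 : b * F.a1 * b⁻¹ = F.a1 * (F.y * F.z)

variable (F : CF G) (b : G)

/-- the letters -/
def gB : ℕ → G := lf [F.g0 0, F.g0 1, F.g0 2, F.g0 3, F.g0 4, F.g0 5, F.g0 6, F.g0 7, F.g0 8, F.g0 9,
  F.g0 10, F.g0 11, F.g0 12, F.g0 13, F.g * b * F.g⁻¹, (F.g * b * F.g⁻¹)⁻¹,
  F.g * (F.g * b * F.g⁻¹) * F.g⁻¹, (F.g * (F.g * b * F.g⁻¹) * F.g⁻¹)⁻¹, b, b⁻¹]

/-- representatives of the nine points -/
def q (i a : Fin 3) : G := wv (F.gB b) (wq i a)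

/-- squares of the points -/
def zi (i : Fin 3) : G := wv (F.gB 1) (wz i)

/-- the subgroup of order `256` -/
def D : Subgroup G := sub (F.gB b) (MD.W 1)

theorem gB_lt {l : ℕ} (h : l < 14) : F.gB b l = F.g0 l := by interval_cases l <;> rfl

theorem gB_wv {L : List ℕ} (h : L.all (· < 14) = true) : wv (F.gB b) L = wv F.g0 L :=
  wv_congr fun l hl => F.gB_lt b (by simpa using List.all_eq_true.1 h l hl)

theorem zi_eq (i : Fin 3) : wv (F.gB b) (wz i) = F.zi i :=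
  (F.gB_wv b (by revert i; decide)).trans (F.gB_wv 1 (by revert i; decide)).symm

theorem zi_val : F.zi 0 = F.y ∧ F.zi 1 = F.y * F.z ∧ F.zi 2 = F.z :=
  ⟨one_mul _, congrArg (· * F.z) (one_mul _), one_mul _⟩

theorem ziV (i : Fin 3) : F.zi i ∈ F.V := by
  fin_cases i
  exacts [F.zi_val.1 ▸ F.yV, F.zi_val.2.1 ▸ yzV, F.zi_val.2.2 ▸ F.zV]

theorem zi_ne (i : Fin 3) : F.zi i ≠ 1 := by
  fin_cases i
  exacts [F.zi_val.1 ▸ F.ne.2.2.1, F.zi_val.2.1 ▸ F.ne.2.2.2.2.1, F.zi_val.2.2 ▸ F.ne.2.1]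

theorem V_eq : sub (F.gB b) (MD.W 2) = F.V := rfl

theorem satB0 : Sat (F.gB b) 20 iN [] :=
  ⟨F.sat.zero, fun l hl => by
    by_cases a : l < 14
    · rw [F.gB_lt b a, F.gB_lt b ((by decide +kernel : ∀ l < 14, iN l < 14) l a)]
      exact F.sat.inv l (by omega)
    · interval_cases l <;> first | rfl | exact (inv_inv _).symm, by simp⟩

theorem wsB : F.e = wv (F.gB b) [1] ∧ F.z = wv (F.gB b) [2] ∧ F.y = wv (F.gB b) [3] ∧
    F.t = wv (F.gB b) [4] ∧ F.r = wv (F.gB b) [5] ∧ F.a1 = wv (F.gB b) [6] ∧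
    F.a2 = wv (F.gB b) [8] ∧ F.a3 = wv (F.gB b) [10] ∧ F.g = wv (F.gB b) [12] :=
  ⟨w_let (F.gB b) 1, w_let (F.gB b) 2, w_let (F.gB b) 3, w_let (F.gB b) 4, w_let (F.gB b) 5,
    w_let (F.gB b) 6, w_let (F.gB b) 8, w_let (F.gB b) 10, w_let (F.gB b) 12⟩

variable {F b}

theorem Nb.prod (h : F.Nb b) : b * (F.g * b * F.g⁻¹) * (F.g * (F.g * b * F.g⁻¹) * F.g⁻¹) = 1 := by
  rw [← h.n]
  calc _ = b * F.g * b * F.g * b * (F.g⁻¹ * F.g⁻¹) := by group
    _ = _ := by rw [show F.g⁻¹ * F.g⁻¹ = F.g by cw F]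

namespace Kb

variable [Finite G] (h : F.Kb b)
include h

theorem emb : Emb MD.m (F.gB b) := by
  refine embB (sat_of_eqs (F.satB0 b) (eB1 ++ eB2) (List.forall_mem_append.2 ⟨fun p hp => ?_, ?_⟩)
    (by decide +kernel)) (fun l hl => List.getD_eq_default _ _ hl) ?_
  · have := (by decide +kernel : ∀ p ∈ eB1, p.1.all (· < 14) = true ∧ p.2.all (· < 14) = true) p hp
    rw [F.gB_wv b this.1, F.gB_wv b this.2]
    exact sem_andL.1 (PM.holds (M := bare MC) MC_ok (bare_subs MC) F.emb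
      (p := andL eB1 fun p => .eq p.1 p.2) (by decide +kernel)) p hp
  · simp only [eB2, List.forall_mem_cons, List.not_mem_nil, IsEmpty.forall_iff, implies_true,
      and_true, wv_cons, wv_nil, one_mul]
    exact ⟨h.y, h.z, h.t, h.r, h.e, (inv_mul_cancel_right _ _).symm,
      (inv_mul_cancel_right _ _).symm, h.toNb.prod, comm_b1 h.toPb h.n, h.sq2, of_cj h.c3,
      (of_cj h.c1).trans (by rw [← mul_assoc]; rfl)⟩
  · simp only [List.forall_mem_cons, List.not_mem_nil, IsEmpty.forall_iff, implies_true,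
      and_true, wv_cons, wv_nil, one_mul]
    exact ⟨F.ne.2.1, F.ne.2.2.1, F.ne.2.2.2.2.1⟩

theorem holds {p : Fm} (hd : MD.dec p = true) :
    p.sem (fun i => sub (F.gB b) (MD.W i)) (F.gB b) := PM.holds MD_ok MD_subs h.emb hd

theorem card_D : Nat.card (F.D b) = 256 := PM.card_of_emb MD_ok MD_subs h.emb 1

/-- unfold the meaning of a formula -/
macro "sem_at " h:ident : tactic =>
  `(tactic| simp (disch := decide) only [sem_and3, sem_or3, sem_impB, sem_andL, Fm.sem, wv_cons,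
    wv_append, wv_nil, one_mul, wq_upd, wz_upd, zi_eq, upd_apply, Nat.reduceEqDiff, ↓reduceIte,
    decide_eq_true_eq] at $h:ident)

theorem D_comm : ∀ d ∈ F.D b, d * F.z = F.z * d ∧ d * F.y = F.y * d := by
  have := h.holds (p := .all 1 40 (.and (.eq [2, 40] [40, 2]) (.eq [3, 40] [40, 3])))
    (by decide +kernel)
  sem_at this
  exact this

theorem D_sq : ∀ d ∈ F.D b, ∃ v ∈ F.V, d * d = v := by
  have := h.holds (p := .all 1 40 (.ex 2 41 (.eq [40, 40] [41]))) (by decide +kernel)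
  sem_at this
  exact this

theorem comm_x : ∀ d ∈ F.D b, ∃ v ∈ F.V,
    d * F.e * F.t * F.a3 = F.e * F.t * F.a3 * v * d := by
  have := h.holds (p := .all 1 40 (.ex 2 41 (.eq [10, 4, 1, 40] [40, 41, 10, 4, 1])))
    (by decide +kernel)
  sem_at this
  exact this

theorem q_comm : ∀ d ∈ F.D b, ∀ i a, d * F.q b i a = F.q b i a * d ∨
    d * F.q b i a = F.q b i a * F.zi i * d := by
  have := h.holds (p := .all 1 40 (and3 fun i => and3 fun a => .or (.eq (wq i a ++ [40])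
    (40 :: wq i a)) (.eq (wq i a ++ [40]) (40 :: (wz i ++ wq i a))))) (by decide +kernel)
  sem_at this
  exact this

theorem q_type : ∀ d ∈ F.D b, ∀ i, d * d = F.zi i → (∀ a, F.q b (i + 1) a * d = d * F.q b (i + 1) a ∨
    F.q b (i + 1) a * d = d * F.zi i * F.q b (i + 1) a) → ∃ a, ∃ v ∈ F.V, d = F.q b i a * v := by
  have := h.holds (p := .all 1 40 (and3 fun i => .imp (.eq [40, 40] (wz i)) (.imp
    (and3 fun a => .or (.eq (40 :: wq (i + 1) a) (wq (i + 1) a ++ [40]))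
      (.eq (40 :: wq (i + 1) a) (wq (i + 1) a ++ (wz i ++ [40]))))
    (or3 fun a => .ex 2 41 (.eq [40] (41 :: wq i a)))))) (by decide +kernel)
  sem_at this
  exact this

theorem q_sq : ∀ i a, F.q b i a * F.q b i a = F.zi i := by
  have := h.holds (p := and3 fun i => and3 fun a => .eq (wq i a ++ wq i a) (wz i))
    (by decide +kernel)
  sem_at this
  exact this

theorem q_inj : ∀ v ∈ F.V, ∀ i a c, a ≠ c → F.q b i a ≠ F.q b i c * v := by
  have := h.holds (p := .all 2 40 (and3 fun i => and3 fun a => and3 fun c => impB (decide (a ≠ c))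
    (.not (.eq (wq i a) (40 :: wq i c))))) (by decide +kernel)
  sem_at this
  exact this

theorem tri : ∀ v ∈ F.V, ∀ a c d, ¬ (a = 0 ∧ c = 0 ∧ d = 0) →
    F.e ≠ F.q b 0 a * F.q b 1 c * F.q b 2 d * v := by
  have := h.holds (p := .all 2 40 (and3 fun a => and3 fun c => and3 fun d =>
    impB (decide (¬ (a = 0 ∧ c = 0 ∧ d = 0)))
    (.not (.eq [1] (40 :: (wq 2 d ++ (wq 1 c ++ wq 0 a))))))) (by decide +kernel)
  sem_at this
  exact this

theorem vals : (∃ v ∈ F.V, F.e = F.q b 0 0 * F.q b 1 0 * F.q b 2 0 * v) ∧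
    (∃ v ∈ F.V, F.t = F.q b 0 1 * F.q b 1 1 * F.q b 2 1 * v) ∧
    (∃ v ∈ F.V, F.e * F.t * F.a3 = F.q b 0 1 * F.q b 1 1 * F.q b 2 2 * v) ∧
    (∃ v ∈ F.V, F.q b 0 2 * F.q b 1 2 * F.q b 2 1 = F.t * F.a3 * v) ∧
    (∃ v ∈ F.V, F.q b 0 0 * F.q b 1 0 = F.a3 * v) ∧
    ∀ i, ∃ v ∈ F.V, F.q b i 0 * F.q b i 1 * F.q b i 2 = v := by
  have := h.holds (p := .and (.ex 2 40 (.eq [1] (40 :: (wq 2 0 ++ (wq 1 0 ++ wq 0 0)))))
    (.and (.ex 2 40 (.eq [4] (40 :: (wq 2 1 ++ (wq 1 1 ++ wq 0 1)))))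
    (.and (.ex 2 40 (.eq [10, 4, 1] (40 :: (wq 2 2 ++ (wq 1 1 ++ wq 0 1)))))
    (.and (.ex 2 40 (.eq (wq 2 1 ++ (wq 1 2 ++ wq 0 2)) [40, 10, 4]))
    (.and (.ex 2 40 (.eq (wq 1 0 ++ wq 0 0) [40, 10]))
    (and3 fun i => .ex 2 40 (.eq (wq i 2 ++ (wq i 1 ++ wq i 0)) [40]))))))) (by decide +kernel)
  sem_at this
  exact this

theorem cenD : ∀ d ∈ F.D b, (∀ i a, d * F.q b i a = F.q b i a * d) → ∃ v ∈ F.V, d = v := by
  have := h.holds (p := .all 1 40 (.imp (and3 fun i => and3 fun a => .eq (wq i a ++ [40])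
    (40 :: wq i a)) (.ex 2 41 (.eq [40] [41])))) (by decide +kernel)
  sem_at this
  exact this

theorem cent_g : ∀ d ∈ F.D b, d * F.g = F.g * d → d = 1 ∨ d = F.e ∨ d = F.t ∨ d = F.e * F.t := by
  have := h.holds (p := .all 1 40 (.imp (.eq [12, 40] [40, 12]) (.or (.eq [40] [])
    (.or (.eq [40] [1]) (.or (.eq [40] [4]) (.eq [40] [4, 1])))))) (by decide +kernel)
  sem_at this
  exact this

theorem letD : ∀ l ∈ [1, 2, 3, 4, 6, 8, 10, 14, 16, 18], F.gB b l ∈ F.D b := fun l hl => by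
  obtain ⟨d, hd, e⟩ := sem_andL.1 (h.holds (p := andL [1, 2, 3, 4, 6, 8, 10, 14, 16, 18] fun l =>
    .ex 1 40 (.eq [l] [40])) (by decide +kernel)) l hl
  have : l ≠ 40 := by rintro rfl; simp at hl
  simp only [Fm.sem, wv_cons, wv_nil, one_mul, upd_apply, this, ↓reduceIte] at e
  exact e ▸ hd

theorem qD : ∀ i a, ∃ d ∈ F.D b, F.q b i a = d := by
  have := h.holds (p := and3 fun i => and3 fun a => .bind 41 (wq i a) (.ex 1 40 (.eq [41] [40])))
    (by decide +kernel)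
  sem_at this
  exact this

theorem q_blocks : ∀ i j a c, i ≠ j → F.q b i a * F.q b j c = F.q b j c * F.q b i a := by
  have := h.holds (p := and3 fun i => and3 fun j => and3 fun a => and3 fun c =>
    impB (decide (i ≠ j)) (.eq (wq j c ++ wq i a) (wq i a ++ wq j c))) (by decide +kernel)
  sem_at this
  exact this

theorem q_g : ∀ i a, F.g * F.q b i a = F.q b (i + 1) a * F.g ∧
    F.r * F.q b i a = F.q b (1 - i) a * F.r := by
  have := h.holds (p := and3 fun i => and3 fun a => .and (.eq (wq i a ++ [12]) (12 :: wq (i + 1) a))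
    (.eq (wq i a ++ [5]) (5 :: wq (1 - i) a))) (by decide +kernel)
  sem_at this
  exact this

end Kb

end CF

end Cfsg.Lib.Co3M
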