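import Cfsg.Agent.Co3M.Bb

/-! Two of the four cases for `b` contradict the `2`-rank of the centralizer. -/

set_option autoImplicit false
set_option linter.unusedSimpArgs false

namespace Cfsg.Lib.Co3M

open Subgroup Cfsg.Lib.Trans Cfsg.Lib.Spor Cfsg.Lib.Spor.Bulk Cfsg.Lib.Spor.PK Cfsg.Lib.Spor.WF

variable {G : Type*} [Group G]

namespace CF

variable {F : CF G}

theorem Pb.Xez {b : G} (h : F.Pb b) : F.X (F.e * F.z) := F.Xe.conj h.e

theorem Pb.Xev {b v : G} (h : F.Pb b) (hv : v ∈ F.V) : F.X (F.e * v) := by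
  rcases F.v_cases v hv with rfl | rfl | rfl | rfl
  · simpa using F.Xe
  · exact h.Xez
  · exact h.Xez.conj (k := F.g) (by cw F)
  · exact h.Xez.conj (k := F.g⁻¹) (by cw F)

theorem Pb.Xx {b : G} (h : F.Pb b) : F.X (F.e * F.t * F.a3) :=
  (h.Xev F.yV).conj (k := F.p) (by cw F)

theorem Pw.nC {w b : G} (h : F.Pw w b) (hw : w ≠ 1) : b ∉ F.C := fun hb => by
  have := h.e
  rw [memC.1 hb, mul_left_inj, left_eq_mul] at this
  exact hw this

theorem rank_false [Finite G] {b c d : G} (h : F.Nb b) (hc : c ∈ F.C) (hd : d ∈ F.C)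
    (hcd : b * d = d * b)
    (s1 : c * b * (c * b) = 1) (s2 : d * (F.g * b * F.g⁻¹) * (d * (F.g * b * F.g⁻¹)) = 1)
    (x1 : c * b * (F.e * F.t * F.a3) = F.e * F.t * F.a3 * (c * b))
    (x2 : d * (F.g * b * F.g⁻¹) * (F.e * F.t * F.a3) = F.e * F.t * F.a3 * (d * (F.g * b * F.g⁻¹)))
    (k1 : c * F.y = F.y * c) (k2 : c * F.z = F.z * c) (k3 : d * F.y = F.y * d)
    (k4 : d * F.z = F.z * d)
    (k5 : c * b * (d * (F.g * b * F.g⁻¹)) = d * (F.g * b * F.g⁻¹) * (c * b)) : False := by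
  have h1 := h.toPb.pw.g (w' := F.y) (by cw F)
  have mC : ∀ l, [l] ∈ MB.W 0 → F.g0 l ∈ F.C := let_mem _
  rcases h.toPb.Xx.rank (a := F.y) (b := F.z) (H := F.C) ⟨F.sq.2.2.1, F.sq.2.1, s1, s2⟩
    ⟨by cw F, by cw F, x1, x2⟩ ⟨by cw F, (Commute.mul_left k1 h.y).symm,
      (Commute.mul_left k2 h.z).symm, (Commute.mul_left k3 h1.y).symm,
      (Commute.mul_left k4 h1.z).symm, k5⟩ (memC.2 (by cw F)) (memC.2 (by cw F))
      (memC.2 (by cw F)) with e | e | e | e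
  · rcases e with e | e | e | e | e | e <;> exact absurd e (by cw F)
  · exact h.toPb.pw.nC F.ne.2.1 ((mul_mem_cancel_left hc).1 e)
  · exact h1.nC F.ne.2.2.1 ((mul_mem_cancel_left hd).1 e)
  · refine (h.toPb.pw.mul h1 F.yV).nC (by cw F) ?_
    rwa [mul_assoc, mul_mem_cancel_left hc, ← mul_assoc, hcd, mul_assoc, mul_mem_cancel_left hd] at e

theorem not_01 [Finite G] {b : G} (h : F.Nb b) (h2 : b * b = 1)
    (h3 : b * F.a3 * b⁻¹ = F.a3 * F.z) (h1 : b * F.a1 * b⁻¹ = F.a1 * (F.y * F.z)) : False := by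
  have p1 := h.toPb.pw.g (w' := F.y) (by cw F)
  have a2 : b * F.a2 * b⁻¹ = F.a2 * F.y := by
    rw [show F.a2 = F.a1⁻¹ * F.a3⁻¹ by cw F, ← conj_mul, ← conj_inv, ← conj_inv, h1, h3]; cw F
  have a3 : F.g * b * F.g⁻¹ * F.a3 * (F.g * b * F.g⁻¹)⁻¹ = F.a3 * (F.y * F.z) := by
    rw [show F.a3 * (F.y * F.z) = F.g * (F.a2 * F.y) * F.g⁻¹ by cw F, ← a2,
      show F.a3 = F.g * F.a2 * F.g⁻¹ by cw F]; group
  refine rank_false h (one_mem _) (d := F.t) (memC.2 (by cw F)) h.t (by simpa using h2)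
    ?_ ?_ ?_ (by simp) (by simp) (by cw F) (by cw F) ?_
  · rw [Commute.mul_mul_mul_comm p1.t, conj_mul, h2, F.sq.2.2.2.1]; simp
  · rw [one_mul]
    refine of_cj ?_
    rw [← conj_mul, ← conj_mul, h3, cj_of h.e, cj_of h.t]; cw F
  · have : F.g * b * F.g⁻¹ * (F.e * F.t * F.a3) * (F.g * b * F.g⁻¹)⁻¹ =
        F.e * F.y * F.t * (F.a3 * (F.y * F.z)) := by
      rw [← conj_mul, ← conj_mul, a3, cj_of p1.e, cj_of p1.t]
    rw [mul_assoc F.t, of_cj this, ← mul_assoc F.t, ← mul_assoc _ F.t, mul_left_inj]; cw F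
  · rw [one_mul]
    exact Commute.mul_right h.t (comm_b1 h.toPb h.n)

theorem not_10 [Finite G] {b : G} (h : F.Nb b) (h2 : b * b = F.z)
    (h3 : b * F.a3 * b⁻¹ = F.a3) (h1 : b * F.a1 * b⁻¹ = F.a1) : False := by
  have p1 := h.toPb.pw.g (w' := F.y) (by cw F)
  have a2 : b * F.a2 * b⁻¹ = F.a2 := by
    rw [show F.a2 = F.a1⁻¹ * F.a3⁻¹ by cw F, ← conj_mul, ← conj_inv, ← conj_inv, h1, h3]
  have a3 : F.g * b * F.g⁻¹ * F.a3 * (F.g * b * F.g⁻¹)⁻¹ = F.a3 := by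
    rw [show F.a3 = F.g * F.a2 * F.g⁻¹ by cw F]; nth_rewrite 2 [← a2]; group
  have a1 : F.g * b * F.g⁻¹ * F.a1 * (F.g * b * F.g⁻¹)⁻¹ = F.a1 := by
    rw [show F.a1 = F.g * F.a3 * F.g⁻¹ by cw F]; nth_rewrite 2 [← h3]; group
  refine rank_false h (c := F.a3) (memC.2 (by cw F)) (d := F.a1) (memC.2 (by cw F))
    (of_cj h1) ?_ ?_ ?_ ?_ (by cw F) (by cw F) (by cw F) (by cw F) ?_
  · rw [Commute.mul_mul_mul_comm (of_cj h3), h2]; cw F
  · rw [Commute.mul_mul_mul_comm (of_cj a1), conj_mul, h2]; cw F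
  · have : b * (F.e * F.t * F.a3) * b⁻¹ = F.e * F.z * F.t * F.a3 := by
      rw [← conj_mul, ← conj_mul, h3, cj_of h.e, cj_of h.t]
    rw [mul_assoc F.a3, of_cj this, ← mul_assoc F.a3, ← mul_assoc _ F.a3 b, mul_left_inj]; cw F
  · have : F.g * b * F.g⁻¹ * (F.e * F.t * F.a3) * (F.g * b * F.g⁻¹)⁻¹ =
        F.e * F.y * F.t * F.a3 := by
      rw [← conj_mul, ← conj_mul, a3, cj_of p1.e, cj_of p1.t]
    rw [mul_assoc F.a1, of_cj this, ← mul_assoc F.a1, ← mul_assoc _ F.a1, mul_left_inj]; cw F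
  · exact Commute.mul_left (Commute.mul_right (by change _ = _; cw F) (of_cj a3).symm)
      (Commute.mul_right (of_cj h1) (comm_b1 h.toPb h.n))

end CF

end Cfsg.Lib.Co3M
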