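import Cfsg.Agent.Co3M.WM00
import Cfsg.Agent.Co3M.WM01
import Cfsg.Agent.Co3M.WM10
import Cfsg.Agent.Co3M.WM11

/-! The wreath case is impossible. -/

set_option autoImplicit false

namespace Cfsg.Lib.Co3M.CF

theorem not_W {G : Type*} [Group G] [Finite G] {F : CF G}
    (hO : ∀ K : Subgroup G, K.index = 2 → F.e ∈ K) {b : G} (h : F.Nb b) (h2 : b * b = 1)
    (h3 : b * F.a3 * b⁻¹ = F.a3) (h1 : b * F.a1 * b⁻¹ = F.a1) : False := by
  have k := Wb.rels ⟨h, h2, of_cj h3, of_cj h1⟩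
  obtain ⟨T, hT⟩ : ∃ T, F.WS T b := by
    obtain ⟨a, c | c⟩ | ⟨a, c | c⟩ := k.rx
    exacts [k.wq00 a c, k.wq01 a c, k.wq10 a c, k.wq11 a c]
  exact hT.false hO

end Cfsg.Lib.Co3M.CF
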