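import Cfsg.Agent.SporChar.WFormAct
import Cfsg.Agent.Known.MathieuCover
import Cfsg.Agent.Spor.M24Simple

/-! The group `2 × M₁₂`: a permutation model and a frame of generators. -/

set_option autoImplicit false
set_option maxRecDepth 100000
set_option linter.unusedSimpArgs false
set_option maxHeartbeats 1000000

namespace Cfsg.Lib.Co3M

open Subgroup Cfsg.Lib.Spor Cfsg.Lib.Spor.Bulk Cfsg.Lib.Spor.PK Cfsg.Lib.Spor.WF

/-- inverse letters -/
noncomputable def iN (l : ℕ) : ℕ := PK.nth 0 [0,1,2,3,4,5,7,6,9,8,11,10,13,12,15,14,17,16,19,18,20,21,22] l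

/-- codes of the letters -/
def csC : List ℕ := [2117003834117267975203391290738688,
    1955378382588168726512561632053248,
    2116996396843846785490093922060288,
    2117003834117267400967947041644568,
    2116998863090147846932415632644128,
    2116993881975175547020700709027848,
    2117003834117266813283346220062728,
    2117003834117265090665387519901728,
    2117001338970081728287244068847648,
    2116998891991033606641409978275848,
    2116998891991030722103578140346368,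
    2117001338970080566367370931079168,
    2116988949708352899925941831092288,
    2116983968744789757282954074140688,
    2117003795356080999297659569707008,
    2117003785495783829514989499588608]

/-- permutation model -/
@[reducible] def MB : PM where
  w := 8
  n := 14
  cs := csC
  SW := [([[1],[2],[3],[4],[5],[6],[7],[8],[9],[10],[11],[12],[13],[14],[15]],
    [⟨12, [832], [[12, 10], [11, 14]]⟩,
     ⟨2, [0, 513, 640, 577, 384, 65, 320, 193, 449, 705, 256], [[0, 1, 0, 1, 1, 1], [1, 0, 1, 0, 1]]⟩,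
     ⟨0, [192, 385, 64, 449, 320, 577, 704, 513, 640, 256], [[0, 1, 0, 1, 1, 0], [0, 1, 0, 0, 0, 1, 1, 0]]⟩,
     ⟨1, [320, 449, 192, 513, 256, 384, 576, 640, 704], [[0, 1, 0, 1, 0, 0, 1], [1, 0, 1, 0, 1, 1, 1]]⟩,
     ⟨3, [320, 513, 641, 384, 449, 257, 576, 705], [[0, 1, 1, 0, 1, 0, 1], [0, 1, 0, 1, 0, 0, 1]]⟩,
     ⟨4, [576, 641, 320, 449, 704, 384, 513], []⟩]),
   ([[2],[3],[4],[5],[6],[7],[8],[9],[10],[11],[12],[13],[14],[15]],
    [⟨2, [320, 450, 579, 388, 522, 11, 643, 714, 203, 267, 74], [[0, 10, 12, 11, 0], [2, 11, 12, 10, 0]]⟩,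
     ⟨0, [256, 513, 448, 640, 65, 321, 576, 384, 193, 705], [[1, 1, 1, 0, 0, 1, 0], [1, 1, 1, 1, 0, 1, 1]]⟩,
     ⟨1, [640, 513, 577, 448, 385, 193, 256, 320, 704], [[1, 0, 0, 0, 1, 1, 0, 0, 0, 0], [1, 1, 0]]⟩,
     ⟨3, [320, 385, 576, 449, 640, 513, 704, 257], [[0, 0, 1, 1, 0], [0, 0, 0, 1, 0, 0, 0]]⟩,
     ⟨4, [512, 577, 320, 449, 704, 640, 385], []⟩])]

instance : NeZero MB.n := ⟨by decide⟩

theorem MB_ok : MB.ok = true := by decide +kernel

theorem MB_subs : MB.subsOK = true := by decide +kernel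

/-- permutation model -/
@[reducible] def MC : PM where
  w := 8
  n := 14
  cs := csC
  SW := [([[1],[2],[3],[4],[5],[6],[8],[10]],
    [⟨12, [832], [[3], [4], [6]]⟩,
     ⟨2, [448, 577, 705, 514, 640, 385, 321], [[0, 1, 2, 1], [0, 2, 0]]⟩,
     ⟨0, [192, 257, 65], [[0, 1, 1]]⟩,
     ⟨1, [256], []⟩]),
   ([[1],[2],[3],[4],[5],[6],[8],[10],[14]],
    [⟨12, [832], [[6], [8]]⟩,
     ⟨2, [449, 577, 512, 640, 704, 321, 385], [[1, 0, 1, 1], [0]]⟩,
     ⟨0, [192, 65, 256], [[0, 0, 1], [1, 1, 0, 1]]⟩,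
     ⟨1, [256, 193], [[0, 1]]⟩,
     ⟨3, [256], []⟩]),
   ([[1],[2],[3],[4],[6],[8],[10]],
    [⟨12, [832], [[4], [3], [6]]⟩,
     ⟨2, [384, 449, 320], [[0, 0, 1, 2], [1, 0]]⟩,
     ⟨0, [64, 193, 256], [[0, 1, 0]]⟩,
     ⟨1, [256], []⟩]),
   ([[2],[3]],
    [⟨2, [320], [[0, 1]]⟩,
     ⟨0, [192], []⟩]),
   ([[12],[5]],
    [⟨0, [128, 65, 512, 577, 384], []⟩]),
   ([[2],[3],[4],[5],[6],[8],[10],[14]],
    [⟨2, [320, 450, 579, 388, 643, 707, 517], [[0, 7, 6], [5]]⟩,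
     ⟨0, [65, 256, 193], [[1, 1, 0, 0, 1], [1, 0, 0, 1, 1]]⟩,
     ⟨1, [192, 257], [[1]]⟩,
     ⟨3, [256], []⟩]),
   ([[2],[3],[4],[5],[6],[8],[10]],
    [⟨2, [320, 450, 579, 388, 643, 707, 517], [[4, 2, 0], [6, 2]]⟩,
     ⟨0, [257, 64, 193], [[0]]⟩,
     ⟨1, [256], []⟩])]

instance : NeZero MC.n := ⟨by decide⟩

theorem MC_ok : MC.ok = true := by decide +kernel

theorem MC_subs : MC.subsOK = true := by decide +kernel

theorem MC_sat : MC.satB 16 iN [] = true := by decide +kernel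

theorem MB_cent_z : MB.centB [[1],[2],[3],[4],[5],[6],[7],[8],[9],[10],[11],[12],[13],[14],[15]]
    [⟨2, [321, 451, 580, 389, 523, 12, 644, 715, 204, 268, 75], [[0, 11, 9, 4, 4, 13], [1, 12, 13, 12, 4, 3, 5, 3,
    10]]⟩,
     ⟨5, [385, 704, 449, 64, 257, 512, 193, 1, 640, 576], [[1, 0, 0, 1, 0, 1, 0, 0, 1, 1], [0]]⟩,
     ⟨6, [576, 705, 512, 257, 64, 448, 1, 640, 192], [[0, 0, 1, 0], [0, 1, 0, 0, 0, 0, 0, 1], [1, 0, 1, 0, 0]]⟩,
     ⟨7, [64, 257, 2, 704, 192, 641, 578, 513], [[1, 1, 2, 1, 1], [0, 0, 1, 1, 2, 0], [2, 2, 1, 0]]⟩,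
     ⟨8, [640, 65, 704, 1, 192, 576, 257], [[0, 0, 1, 2]]⟩,
     ⟨11, [], [[0]]⟩,
     ⟨9, [], [[0]]⟩,
     ⟨10, [], [[0]]⟩,
     ⟨0, [], [[0]]⟩,
     ⟨1, [], [[0]]⟩,
     ⟨3, [], [[0]]⟩,
     ⟨4, [], [[0]]⟩,
     ⟨12, [832], []⟩]
    [1] [2] 190080 384 [] = true := by decide +kernel

/-- words for the generators of a presentation of `M₁₂` -/
def wM : List (List ℕ) := [[], [12, 15, 12, 15, 13, 14, 8, 13, 15, 12, 15], [14, 8, 13, 15, 12, 15, 12, 14, 13, 14, 13], [13, 15, 12, 2,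
    14, 12, 15, 13, 15, 13], [12, 14, 12, 14, 3, 13, 15, 13, 14, 12], [3, 12, 15, 13, 14, 13, 15, 13, 14, 3],
    [11, 13, 14, 13, 15, 13, 14, 12], [14, 10, 12, 15, 13, 15], [2, 6, 12, 15, 13, 15, 12, 15, 12, 14]]

variable {G : Type*} [Group G]

theorem sat_of_emb {M : Type*} [Group M] {m : ℕ → M} {g : ℕ → G} (h : Emb m g) {k : ℕ}
    {ι : ℕ → ℕ} {R : List (List ℕ)} (hm : Sat m k ι R) : Sat g k ι R := by
  obtain ⟨H, hH, φ, -, e⟩ := h
  have : Sat (fun l => (⟨m l, hH l⟩ : H)) k ι R :=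
    ⟨Subtype.ext hm.zero, fun l hl => Subtype.ext (hm.inv l hl), fun r hr => Subtype.ext
      ((wv_map H.subtype (fun l => (⟨m l, hH l⟩ : H)) r).symm.trans (hm.rel r hr))⟩
  simpa only [e] using this.map φ

theorem wv_mem_of {g : ℕ → G} {H : Subgroup G} {L : List ℕ} (h : ∀ l ∈ L, g l ∈ H) :
    wv g L ∈ H := by
  induction L with
  | nil => simp
  | cons a L ih =>
    rw [wv_cons]
    exact mul_mem (ih fun l hl => h l (List.mem_cons_of_mem _ hl)) (h a List.mem_cons_self)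

theorem let_mem (g : ℕ → G) {W : List (List ℕ)} (l : ℕ) (h : [l] ∈ W) : g l ∈ sub g W := by
  simpa using wv_mem_sub g h

/-- A frame of generators of the centralizer `2 × M₁₂` of an involution. -/
structure CF (G : Type*) [Group G] where
  /-- the letters -/
  g0 : ℕ → G
  emb : Emb MC.m g0
  cent : sub g0 (MB.W 0) = centralizer {g0 1}

namespace CF

variable (F : CF G)

/-- a generator -/
def e : G := F.g0 1
/-- a generator -/
def z : G := F.g0 2
/-- a generator -/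
def y : G := F.g0 3
/-- a generator -/
def t : G := F.g0 4
/-- a generator -/
def r : G := F.g0 5
/-- a generator -/
def a1 : G := F.g0 6
/-- a generator -/
def a2 : G := F.g0 8
/-- a generator -/
def a3 : G := F.g0 10
/-- a generator -/
def g : G := F.g0 12
/-- a generator -/
def p : G := F.g0 14

/-- a subgroup -/
def C : Subgroup G := sub F.g0 (MB.W 0)
/-- a subgroup -/
def M : Subgroup G := sub F.g0 (MB.W 1)
/-- a subgroup -/
def T0 : Subgroup G := sub F.g0 (MC.W 0)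
/-- a subgroup -/
def R0 : Subgroup G := sub F.g0 (MC.W 1)
/-- a subgroup -/
def D0 : Subgroup G := sub F.g0 (MC.W 2)
/-- a subgroup -/
def V : Subgroup G := sub F.g0 (MC.W 3)
/-- a subgroup -/
def S3 : Subgroup G := sub F.g0 (MC.W 4)
/-- a subgroup -/
def R1 : Subgroup G := sub F.g0 (MC.W 5)
/-- a subgroup -/
def T1 : Subgroup G := sub F.g0 (MC.W 6)

theorem sat : Sat F.g0 16 iN [] := sat_of_emb F.emb (PM.sat MC_ok MC_sat)

theorem l1 : F.g0 1 = F.e := rfl
theorem l2 : F.g0 2 = F.z := rfl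
theorem l3 : F.g0 3 = F.y := rfl
theorem l4 : F.g0 4 = F.t := rfl
theorem l5 : F.g0 5 = F.r := rfl
theorem l6 : F.g0 6 = F.a1 := rfl
theorem l7 : F.g0 7 = F.a1⁻¹ := F.sat.inv 6 (by omega)
theorem l8 : F.g0 8 = F.a2 := rfl
theorem l9 : F.g0 9 = F.a2⁻¹ := F.sat.inv 8 (by omega)
theorem l10 : F.g0 10 = F.a3 := rfl
theorem l11 : F.g0 11 = F.a3⁻¹ := F.sat.inv 10 (by omega)
theorem l12 : F.g0 12 = F.g := rfl
theorem l13 : F.g0 13 = F.g⁻¹ := F.sat.inv 12 (by omega)
theorem l14 : F.g0 14 = F.p := rfl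
theorem l15 : F.g0 15 = F.p⁻¹ := F.sat.inv 14 (by omega)

theorem card_C : Nat.card F.C = 190080 := PM.card_of_emb MB_ok MB_subs F.emb 0
theorem card_M : Nat.card F.M = 95040 := PM.card_of_emb MB_ok MB_subs F.emb 1
theorem card_T0 : Nat.card F.T0 = 128 := PM.card_of_emb MC_ok MC_subs F.emb 0
theorem card_R0 : Nat.card F.R0 = 384 := PM.card_of_emb MC_ok MC_subs F.emb 1
theorem card_D0 : Nat.card F.D0 = 64 := PM.card_of_emb MC_ok MC_subs F.emb 2
theorem card_V : Nat.card F.V = 4 := PM.card_of_emb MC_ok MC_subs F.emb 3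
theorem card_S3 : Nat.card F.S3 = 6 := PM.card_of_emb MC_ok MC_subs F.emb 4
theorem card_R1 : Nat.card F.R1 = 192 := PM.card_of_emb MC_ok MC_subs F.emb 5
theorem card_T1 : Nat.card F.T1 = 64 := PM.card_of_emb MC_ok MC_subs F.emb 6

theorem card_Cz : Nat.card ↥(F.C ⊓ centralizer {F.z}) = 384 := by
  have := (PM.cent_of_emb MB_ok F.emb (PM.card_sub MB_ok MB_subs 0) MB_cent_z).1
  rwa [wv_cons, wv_nil, one_mul] at this

end CF

theorem sat_wM : Sat (sg MC.m wM) 9 Known.m12p_i Known.m12p_R := by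
  have h := (PM.dec_iff MC_ok MC_subs (.and (andL (List.range 9) fun l =>
    .eq (sb wM [Known.m12p_i l, l]) []) (andL Known.m12p_R fun r => .eq (sb wM r) []))).1
    (by decide +kernel)
  refine ⟨rfl, fun l hl => ?_, fun r hr => ?_⟩
  · have := sem_andL.1 h.1 l (List.mem_range.2 hl)
    rw [Fm.sem, wv_sb, wv_cons, wv_cons, wv_nil, one_mul] at this
    exact eq_inv_of_mul_eq_one_right this
  · have := sem_andL.1 h.2 r hr
    rwa [Fm.sem, wv_sb] at this

theorem model_ne : MC.m 4 * MC.m 6 ≠ MC.m 6 * MC.m 4 ∧ MC.m 1 * MC.m 1 = 1 ∧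
    ∀ l ∈ List.range 16, MC.m l * MC.m 1 = MC.m 1 * MC.m l := by
  have h := (PM.dec_iff MC_ok MC_subs (.and (.not (.eq [6, 4] [4, 6])) (.and (.eq [1, 1] [])
    (andL (List.range 16) fun l => .eq [1, l] [l, 1])))).1 (by decide +kernel)
  refine ⟨by simpa [Fm.sem] using h.1, by simpa [Fm.sem] using h.2.1, fun l hl => ?_⟩
  simpa [Fm.sem] using sem_andL.1 h.2.2 l hl

theorem exists_theta : ∃ θ : Spor.M12 →* Equiv.Perm (Fin MC.n), Function.Injective θ ∧
    θ.range = sub MC.m (MB.W 1) := by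
  obtain ⟨m, hm⟩ := Known.m12p_pres
  obtain ⟨θ, hθ⟩ := hm.lift _ _ sat_wM
  have h1 : θ.range ≤ sub MC.m (MB.W 1) := by
    rw [MonoidHom.range_eq_map, ← hm.gen, MonoidHom.map_closure, closure_le]
    rintro _ ⟨_, ⟨l, hl, rfl⟩, rfl⟩
    rw [hθ l hl]
    have : ∀ l < 9, ∀ a ∈ wM.getD l [], [a] ∈ MB.W 1 := by decide +kernel
    exact wv_mem_of fun a ha => let_mem _ a (this l hl a ha)
  have := MP.isSimpleGroup_M12
  have h2 : Function.Injective θ := by
    rw [← MonoidHom.ker_eq_bot_iff]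
    refine (IsSimpleGroup.eq_bot_or_eq_top_of_normal θ.ker inferInstance).resolve_right fun h => ?_
    have h3 : sg MC.m wM 5 = 1 := by rw [← hθ 5 (by omega)]; exact (h ▸ mem_top _ : m 5 ∈ θ.ker)
    exact (PM.dec_iff MC_ok MC_subs (.not (.eq (wM.getD 5 []) []))).1 (by decide +kernel) h3
  refine ⟨θ, h2, eq_of_le_of_card_ge h1 ?_⟩
  rw [← Nat.card_congr (θ.ofInjective h2).toEquiv, MP.card_M12]
  exact (PM.card_sub MB_ok MB_subs 1).le

theorem exists_psi : ∃ Ψ : Multiplicative (ZMod 2) × Spor.M12 →* Equiv.Perm (Fin MC.n),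
    Function.Injective Ψ ∧ Ψ.range = sub MC.m (MB.W 0) ∧
      Ψ (Multiplicative.ofAdd 1, 1) = MC.m 1 := by
  obtain ⟨θ, -, hθ⟩ := exists_theta
  obtain ⟨-, h2, h3⟩ := model_ne
  have hc : ∀ x : Multiplicative (ZMod 2), x = 1 ∨ x = Multiplicative.ofAdd 1 := by decide
  have h0 : (Multiplicative.ofAdd (1 : ZMod 2)) ≠ 1 := by decide
  have h00 : (Multiplicative.ofAdd (1 : ZMod 2)) * Multiplicative.ofAdd 1 = 1 := by decide
  let ε : Multiplicative (ZMod 2) →* Equiv.Perm (Fin MC.n) :=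
    MonoidHom.mk' (fun x => if x = 1 then 1 else MC.m 1) fun a b => by
      rcases hc a with rfl | rfl <;> rcases hc b with rfl | rfl <;> simp [h0, h00, h2]
  have hε : ε (Multiplicative.ofAdd 1) = MC.m 1 := by simp [ε, h0]
  have h4 : sub MC.m (MB.W 1) ≤ centralizer {MC.m 1} := sub_le fun L hL => by
    have : ∀ L ∈ MB.W 1, ∃ l ∈ List.range 16, L = [l] := by decide +kernel
    obtain ⟨l, hl, rfl⟩ := this L hL
    rw [mem_centralizer_singleton_iff, wv_cons, wv_nil, one_mul]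
    exact h3 l hl
  have hcomm : ∀ a b, Commute (ε a) (θ b) := fun a b => by
    rcases hc a with rfl | rfl
    · simp
    · rw [hε]
      exact (mem_centralizer_singleton_iff.1 (h4 (hθ ▸ ⟨b, rfl⟩))).symm
  let Ψ := MonoidHom.noncommCoprod ε θ hcomm
  have h5 : Ψ (Multiplicative.ofAdd 1, 1) = MC.m 1 := by simp [Ψ, hε]
  have h6 : sub MC.m (MB.W 0) ≤ Ψ.range := sub_le fun L hL => by
    have : ∀ L ∈ MB.W 0, L = [1] ∨ L ∈ MB.W 1 := by decide +kernel
    rcases this L hL with rfl | h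
    · exact ⟨_, by rw [h5]; simp⟩
    · obtain ⟨b, hb⟩ : wv MC.m L ∈ θ.range := hθ ▸ wv_mem_sub _ h
      exact ⟨(1, b), by simp [Ψ, hb]⟩
  have h7 : Nat.card (Multiplicative (ZMod 2) × Spor.M12) = 190080 := by
    rw [Nat.card_prod, MP.card_M12]; simp
  have h8 : Nat.card (sub MC.m (MB.W 0)) = 190080 := PM.card_sub MB_ok MB_subs 0
  have h9 : Nat.card Ψ.range ≤ 190080 := h7 ▸
    Nat.card_le_card_of_surjective Ψ.rangeRestrict Ψ.rangeRestrict_surjective
  have h10 := eq_of_le_of_card_ge h6 (h8 ▸ h9)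
  refine ⟨Ψ, ?_, h10.symm, h5⟩
  have := Ψ.rangeRestrict_surjective.bijective_of_nat_card_le (by rw [h7, ← h10, h8])
  exact fun a b e => this.1 (Subtype.ext e)

theorem exists_CF [Finite G] {e : G} (he : orderOf e = 2)
    (hC : Nonempty (centralizer ({e} : Set G) ≃* Multiplicative (ZMod 2) × Spor.M12)) :
    ∃ F : CF G, F.e = e := by
  obtain ⟨ι⟩ := hC
  obtain ⟨Ψ, h1, h2, h3⟩ := exists_psi
  obtain ⟨θ, h4, h5⟩ := exists_theta
  have hm : ∀ l, MC.m l ∈ Ψ.range := fun l => by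
    rw [h2]
    exact lf_mem_sub _ (k := 16) (Ls := List.range' 1 15) (by simp [csC]) (PM.sat MC_ok MC_sat).zero
      (by decide) l
  let φ : Ψ.range →* G := (centralizer ({e} : Set G)).subtype.comp
    (ι.symm.toMonoidHom.comp (Ψ.ofInjective h1).symm.toMonoidHom)
  have hφ : Function.Injective φ := (subtype_injective _).comp
    (ι.symm.injective.comp (Ψ.ofInjective h1).symm.injective)
  have hemb : Emb MC.m fun l => φ ⟨MC.m l, hm l⟩ := ⟨_, hm, φ, hφ, fun _ => rfl⟩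
  let e' : centralizer ({e} : Set G) := ⟨e, mem_centralizer_singleton_iff.2 rfl⟩
  have hz : ∀ x, ι e' * x = x * ι e' := fun x => by
    obtain ⟨x, rfl⟩ := ι.surjective x
    rw [← map_mul, ← map_mul]
    exact congrArg ι (Subtype.ext (mem_centralizer_singleton_iff.1 x.2).symm)
  have := MP.isSimpleGroup_M12
  have h6 : (ι e').2 = 1 := by
    have : center Spor.M12 = ⊥ := by
      refine (IsSimpleGroup.eq_bot_or_eq_top_of_normal _ inferInstance).resolve_right fun h => ?_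
      obtain ⟨a, ha⟩ : MC.m 4 ∈ θ.range := h5 ▸ let_mem _ 4 (by decide +kernel)
      obtain ⟨b, hb⟩ : MC.m 6 ∈ θ.range := h5 ▸ let_mem _ 6 (by decide +kernel)
      refine model_ne.1 ?_
      rw [← ha, ← hb, ← map_mul, ← map_mul, mem_center_iff.1 (h ▸ mem_top b) a]
    rw [← mem_bot, ← this, mem_center_iff]
    exact fun x => (congrArg Prod.snd (hz (1, x))).symm
  have h7 : ι e' = (Multiplicative.ofAdd 1, 1) := by
    have hc : ∀ x : Multiplicative (ZMod 2), x = 1 ∨ x = Multiplicative.ofAdd 1 := by decide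
    refine Prod.ext ((hc _).resolve_left fun h => ?_) h6
    have : e' = 1 := ι.injective (by rw [map_one]; exact Prod.ext h h6)
    rw [show e = 1 from congrArg Subtype.val this] at he
    simp at he
  have h8 : φ ⟨MC.m 1, hm 1⟩ = e := by
    have : (Ψ.ofInjective h1).symm ⟨MC.m 1, hm 1⟩ = ι e' :=
      (MulEquiv.symm_apply_eq _).2 (Subtype.ext (by rw [h7]; exact h3.symm))
    simp [φ, this, e']
  refine ⟨⟨_, hemb, ?_⟩, h8⟩
  rw [h8]
  refine eq_of_le_of_card_ge (sub_le fun L _ => wv_mem_of fun l _ => Subtype.property _) ?_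
  rw [hemb.card, ← h2, ← Nat.card_congr (Ψ.ofInjective h1).toEquiv, Nat.card_congr ι.toEquiv]

end Cfsg.Lib.Co3M
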