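import Cfsg.Agent.Co3M.Bb

/-! The wreath case: the relations between the conjugates of `b`. -/

set_option autoImplicit false
set_option linter.unusedSimpArgs false

namespace Cfsg.Lib.Co3M

open Subgroup Cfsg.Lib.Trans Cfsg.Lib.Spor Cfsg.Lib.Spor.Bulk Cfsg.Lib.Spor.PK Cfsg.Lib.Spor.WF

variable {G : Type*} [Group G]

namespace CF

/-- a conjugate of `b` -/
def be (F : CF G) (b : G) (L : List ℕ) : G := wv F.g0 L * b * (wv F.g0 L)⁻¹

/-- the words differ by an element of the centralizer of `z` in `M₁₂` -/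
noncomputable def sameB (L L' : List ℕ) : Bool :=
  L.all (· < 16) && L'.all (· < 16) && MC.dec (.ex 5 40 (.eq L (40 :: L')))

/-- the wreath case -/
structure Wb (F : CF G) (b : G) : Prop extends F.Nb b where
  bb : b * b = 1
  a3 : b * F.a3 = F.a3 * b
  a1 : b * F.a1 = F.a1 * b

variable {F : CF G} {b : G}

theorem be_nil : F.be b [] = b := by simp [be]

theorem be_app (L Q : List ℕ) : wv F.g0 Q * F.be b L * (wv F.g0 Q)⁻¹ = F.be b (L ++ Q) := by
  simp only [be, wv_append, mul_inv_rev, mul_assoc]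

/-- the relations of the wreath case -/
structure WR (F : CF G) (b b1 b2 f1 f2 f3 : G) : Prop extends F.Wb b where
  sq : b1 * b1 = 1 ∧ b2 * b2 = 1 ∧ f1 * f1 = 1 ∧ f2 * f2 = 1 ∧ f3 * f3 = 1
  rb : F.g * b = b1 * F.g ∧ F.g * b1 = b2 * F.g ∧ b * b1 * b2 = 1 ∧ b * b1 = b1 * b
  rf : F.e * f3 = f3 * F.t * F.a3 * F.e ∧ F.y * f3 = f3 * F.y ∧ F.z * f3 = f3 * F.z ∧
    b1 * f3 = f3 * b1 ∧ b * f3 = f3 * b ∧ F.t * f3 = f3 * b * F.t ∧ F.a3 * f3 = f3 * b * F.a3 ∧
    F.r * f3 = f3 * F.r ∧ F.g * f3 = f1 * F.g ∧ F.g * f1 = f2 * F.g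
  rx : F.a1 * f3 = f3 * b1 * F.a1 ∧ (f1 * f2 * f1 * f2 * b = 1 ∨ f1 * f2 * f1 * f2 * b = F.z) ∨
    F.a1 * f3 = f3 * b1 * F.z * F.a1 ∧ (f1 * f2 * f1 * f2 = 1 ∨ f1 * f2 * f1 * f2 = F.z)

namespace Wb

variable [Finite G] (h : F.Wb b)
include h

theorem cent {x : G} (hx : x ∈ F.R1) : b * x = x * b := by
  have h2 : b * F.a2 = F.a2 * b := by
    rw [show F.a2 = F.a1⁻¹ * F.a3⁻¹ by cw F]
    exact (Commute.inv_right h.a1).mul_right (Commute.inv_right h.a3)
  have hp : b * F.p = F.p * b := by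
    have a := cj_R0 h.z h.e F.ce.2.2.2.2.2.2.2.2 F.cz.2.2.2.2.2.2
    obtain ⟨p1, p2, p3, p4, -⟩ := F.cp
    have k := And.intro (And.intro (congrArg (fun x => b * x * b⁻¹) p1) (congrArg (fun x => b * x * b⁻¹) p2))
      (And.intro (congrArg (fun x => b * x * b⁻¹) p3) (congrArg (fun x => b * x * b⁻¹) p4))
    simp only [← conj_mul, cj_of h.y, cj_of h.t, cj_of h.r, cj_of h.a3] at k
    exact of_cj (F.uniq_p _ (F.memR0 a.1 a.2) (by
      simp only [conj_mul, F.sq.2.2.2.2.2.2.1, mul_one, mul_inv_cancel]) k.1.1 k.1.2 k.2.1 k.2.2)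
  refine (mem_centralizer_singleton_iff.1 ((sub_le fun L hL => ?_ : F.R1 ≤ centralizer {b}) hx)).symm
  simp only [PM.W, List.getD_cons_succ, List.getD_cons_zero, List.mem_cons, List.not_mem_nil,
    or_false] at hL
  rcases hL with rfl | rfl | rfl | rfl | rfl | rfl | rfl | rfl <;>
    rw [mem_centralizer_singleton_iff, ← w_let]
  exacts [h.z.symm, h.y.symm, h.t.symm, h.r.symm, h.a1.symm, h2.symm, h.a3.symm, hp.symm]

theorem mv (L L' : List ℕ) (hd : sameB L L' = true) : F.be b L = F.be b L' := by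
  simp only [sameB, Bool.and_eq_true, List.all_eq_true, decide_eq_true_eq] at hd
  obtain ⟨x, hx, e⟩ := PM.holds MC_ok MC_subs F.emb hd.2
  rw [Fm.sem, wv_cons, wv_upd _ _ fun a => absurd (hd.1.1 _ a) (by omega),
    wv_upd _ _ fun a => absurd (hd.1.2 _ a) (by omega), upd_apply, if_pos rfl] at e
  rw [be, e, mul_assoc _ x, ← h.cent hx, be]
  group

theorem cw (Q L L' : List ℕ) (hd : sameB (L ++ Q) L' = true) :
    wv F.g0 Q * F.be b L = F.be b L' * wv F.g0 Q := of_cj ((be_app L Q).trans (h.mv _ _ hd))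

theorem cj (l : ℕ) (L L' : List ℕ) (hd : sameB (L ++ [l]) L' = true) :
    F.g0 l * F.be b L = F.be b L' * F.g0 l := by simpa using h.cw [l] L L' hd

omit [Finite G] in
theorem sq (L : List ℕ) : F.be b L * F.be b L = 1 := by simp [be, conj_mul, h.bb]

omit [Finite G] in
theorem ce (L : List ℕ) {u : G} (h1 : F.e * wv F.g0 L = wv F.g0 L * F.e)
    (h2 : u = wv F.g0 L * F.z * (wv F.g0 L)⁻¹) : F.e * F.be b L = F.be b L * u * F.e := by
  have eb : F.e * b = b * F.z * F.e := by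
    rw [mul_assoc, F.ce.1, ← mul_assoc, h.e, mul_assoc, mul_assoc, h.z, as1 F.sq.2.1]
  rw [← cj_of h1.symm, h2, be, conj_mul, conj_mul, conj_mul, eb]

theorem com (Q : List ℕ) : F.be b Q * F.be b (12 :: Q) = F.be b (12 :: Q) * F.be b Q := by
  have : F.be b [] * F.be b [12] = F.be b [12] * F.be b [] := by
    simpa [be, F.l12] using comm_b1 h.toPb h.n
  simpa only [be_app, List.nil_append, List.cons_append] using cj_comm (k := wv F.g0 Q) this

omit [Finite G] in
theorem tri (Q : List ℕ) : F.be b (12 :: 12 :: Q) = F.be b (12 :: Q) * F.be b Q := by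
  have : F.be b [] * F.be b [12] * F.be b [12, 12] = 1 := by
    rw [← h.n]
    simp only [be, wv_cons, wv_nil, one_mul, F.l12, mul_inv_rev]
    calc _ = b * F.g * b * F.g * b * (F.g⁻¹ * F.g⁻¹) := by group
      _ = _ := by rw [show F.g⁻¹ * F.g⁻¹ = F.g by cw F]
  have := congrArg (fun x => wv F.g0 Q * x * (wv F.g0 Q)⁻¹) this
  simp only [← conj_mul, be_app, List.nil_append, List.cons_append, mul_one, mul_inv_cancel] at this
  rw [eq_inv_of_mul_eq_one_right this, mul_inv_rev, inv_eq_of_mul_eq_one_right (h.sq _),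
    inv_eq_of_mul_eq_one_right (h.sq _)]

omit [Finite G] in
theorem one_or {w : G} (h1 : w = 1 ∨ w = F.e ∨ w = F.z ∨ w = F.e * F.z) (h2 : b * w = w * b) :
    w = 1 ∨ w = F.z := by
  have : b * F.e ≠ F.e * b := fun e => F.ne.2.1 (by simpa [e] using h.e)
  rcases h1 with rfl | rfl | rfl | rfl
  · exact Or.inl rfl
  · exact absurd h2 this
  · exact Or.inr rfl
  · exact absurd (by simpa using (Commute.mul_right h2 (Commute.inv_right h.z)).eq) this

theorem beta : ∃ s, (s = 1 ∨ s = F.z) ∧ F.be b [12, 14, 14] = F.be b [12, 14] * F.be b [12] * s := by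
  have c1 := h.com []
  have c2 := h.com [14]
  have c3 := h.com [14, 14]
  have t1 := h.tri []
  have t2 := h.tri [14]
  have t3 := h.tri [14, 14]
  rw [h.mv [14] [] (by decide +kernel)] at c2 t2
  rw [h.mv [14, 14] [] (by decide +kernel)] at c3 t3
  rw [be_nil] at c1 c2 c3 t1 t2 t3
  have k : ∀ l A B C, sameB ([12] ++ [l]) A = true ∧ sameB ([12, 14] ++ [l]) B = true ∧
      sameB ([12, 14, 14] ++ [l]) C = true → F.be b A * F.be b B * F.be b C =
      F.be b [12] * F.be b [12, 14] * F.be b [12, 14, 14] →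
      F.be b [12] * F.be b [12, 14] * F.be b [12, 14, 14] * F.g0 l =
      F.g0 l * (F.be b [12] * F.be b [12, 14] * F.be b [12, 14, 14]) := fun l A B C hd e => by
    nth_rewrite 1 [← e]
    rw [mul_assoc, ← h.cj l _ _ hd.2.2, mul_assoc, ← as (h.cj l _ _ hd.2.1),
      ← as (h.cj l _ _ hd.1), mul_assoc]
  have kt : F.be b [12] * F.be b [12, 12, 14] * F.be b [12, 12, 14, 14] =
      F.be b [12] * F.be b [12, 14] * F.be b [12, 14, 14] := by
    simp only [t2, t3, mul_assoc, as c3, h.bb, mul_one]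
  have y2 : F.y * _ = _ * F.y := h.cj 3 [12, 14] [12, 14] (by decide +kernel)
  have y3 : F.y * _ = _ * F.y := h.cj 3 [12, 14, 14] [12, 14, 14] (by decide +kernel)
  have u3 := h.cw [10, 4] [12, 14, 14] [12, 14, 14] (by decide +kernel)
  have hw := h.one_or (F.cent_Q _ (F.memR0 (by
      have e1 := h.ce [12] (u := F.y) (by cw F) (by cw F)
      have e2 := h.ce [12, 14] (u := wv F.g0 [10, 4]) (by cw F) (by cw F)
      have e3 := h.ce [12, 14, 14] (u := (wv F.g0 [10, 4])⁻¹ * F.y⁻¹) (by cw F) (by cw F)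
      simp only [mul_assoc] at e1 e2 e3
      simp only [mul_assoc, as e1, as e2, e3, as y2, as y3, as u3, mul_inv_cancel_left, as2 e1,
        as2 e2])
    (k 2 _ _ _ (by decide +kernel) rfl)) (k 3 _ _ _ (by decide +kernel) rfl)
    (k 4 _ _ _ (by decide +kernel) kt) (k 5 [12, 12] [12, 14] [12, 12, 14, 14] (by decide +kernel) (by
      simp only [t1, t3, mul_assoc, as c2, as c3, h.bb, mul_one]))
    (k 10 _ _ _ (by decide +kernel) kt)) (by simp only [mul_assoc, as c1, as c2, c3])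
  exact ⟨_, hw, by simp only [mul_assoc, as1 (h.sq _)]⟩

theorem delta {f1 f2 c : G} (hc : c = 1 ∨ c = b) (s1 : f1 * f1 = 1) (s2 : f2 * f2 = 1)
    (b1 : b * f1 = f1 * b) (b2 : b * f2 = f2 * b) (y1 : F.y * f1 = f1 * F.y)
    (y2 : F.y * f2 = f2 * F.y) (z1 : F.z * f1 = f1 * F.z) (z2 : F.z * f2 = f2 * F.z)
    (e1 : F.e * f1 = f1 * (F.t * F.a1) * F.e) (e2 : F.e * f2 = f2 * (F.t * F.a2) * F.e)
    (r1 : F.r * f1 = f2 * F.r) (r2 : F.r * f2 = f1 * F.r)
    (he : f1 * f2 * f1 * f2 * c * F.e = F.e * (f1 * f2 * f1 * f2 * c)) :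
    f1 * f2 * f1 * f2 * c = 1 ∨ f1 * f2 * f1 * f2 * c = F.z := by
  have k : ∀ x, b * x = x * b → c * x = x * c := fun x e => by rcases hc with rfl | rfl; simp; exact e
  have cc : c * c = 1 := by rcases hc with rfl | rfl; simp; exact h.bb
  have c1 := k _ b1
  have c2 := k _ b2
  have k2 : ∀ {f u w : G}, f * f = 1 → F.e * f = f * u * F.e → w * F.e = F.e * w →
      w * f * w = f → w * u = u * w := fun {f u w} a1 a2 a3 a4 => by
    have a5 : u = f * F.e * f * F.e⁻¹ := by rw [mul_assoc f, a2]; simp [← mul_assoc, a1]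
    have a6 : Commute w F.e := a3
    simp only [a5, mul_assoc, as (eq_mul_inv_of_mul_eq a4), as a6.inv_left.eq, a6.inv_right.eq,
      as (inv_mul_eq_of_eq_mul ((mul_assoc w f w).symm.trans a4).symm)]
  refine h.one_or (F.cent_y12 _ (F.memD0 he ?_ ?_) ?_ ?_ ?_) ?_
  · simp only [mul_assoc, as z1, as z2, k _ h.z]
  · simp only [mul_assoc, as y1, as y2, k _ h.y]
  · rw [mul_assoc, k2 s1 e1 he (by simp only [mul_assoc, as c1, as c2, cc, as1 s1, as1 s2, mul_one, s2])]
  · rw [mul_assoc, k2 s2 e2 he (by simp only [mul_assoc, as c1, as c2, cc, as1 s1, as1 s2, mul_one, s2])]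
  · simp only [mul_assoc, as r1, as r2, ← as (k _ h.r), as1 F.sq.2.2.2.2.1, as c1, as c2, cc, as1 s1,
      as1 s2, mul_one, s2]
  · simp only [mul_assoc, as b1, as b2, k _ rfl]

theorem rels : F.WR b (F.be b [12]) (F.be b [12, 12]) (F.be b [12, 14, 12]) (F.be b [12, 14, 12, 12])
    (F.be b [12, 14]) := by
  obtain ⟨s, hs, e⟩ := h.beta
  have c1 := h.com []
  have c2 := h.com [14]
  have t1 := h.tri []
  have t2 := h.tri [14]
  rw [h.mv [14] [] (by decide +kernel)] at c2 t2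
  rw [be_nil] at c1 c2 t1 t2
  have zc : ∀ L, sameB (L ++ [2]) L = true → Commute (F.be b L) s := fun L hd => by
    rcases hs with rfl | rfl
    · simp
    · exact (h.cj 2 L L hd).symm
  have c3 : F.be b [12] * F.be b [12, 14] = F.be b [12, 14] * F.be b [12] := by
    have := h.sq [12, 14, 14]
    have ss : s * s = 1 := by rcases hs with rfl | rfl; simp; exact F.sq.2.1
    rw [e, ((zc _ (by decide +kernel)).mul_left (zc _ (by decide +kernel))).symm.mul_mul_mul_comm, ss,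
      mul_one] at this
    rw [← inv_eq_of_mul_eq_one_right this, mul_inv_rev, inv_eq_of_mul_eq_one_right (h.sq _),
      inv_eq_of_mul_eq_one_right (h.sq _)]
  have g1 := h.cj 12 [] [12] (by decide +kernel)
  have c4 := h.com [14, 12]
  have c5 := cj_comm (k := wv F.g0 [12]) c3
  have c6 := cj_comm (k := wv F.g0 [12, 12]) c3
  have e2 := congrArg (fun x => wv F.g0 [12, 12] * x * (wv F.g0 [12, 12])⁻¹) e
  rw [h.mv [14, 12] [12] (by decide +kernel)] at c4
  simp only [← conj_mul, be_app, List.cons_append, List.nil_append, be_nil] at c5 c6 e2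
  rw [h.mv [12, 12, 12] [] (by decide +kernel), be_nil] at c6 e2
  have c7 : b * F.be b [12, 14, 12] = F.be b [12, 14, 12] * b := by
    have := Commute.mul_left c4 c5
    rwa [t1, as1 (h.sq _)] at this
  rw [be_nil] at g1
  have y1 := h.cj 3 [12, 14, 12] [12, 14, 12] (by decide +kernel)
  have y2 := h.cj 3 [12, 14, 12, 12] [12, 14, 12, 12] (by decide +kernel)
  have z1 := h.cj 2 [12, 14, 12] [12, 14, 12] (by decide +kernel)
  have z2 := h.cj 2 [12, 14, 12, 12] [12, 14, 12, 12] (by decide +kernel)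
  have r1 := h.cj 5 [12, 14, 12] [12, 14, 12, 12] (by decide +kernel)
  have r2 := h.cj 5 [12, 14, 12, 12] [12, 14, 12] (by decide +kernel)
  have p1 := h.ce [12, 14, 12] (u := F.t * F.a1) (by cw F) (by cw F)
  have p2 := h.ce [12, 14, 12, 12] (u := F.t * F.a2) (by cw F) (by cw F)
  have u1 := h.cw [6, 4] [12, 14, 12] [12, 14, 12] (by decide +kernel)
  have u2 := h.cw [8, 4] [12, 14, 12, 12] [12, 14, 12, 12] (by decide +kernel)
  have u3 := h.cw [6, 4] [12, 14, 12, 12] [12, 14, 14, 12, 12] (by decide +kernel)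
  have u4 := h.cw [8, 4] [12, 14, 12] ([12, 14, 14, 12, 12] ++ [5]) (by decide +kernel)
  have a1 := h.cj 6 [12, 14] [12, 14, 14] (by decide +kernel)
  rw [← be_app, e2, ← conj_mul, ← conj_mul, ← w_let, cj_of r2, F.l5, cj_of h.r.symm] at u4
  rw [e2] at u3
  rw [e] at a1
  refine ⟨h, ⟨h.sq _, h.sq _, h.sq _, h.sq _, h.sq _⟩, ⟨g1, h.cj 12 _ _ (by decide +kernel),
    by simp only [t1, mul_assoc, as c1, as1 (h.sq _), h.bb], c1⟩,
    ⟨(h.ce _ (u := F.t * F.a3) (by cw F) (by cw F)).trans (by group), h.cj 3 _ _ (by decide +kernel),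
    h.cj 2 _ _ (by decide +kernel), c3, c2, t2 ▸ h.cj 4 _ _ (by decide +kernel),
    t2 ▸ h.cj 10 _ _ (by decide +kernel), h.cj 5 _ _ (by decide +kernel),
    h.cj 12 _ _ (by decide +kernel), h.cj 12 _ _ (by decide +kernel)⟩, ?_⟩
  have q := fun c hc => h.delta (c := c) hc (h.sq _) (h.sq _) c7 c6 y1 y2 z1 z2 p1 p2 r1 r2
  have b1 : b * (F.t * F.a1) = F.t * F.a1 * b := Commute.mul_right h.t h.a1
  have b2 : b * (F.t * F.a2) = F.t * F.a2 * b :=
    Commute.mul_right h.t (h.cent (let_mem _ 8 (by decide +kernel)))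
  have eb : F.e * b = b * F.z * F.e := by
    rw [mul_assoc, F.ce.1, ← mul_assoc, h.e, mul_assoc, mul_assoc, h.z, as1 F.sq.2.1]
  simp only [wv_cons, wv_nil, one_mul, F.l2, F.l3, F.l4, F.l6, F.l8, F.l12] at *
  generalize F.be b [12, 14, 12] = f1 at *
  generalize F.be b [12, 14, 12, 12] = f2 at *
  generalize d1 : F.t * F.a1 = v1 at *
  generalize d2 : F.t * F.a2 = v2 at *
  rcases hs with rfl | rfl
  on_goal 1 => refine Or.inl ⟨by rw [a1, mul_one], q b (Or.inr rfl) ?_⟩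
  on_goal 2 =>
    refine Or.inr ⟨a1, mul_one (f1 * f2 * f1 * f2) ▸ q 1 (Or.inl rfl) ?_⟩
    rw [show F.g * F.g * F.z * (F.g * F.g)⁻¹ = F.y * F.z by cw F] at u3 u4
    rw [show F.r * (F.y * F.z) * F.r⁻¹ = F.y by cw F] at u4
  all_goals
    simp only [mul_one, mul_inv_cancel, mul_assoc] at u3 u4 p1 p2 eb
    simp only [mul_assoc, as2 p1, as2 p2, p2, as u1, as u2, as2 u3, as2 u4, as c6, as c7, ← as b1,
      ← as b2, eb, as1 h.bb, mul_right_inj, mul_one, as y1, as y2, as z1, as z2, ← as h.y, ← as h.z]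
    rw [← d1, ← d2]
    cw F

end Wb

end CF

end Cfsg.Lib.Co3M
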