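import Cfsg.Agent.Co3M.WSyl
import Cfsg.Agent.Co3M.WRel
import Cfsg.Agent.Solv.PGroupNormal

/-! The wreath case: presentation and transfer of facts from the models. -/

set_option autoImplicit false
set_option maxRecDepth 100000
set_option linter.unusedSimpArgs false
set_option maxHeartbeats 1000000

namespace Cfsg.Lib.Co3M

open Subgroup Cfsg.Lib.Spor Cfsg.Lib.Spor.Bulk Cfsg.Lib.Spor.PK Cfsg.Lib.Spor.WF

/-- inverse letters -/
noncomputable def iW (l : ℕ) : ℕ := PK.nth 0 [0,1,2,3,4,5,7,6,9,8,11,10,12,13,14,15,16,17,19,18] l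

/-- relations -/
def PV : List (List ℕ × List ℕ) :=
  [([6, 6], [3]), ([10, 10], [2]), ([10, 8, 6], []), ([10, 6], [6, 10]), ([2, 3], [3, 2]), ([6, 4,
    6, 4], []), ([10, 4, 10, 4], []), ([10, 18], [18, 6]), ([6, 18], [18, 8]), ([18, 18, 18], []),
    ([4, 18], [18, 4]), ([4, 5], [5, 4]), ([10, 5], [5, 10]), ([6, 5], [5, 8]), ([18, 5, 18, 5],
    []), ([1, 4], [4, 1]), ([1, 5], [5, 1]), ([1, 6], [6, 1]), ([1, 10], [10, 1]), ([1, 18], [18,
    1])]

/-- relations -/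
def PB : List (List ℕ × List ℕ) :=
  [([3, 14], [14, 3]), ([2, 14], [14, 2]), ([4, 14], [14, 4]), ([5, 14], [14, 5]), ([1, 14], [14,
    2, 1]), ([10, 14], [14, 10]), ([6, 14], [14, 6]), ([14, 18], [18, 12]), ([12, 18], [18, 13]),
    ([13, 12, 14], []), ([12, 14], [14, 12]), ([17, 1], [1, 10, 4, 17]), ([17, 3], [3, 17]), ([17,
    2], [2, 17]), ([17, 12], [12, 17]), ([17, 14], [14, 17]), ([17, 4], [4, 14, 17]), ([17, 10],
    [10, 14, 17]), ([17, 5], [5, 17]), ([17, 18], [18, 15]), ([15, 18], [18, 16])]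

/-- quadruples of involutions -/
def cands : List (List ℕ × List ℕ × List ℕ × List ℕ) :=
  [([2], [3], [12], [14]), ([2], [3], [12], [4]), ([2], [3], [14], [4]), ([2], [14], [17], [10,
    4]), ([2], [14], [17, 12], [3, 10, 4]), ([2], [14], [17], [3, 12, 10, 4]), ([2], [14], [17, 12],
    [12, 10, 4]), ([2], [14], [3, 17], [3, 12, 10, 4]), ([2], [14], [3, 17, 12], [12, 10, 4])]

/-- relators from pairs of words -/
noncomputable def rl (P : List (List ℕ × List ℕ)) : List (List ℕ) :=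
  P.map fun p => (p.2.map iW).reverse ++ p.1

/-- the common relators -/
noncomputable def RW : List (List ℕ) := [] ++ rl PV ++ rl PB

variable {G : Type*} [Group G]

theorem sat_rl {g : ℕ → G} {R : List (List ℕ)} (h : Sat g 20 iW R) {P : List (List ℕ × List ℕ)}
    (hP : P.all (fun p => p.2.all (· < 20)) = true) (e : ∀ p ∈ P, wv g p.1 = wv g p.2) :
    Sat g 20 iW (R ++ rl P) := h.append fun r hr => by
  obtain ⟨p, hp, rfl⟩ := List.mem_map.1 hr
  rw [wv_append, ← w_inv h _ (List.all_eq_true.1 hP p hp), e p hp, mul_inv_cancel]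

/-- forget the last two letters -/
@[reducible] def res (M : PM) (SW : List (List (List ℕ) × List Cert)) : PM :=
  ⟨M.w, M.n, M.cs.take 18, SW⟩

instance (M : PM) (SW : List (List (List ℕ) × List Cert)) [h : NeZero M.n] :
    NeZero (res M SW).n := h

theorem lf_take (gl : List G) (k l : ℕ) : lf (gl.take k) l = if l < k then lf gl l else 1 := by
  simp only [lf, List.getD_eq_getElem?_getD, List.getElem?_take]
  split_ifs <;> rfl

/-- the centre -/
def zFm : Fm := .all 0 40 (.imp (.eq [1, 40] [40, 1]) (.imp (.eq [5, 40] [40, 5])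
  (.imp (.eq [15, 40] [40, 15]) (.or (.eq [40] []) (.eq [40] [2])))))

theorem emb_res {M : PM} [NeZero M.n] {gl : List G} {SW : List (List (List ℕ) × List Cert)}
    (he : ∃ (hm : ∀ l, M.m l ∈ sub M.m (M.W 0)) (φ : sub M.m (M.W 0) →* G),
      φ.range = sub (lf gl) (M.W 0) ∧ ∀ l, φ ⟨_, hm l⟩ = lf gl l) (h0 : M.m 0 = 1)
    (h : (res M SW).ok = true) (h' : (res M SW).subsOK = true)
    (hc : (res M SW).W 0 = (List.range' 1 17).map (fun l => [l]) ∧
      certOrder ((res M SW).K 0) = 2 ^ 12) (hd : (res M SW).dec zFm = true) (hz : lf gl 2 ≠ 1) :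
    Emb (res M SW).m (lf (gl.take 18)) := by
  obtain ⟨hm, φ, -, e⟩ := he
  have e1 : ∀ l, (res M SW).m l = if l < 18 then M.m l else 1 := fun l => by
    rw [PM.m, List.map_take, lf_take]; rfl
  have hm' : ∀ l, (res M SW).m l ∈ sub (res M SW).m ((res M SW).W 0) := fun l => by
    rw [hc.1]
    exact lf_mem_sub _ (k := 18) (by simp) ((e1 0).trans h0) (by decide) l
  have hle : sub (res M SW).m ((res M SW).W 0) ≤ sub M.m (M.W 0) :=
    sub_le fun L _ => wv_mem_of fun l _ => by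
      rw [e1]; split_ifs; exacts [hm l, one_mem _]
  have e2 : ∀ l, φ.comp (inclusion hle) ⟨_, hm' l⟩ = lf (gl.take 18) l := fun l => by
    rw [lf_take]
    split_ifs with a
    · exact (congrArg φ (Subtype.ext ((e1 l).trans (if_pos a)))).trans (e l)
    · exact (congrArg φ (Subtype.ext ((e1 l).trans (if_neg a)))).trans (map_one φ)
  refine ⟨_, hm', _, (MonoidHom.ker_eq_bot_iff _).1 (by_contra fun hn => ?_), e2⟩
  have hp : IsPGroup 2 (sub (res M SW).m ((res M SW).W 0)) :=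
    IsPGroup.of_card ((PM.card_sub h h' 0).trans hc.2)
  obtain ⟨⟨x, hx, hx'⟩, h1⟩ := (ne_bot_iff_exists_ne_one).1 (Solv.PG.inf_centralizer_ne_bot
    (P := ⊤) (hp.to_subgroup _) (hp.to_subgroup _) (normalizer_eq_top _).ge hn)
  have k := fun l => congrArg Subtype.val (hx' ⟨_, hm' l⟩ (mem_top _))
  have := (PM.dec_iff h h' _).1 hd x x.2
  simp only [Fm.sem, wv_cons, wv_nil, one_mul, upd_apply, Nat.reduceEqDiff, ↓reduceIte] at this
  rcases this (k 1).symm (k 5).symm (k 15).symm with a | a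
  · exact h1 (Subtype.ext (Subtype.ext a))
  · exact hz ((lf_take gl 18 2).symm.trans ((e2 2).symm.trans
      ((congrArg _ (Subtype.ext a.symm)).trans hx)))

/-- commutation modulo `z` -/
def cmFm (k x : ℕ) : Fm := .or (.eq [x, k] [k, x]) (.eq [x, k] [k, 2, x])

/-- the action of the letters on `z`, `y` and `b` -/
def letFm : Fm := andL (List.range' 1 17) fun l =>
  .and (.eq [2, l] [l, 2]) (.and (cmFm l 3) (cmFm l 14))

/-- the second centre -/
def z2Fm : Fm := .all 0 40 (.imp (cmFm 1 40) (.imp (cmFm 5 40) (.imp (cmFm 15 40)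
  (orL [[], [2], [3], [2, 3]] fun v => .or (.eq [40] v) (.eq [40] (14 :: v))))))

/-- five independent commuting involutions -/
def indFm : Fm :=
  .and (andL [41, 42, 43, 44] fun l => .and (.eq [40, l] [l, 40]) (.eq [l, l] []))
  (.and (andL [(41, 42), (41, 43), (42, 43), (41, 44), (42, 44), (43, 44)] fun p =>
    .eq [p.2, p.1] [p.1, p.2])
  (.and (andL [[41], [42], [42, 41]] fun w => .and (.not (.eq w [])) (.not (.eq w [40])))
    (andL [[43], [44], [44, 43]] fun w => andL [[], [41], [42], [42, 41], [40], [40, 41], [40, 42],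
      [40, 42, 41]] fun s => .not (.eq (w ++ s) []))))

/-- the involutions -/
def clFm : Fm := .all 0 40 (.imp (.eq [40, 40] []) (.and (.imp (.eq [14, 40] [40, 14])
  (.or (.eq [40] []) (.or (.eq [40] [2]) (orL cands fun q =>
    .bind 41 q.1 (.bind 42 q.2.1 (.bind 43 q.2.2.1 (.bind 44 q.2.2.2 indFm)))))))
  (.or (.eq [14, 40] [40, 14]) (.ex 1 45 (.or (.eq [1, 45] [45, 40]) (.eq [5, 1, 45] [45, 40]))))))

/-- adjoin a commuting involution -/
def adjc (H : Subgroup G) (f : G) (h1 : ∀ x ∈ H, f * x = x * f) (h2 : f * f = 1) : Subgroup G :=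
  adj H f (fun x hx => by rwa [cj_of (h1 x hx)]) (h2 ▸ one_mem _)

theorem adjc_comm {H : Subgroup G} {f u : G} {h1 : ∀ x ∈ H, f * x = x * f} {h2 : f * f = 1}
    (h3 : ∀ x ∈ H, u * x = x * u) (h4 : u * f = f * u) : ∀ x ∈ adjc H f h1 h2, u * x = x * u :=
  fun x hx => hx.elim (h3 x) fun e => by
    simpa using ((Commute.inv_right h4).mul_right (h3 _ e)).eq

/-- the elements that centralize `z`, and `x` modulo `z` -/
def cmS (z x : G) (hz : z * z = 1) : Subgroup G where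
  carrier := {k | k * z = z * k ∧ Cm z k x}
  one_mem' := ⟨by simp, Or.inl (by simp)⟩
  mul_mem' := by
    rintro k l ⟨h1, h2 | h2⟩ ⟨h3, h4 | h4⟩ <;> refine ⟨Commute.mul_left h1 h3, ?_⟩ <;>
      simp only [Cm, mul_assoc, h4, as2 h2, as h1, as1 hz, true_or, or_true]
  inv_mem' := by
    rintro k ⟨h1, h2 | h2⟩ <;> refine ⟨Commute.inv_left h1, ?_⟩
    · exact Or.inl (Commute.inv_left h2)
    · refine Or.inr (inv_mul_eq_of_eq_mul ?_)
      simp only [← mul_assoc, h2]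
      simp only [mul_assoc, as h1, hz, mul_inv_cancel, mul_one]

theorem mem_cmS {z x k : G} {hz : z * z = 1} : k ∈ cmS z x hz ↔ k * z = z * k ∧ Cm z k x := Iff.rfl

namespace CF

variable {F : CF G} {b b1 b2 f1 f2 f3 : G}

theorem nX_of [Finite G] {S : ℕ → Subgroup G} {g : ℕ → G} (h : indFm.sem S g) : ¬ F.X (g 40) := by
  intro hX
  simp only [indFm, Fm.sem, sem_andL, List.forall_mem_cons, wv_cons, wv_nil, one_mul, mul_assoc,
    List.cons_append, List.nil_append, List.not_mem_nil, false_imp_iff, implies_true,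
    and_true] at h
  obtain ⟨⟨⟨x1, s1⟩, ⟨x2, s2⟩, ⟨x3, s3⟩, x4, s4⟩, hk, n1, n2⟩ := h
  have b0 : ∀ u : G, ∀ x ∈ (⊥ : Subgroup G), u * x = x * u := fun u x hx => by simp [mem_bot.1 hx]
  have := hX.rank ⟨s1, s2, s3, s4⟩ ⟨x1, x2, x3, x4⟩ hk
    (H := adjc (adjc (adjc ⊥ _ (b0 _) s1) _ (adjc_comm (b0 _) hk.1.symm) s2) _
      (adjc_comm (adjc_comm (b0 _) x1.symm) x2.symm) hX.sq)
    (Or.inr (hX.sq ▸ one_mem _)) (Or.inl (Or.inl (Or.inr (mem_bot.2 s1))))
    (Or.inl (Or.inr (s2 ▸ one_mem _)))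
  simp only [adjc, mem_adj, mem_bot, n1, n2, or_self] at this

/-- the letters -/
def gW (F : CF G) (b b1 b2 f1 f2 f3 : G) : List G :=
  [1, F.e, F.z, F.y, F.t, F.r, F.a1, F.a1⁻¹, F.a2, F.a2⁻¹, F.a3, F.a3⁻¹, b1, b2, b, f1, f2, f3,
    F.g, F.g⁻¹]

theorem WR.sat (h : F.WR b b1 b2 f1 f2 f3) : Sat (lf (F.gW b b1 b2 f1 f2 f3)) 20 iW RW := by
  have h0 : Sat (lf (F.gW b b1 b2 f1 f2 f3)) 20 iW [] := ⟨rfl, fun l hl => by
    obtain ⟨s1, s2, s3, s4, s5, -⟩ := F.sq
    obtain ⟨s6, s7, s8, s9, s10⟩ := h.sq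
    have s11 := h.bb
    interval_cases l <;> first
      | rfl
      | exact inv_one.symm
      | exact (inv_inv _).symm
      | exact eq_inv_of_mul_eq_one_right ‹_›, by simp⟩
  refine sat_rl (sat_rl h0 (P := PV) (by decide) ?_) (P := PB) (by decide) ?_ <;>
    simp only [PV, PB, List.forall_mem_cons, wv_cons, wv_nil, one_mul, lf, gW, List.getD_cons_succ,
      List.getD_cons_zero, List.not_mem_nil, false_imp_iff, implies_true, and_true]
  · refine ⟨?_, ?_, ?_, ?_, ?_, ?_, ?_, ?_, ?_, ?_, ?_, ?_, ?_, ?_, ?_, ?_, ?_, ?_, ?_, ?_⟩ <;> cw F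
  · exact ⟨h.y, h.z, h.t, h.r, h.e, h.a3, h.a1, h.rb.1, h.rb.2.1, h.rb.2.2.1, h.rb.2.2.2, h.rf⟩

theorem WR.ws [Finite G] (h : F.WR b b1 b2 f1 f2 f3) {M : PM} [NeZero M.n] (ho : M.ok = true)
    (hs : M.subsOK = true) (he : Emb M.m (lf ((F.gW b b1 b2 f1 f2 f3).take 18)))
    (hc : (M.W 0 = (List.range' 1 17).map (fun l => [l]) ∧ certOrder (M.K 0) = 2 ^ 12) ∧
      (∀ L ∈ M.W 1, L ∈ M.W 0) ∧ M.dec letFm = true) (h2 : M.dec z2Fm = true)
    (h3 : M.dec clFm = true) : ∃ T, F.WS T b := by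
  have a1 := sem_andL.1 (PM.holds ho hs he hc.2.2)
  have a2 := PM.holds ho hs he h2
  have a3 := PM.holds ho hs he h3
  have a4 := PM.card_of_emb ho hs he 0
  have l : ∀ l < 12, lf ((F.gW b b1 b2 f1 f2 f3).take 18) l = F.g0 l := fun l hl => by
    interval_cases l
    exacts [F.sat.zero.symm, rfl, rfl, rfl, rfl, rfl, rfl, F.l7.symm, rfl, F.l9.symm, rfl, F.l11.symm]
  have l14 : lf ((F.gW b b1 b2 f1 f2 f3).take 18) 14 = b := rfl
  generalize lf ((F.gW b b1 b2 f1 f2 f3).take 18) = g at *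
  have m : ∀ l ∈ List.range' 1 17, g l ∈ sub g (M.W 0) := fun l hl =>
    let_mem _ _ (hc.1.1 ▸ List.mem_map_of_mem hl)
  have k : ∀ x, (∀ l ∈ List.range' 1 17, g l * F.z = F.z * g l ∧ Cm F.z (g l) x) →
      sub g (M.W 0) ≤ cmS F.z x F.sq.2.1 := fun x hx => sub_le fun L hL => by
    obtain ⟨l, hl, rfl⟩ := List.mem_map.1 (hc.1.1 ▸ hL)
    exact w_let g l ▸ mem_cmS.2 (hx l hl)
  simp only [z2Fm, clFm, cmFm, Fm.sem, sem_orL, wv_cons, wv_nil, one_mul, upd_apply, Nat.reduceEqDiff,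
    ↓reduceIte, l 1, l 2, l 3, l 5, l14, Nat.reduceLT, F.l1, F.l2, F.l3, F.l5, List.mem_cons,
    List.not_mem_nil, or_false, exists_eq_or_imp, exists_eq_left] at a1 a2 a3
  have k1 := k F.y fun l hl => ⟨(a1 l hl).1, (a1 l hl).2.1⟩
  have k2 := k b fun l hl => ⟨(a1 l hl).1, (a1 l hl).2.2⟩
  have m' : ∀ i ∈ List.range' 1 11, F.g0 i ∈ sub g (M.W 0) := fun i hi =>
    l i (by simp at hi; omega) ▸ m i (by simp at hi ⊢; omega)
  refine ⟨sub g (M.W 0), h.toNb, h.bb, IsPGroup.of_card (a4.trans hc.1.2),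
    sub_le fun L hL => wv_mem_of fun i hi => m' i (by revert i; revert L; decide +kernel),
    l14 ▸ m 14 (by decide), fun k hk => (mem_cmS.1 (k1 hk)).1, fun k hk => (mem_cmS.1 (k1 hk)).2,
    fun k hk => (mem_cmS.1 (k2 hk)).2,
    fun x hx e => ?_, fun u hu e hX => ?_, fun u hu e => ((a3 u hu e).2.imp_right
      fun ⟨k, hk, e⟩ => ⟨k, sub_le (fun L hL => wv_mem_sub _ (hc.2.1 L hL)) hk, mul_assoc k _ _ ▸ e⟩)⟩
  · rcases a2 x hx (e _ (m' 1 (by decide))) (e _ (m' 5 (by decide))) (e _ (m 15 (by decide))) with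
      a | a | a | a
    exacts [⟨1, one_mem _, by rwa [one_mul]⟩, ⟨_, F.zV, a⟩, ⟨_, F.yV, a⟩, ⟨_, yzV, a⟩]
  · obtain rfl | rfl | ⟨q, -, a⟩ := (a3 u hu hX.sq).1 e
    · exact hX.ne_one rfl
    · exact F.nX_V F.zV hX
    · exact nX_of a (by simpa only [upd_apply, Nat.reduceEqDiff, ↓reduceIte] using hX)

end CF

noncomputable def wsA_C : SeqCert := ⟨nat_lit 5, nat_lit 9, nat_lit 20, nat_lit 0x12131312111110100f0f0e0e0d0d0c0c0a0b0b0a0809090806070706050504040303020201010000, (NT.leaf (nat_lit 0) (nat_lit 0x88100e080982818b0091341a0d007341dd0027c02d30087ac0de7083241ccf0663c206f0a4bc2468032b419a80b68c09a60b534204c022b02d8b0a6100d86063b00964092a428ab0942c0d4b074ac25470250c2cca064a808490a2141ca8023a02c280631c20870a09c2c66031901c440610c2e020a78821c2096842181075841941034842d000a38024c0082801c80061800c40020800000)), (NT.node (nat_lit 12) (NT.node (nat_lit 6) (NT.node (nat_lit 3) (NT.node (nat_lit 1) (NT.leaf (nat_lit 32768) (nat_lit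 0x60306)) (NT.node (nat_lit 2) (NT.leaf (nat_lit 16385) (nat_lit 0x70307)) (NT.leaf (nat_lit 32769) (nat_lit 0x30707)))) (NT.node (nat_lit 4) (NT.leaf (nat_lit 32777) (nat_lit 0xb0709)) (NT.node (nat_lit 5) (NT.leaf (nat_lit 32772) (nat_lit 0xa020a)) (NT.leaf (nat_lit 16392) (nat_lit 0x8060a))))) (NT.node (nat_lit 9) (NT.node (nat_lit 7) (NT.leaf (nat_lit 49164) (nat_lit 0x60b070a)) (NT.node (nat_lit 8) (NT.leaf (nat_lit 16389) (nat_lit 0xb020b)) (NT.leaf (nat_lit 32773) (nat_lit 0x20b0b)))) (NT.node (nat_lit 10) (NT.leaf (nat_lit 9) (nat_lit 0x7090b)) (NT.node (nat_lit 11) (NT.leaf (nat_lit 32780) (nat_lit 0xa060b07)) (NT.leaf (nat_lit 16) (nat_lit 0x2030203)))))) (NT.node (nat_lit 18) (NT.node (nat_lit 15) (NT.node (nat_lit 13) (NT.leaf (nat_lit 12) (nat_lit 0xb070a06)) (NT.node (nat_lit 14) (NT.leaf (nat_lit 16393) (nat_lit 0x90b07)) (NT.leaf (nat_lit 32776) (nat_lit 0x60a08)))) (NT.node (nat_lit 16) (NT.leaf (nat_lit 0)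 (nat_lit 0x30606)) (NT.node (nat_lit 17) (NT.leaf (nat_lit 16397) (nat_lit 0xb060a07)) (NT.leaf (nat_lit 4) (nat_lit 0x20a0a))))) (NT.node (nat_lit 21) (NT.node (nat_lit 19) (NT.leaf (nat_lit 5) (nat_lit 0xb0b02)) (NT.node (nat_lit 20) (NT.leaf (nat_lit 16400) (nat_lit 0x3020302)) (NT.leaf (nat_lit 13) (nat_lit 0x70b060a)))) (NT.node (nat_lit 22) (NT.leaf (nat_lit 32781) (nat_lit 0x60a070b)) (NT.node (nat_lit 23) (NT.leaf (nat_lit 26) (nat_lit 0x607)) (NT.leaf (nat_lit 38) (nat_lit 0x908)))))))⟩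
noncomputable def wsA_U : List (List ℕ) := []
noncomputable def wsA_HL : List ℕ := []
theorem wsA_head : wsA_C.head 20 iW RW wsA_U wsA_HL 17 5 0 = true := by decide +kernel
noncomputable def wsA_s0 : List ℕ := [nat_lit 0x36400080a33389d806131d9d0040d100906c030a9ec38020b9ecf0020b17846213c8102a200e80812200f80810201c0080e55350080a4e350081e66368080a1e110a006140f090a60303078440202878700202184bc0206970a2570184c62152d00c0c3f2d008243c2d008101a0a8080652128080a521b00822161513806100403c9c03050b89c020786054020709c7e440182c8449010342c301a80c1416180081a160a808041609808022f1e0081a281e0081014150bc060c0a04c0400090080a03058d0200901828200b01024200f0102020030101c1c071400c0c0e048080a0e01808080c038080608038080408028080206028080033]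
theorem wsA_ok0 : wsA_C.StepsOK 17 68 := (SeqCert.StepsOK.refl _ 17).step (L := wsA_s0) (by decide +kernel)
theorem wsA_ok : wsA_C.StepsOK (17 + 0) 68 := wsA_ok0
noncomputable def wsA_r0 : List ℕ := [nat_lit 0x104038e0c3028a082018604100820, nat_lit 0x2b38c501a68618165851412480c01, nat_lit 0x208079e5961fda23189480500e522, nat_lit 0x5e68a4c697995007008842720f943, nat_lit 0x37294982d3a1a0241024026193164, nat_lit 0x4958d880b012d28180d5063695d85, nat_lit 0x2818f546f483402f39b5e506171a6, nat_lit 0xf00a824050b084f60b8c7078cd07, nat_lit 0x300844064191d6342981a8480c8e8, nat_lit 0x6779d604a29b8c3b510d61308e049, nat_lit 0x3c316da828104e1508e924558fc6a, nat_lit 0x546120a4641c9e42485c24451348b, nat_lit 0x532155619096046b7938e513158ac, nat_lit 0x5a517c67e106c26141f20622974cd, nat_lit 0x1f119927359a066c31a987139de0f, nat_lit 0x744884487220d47d6a00a8541d9f0]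
theorem wsA_final : wsA_C.final 20 68 (nat_lit 0x1bfff) 16 [2,3,6,7,8,9,10,11] (wsA_r0) = true := by decide +kernel
theorem wsA {G : Type*} [Group G] {g : ℕ → G} {H : Subgroup G} (hg : Sat g 20 iW RW)
    (hU : ∀ u ∈ wsA_U, wv g u ∈ H) (hL : ∀ l ∈ wsA_HL, g l ∈ H) :
    IdxLe H (Subgroup.closure {x | ∃ l ∈ ([2,3,6,7,8,9,10,11] : List ℕ), g l = x}) 16 :=
  SeqCert.idxLe_of_final hg hU hL wsA_head wsA_ok wsA_final

noncomputable def wsB_C : SeqCert := ⟨nat_lit 2, nat_lit 9, nat_lit 20, nat_lit 0x12131312111110100f0f0e0e0d0d0c0c0a0b0b0a0809090806070706050504040303020201010000, (NT.leaf (nat_lit 0) (nat_lit 0x2f08f03f01b0af06f02a08a03a0aa06a0250950350b50750a008006003002004d048014000)), (NT.node (nat_lit 5) (NT.node (nat_lit 2) (NT.node (nat_lit 1) (NT.leaf (nat_lit 16452) (nat_lit 0x7010601)) (NT.leaf (nat_lit 16456) (nat_lit 0xb010a01))) (NT.node (nat_lit 3) (NT.leaf (nat_lit 32769) (nat_lit 0x30707)) (NT.node (nat_lit 4) (NT.leaf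 (nat_lit 16393) (nat_lit 0x90b07)) (NT.leaf (nat_lit 32773) (nat_lit 0x20b0b))))) (NT.node (nat_lit 8) (NT.node (nat_lit 6) (NT.leaf (nat_lit 20) (nat_lit 0x6040604)) (NT.node (nat_lit 7) (NT.leaf (nat_lit 24) (nat_lit 0xa040a04)) (NT.leaf (nat_lit 0) (nat_lit 0x30606)))) (NT.node (nat_lit 9) (NT.leaf (nat_lit 16392) (nat_lit 0x8060a)) (NT.node (nat_lit 10) (NT.leaf (nat_lit 4) (nat_lit 0x20a0a)) (NT.leaf (nat_lit 60) (nat_lit 0x1040104))))))⟩
noncomputable def wsB_U : List (List ℕ) := []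
noncomputable def wsB_HL : List ℕ := [2,3,6,7,8,9,10,11]
theorem wsB_head : wsB_C.head 20 iW RW wsB_U wsB_HL 4 2 5 = true := by decide +kernel
noncomputable def wsB_s0 : List ℕ := [nat_lit 0x140a00409140980408130980407030080a03050182a07018180c130380c0a1e0f008121e0e008101c0e0080e04080140606020300a0302850280202048280201848240201008200301804040c0180c0010]
theorem wsB_ok0 : wsB_C.StepsOK 9 25 := (SeqCert.StepsOK.refl _ 9).step (L := wsB_s0) (by decide +kernel)
theorem wsB_ok : wsB_C.StepsOK (4 + 5) 25 := wsB_ok0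
noncomputable def wsB_r0 : List ℕ := [nat_lit 0x881001e0380680c009028040024, nat_lit 0xa2154308650921340d8590d2031, nat_lit 0xfc1e84708a0ec1c80a0821242be, nat_lit 0x14e28c5f8bb13e26c0e8b31862ab]
theorem wsB_final : wsB_C.final 20 25 (nat_lit 0xf) 4 [1,2,3,4,6,7,8,9,10,11] (wsB_r0) = true := by decide +kernel
theorem wsB {G : Type*} [Group G] {g : ℕ → G} {H : Subgroup G} (hg : Sat g 20 iW RW)
    (hU : ∀ u ∈ wsB_U, wv g u ∈ H) (hL : ∀ l ∈ wsB_HL, g l ∈ H) :
    IdxLe H (Subgroup.closure {x | ∃ l ∈ ([1,2,3,4,6,7,8,9,10,11] : List ℕ), g l = x}) 4 :=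
  SeqCert.idxLe_of_final hg hU hL wsB_head wsB_ok wsB_final

noncomputable def wsC_C : SeqCert := ⟨nat_lit 3, nat_lit 9, nat_lit 20, nat_lit 0x12131312111110100f0f0e0e0d0d0c0c0a0b0b0a0809090806070706050504040303020201010000, (NT.leaf (nat_lit 0) (nat_lit 0x3b40ad09b406d055412d06b42ad13940a40b900e4019015c049026407900db026c25b016c11b066c29b134c0920b480d2014811209481d20324089012424906242890424280080018004000c0020004013a44a113604900520000)), (NT.node (nat_lit 10) (NT.node (nat_lit 5) (NT.node (nat_lit 2) (NT.node (nat_lit 1) (NT.leaf (nat_lit 44) (nat_lit 0x4050405)) (NT.leaf (nat_lit 32816) (nat_lit 0xa050b05))) (NT.node (nat_lit 3) (NT.leaf (nat_lit 32820) (nat_lit 0x6050905)) (NT.node (nat_lit 4) (NT.leaf (nat_lit 52) (nat_lit 0x9050605)) (NT.leaf (nat_lit 64) (nat_lit 0x1050105))))) (NT.node (nat_lit 7) (NT.node (nat_lit 6) (NT.leaf (nat_lit 4) (nat_lit 0x20a0a)) (NT.leaf (nat_lit 0) (nat_lit 0x30606))) (NT.node (nat_lit 8)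 (NT.leaf (nat_lit 28) (nat_lit 0x7130a12)) (NT.node (nat_lit 9) (NT.leaf (nat_lit 32) (nat_lit 0x9130612)) (NT.leaf (nat_lit 40) (nat_lit 0x4130412)))))) (NT.node (nat_lit 15) (NT.node (nat_lit 12) (NT.node (nat_lit 11) (NT.leaf (nat_lit 76) (nat_lit 0x1130112)) (NT.leaf (nat_lit 32769) (nat_lit 0x30707))) (NT.node (nat_lit 13) (NT.leaf (nat_lit 32777) (nat_lit 0xb0709)) (NT.node (nat_lit 14) (NT.leaf (nat_lit 32773) (nat_lit 0x20b0b)) (NT.leaf (nat_lit 37) (nat_lit 0x131313))))) (NT.node (nat_lit 18) (NT.node (nat_lit 16) (NT.leaf (nat_lit 32796) (nat_lit 0xa120713)) (NT.node (nat_lit 17) (NT.leaf (nat_lit 32800) (nat_lit 0x6120913)) (NT.leaf (nat_lit 32808) (nat_lit 0x4120413)))) (NT.node (nat_lit 19) (NT.leaf (nat_lit 32844) (nat_lit 0x1120113)) (NT.node (nat_lit 20) (NT.leaf (nat_lit 16440) (nat_lit 0x5120512)) (NT.leaf (nat_lit 57) (nat_lit 0x5130513)))))))⟩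
noncomputable def wsC_U : List (List ℕ) := []
noncomputable def wsC_HL : List ℕ := [1,2,3,4,6,7,8,9,10,11]
theorem wsC_head : wsC_C.head 20 iW RW wsC_U wsC_HL 6 3 7 = true := by decide +kernel
noncomputable def wsC_s0 : List ℕ := [nat_lit 0xb45a01018b05801014ae472b00c100a1102c0612050080a030a028340b0184414200580c200a0f82c060f05024040e29148040d24118040c23118040b0408812030502004070184c101a0480c12080f0240608040701203038e87402030e07002028dc5236018200c0c0380c24060901c06110305c0e03080182a070183c0c050103864320103454280103050280102c080c0280c1404090140609020500a030401030050181c3c1e01018381c01014040c0180c08020a00c06030105c06030100832030180404120180c0027]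
theorem wsC_ok0 : wsC_C.StepsOK 13 52 := (SeqCert.StepsOK.refl _ 13).step (L := wsC_s0) (by decide +kernel)
theorem wsC_ok : wsC_C.StepsOK (6 + 7) 52 := wsC_ok0
noncomputable def wsC_r0 : List ℕ := [nat_lit 0x1981106406005c0580540500088480400380300, nat_lit 0x2a82207487088088487c87880c0688988908889, nat_lit 0x140dd8c90cd0a90ad0a10a517e8b10c10d10b92, nat_lit 0xd901c0e58e19019058ed8e99360f19119098f9b, nat_lit 0x2495e94a14e12212611a11e13192a14215213a4, nat_lit 0x15a02c96696298a98e96e96a97917299a992982d]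
theorem wsC_final : wsC_C.final 20 52 (nat_lit 0x3f) 6 [1,2,3,4,5,6,7,8,9,10,11,18,19] (wsC_r0) = true := by decide +kernel
theorem wsC {G : Type*} [Group G] {g : ℕ → G} {H : Subgroup G} (hg : Sat g 20 iW RW)
    (hU : ∀ u ∈ wsC_U, wv g u ∈ H) (hL : ∀ l ∈ wsC_HL, g l ∈ H) :
    IdxLe H (Subgroup.closure {x | ∃ l ∈ ([1,2,3,4,5,6,7,8,9,10,11,18,19] : List ℕ), g l = x}) 6 :=
  SeqCert.idxLe_of_final hg hU hL wsC_head wsC_ok wsC_final

noncomputable def wsD_C : SeqCert := ⟨nat_lit 2, nat_lit 9, nat_lit 20, nat_lit 0x12131312111110100f0f0e0e0d0d0c0c0a0b0b0a0809090806070706050504040303020201010000, (NT.leaf (nat_lit 0) (nat_lit 0x3a02502a03509a0b506a01a0150950ba07505909f04504a12e01f12706f0af05f04f02f03f0cb0d71360e61200a00800600500400300200100ec0d80c4000)), (NT.node (nat_lit 14) (NT.node (nat_lit 7) (NT.node (nat_lit 3) (NT.node (nat_lit 1) (NT.leaf (nat_lit 117) (nat_lit 0xe0c0d)) (NT.node (nat_lit 2) (NT.leaf (nat_lit 16496) (nat_lit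 0x130c120d)) (NT.leaf (nat_lit 116) (nat_lit 0xd0c0e)))) (NT.node (nat_lit 5) (NT.node (nat_lit 4) (NT.leaf (nat_lit 16501) (nat_lit 0xc0d0e)) (NT.leaf (nat_lit 80) (nat_lit 0x30e030e))) (NT.node (nat_lit 6) (NT.leaf (nat_lit 84) (nat_lit 0x20e020e)) (NT.leaf (nat_lit 88) (nat_lit 0x40e040e))))) (NT.node (nat_lit 10) (NT.node (nat_lit 8) (NT.leaf (nat_lit 92) (nat_lit 0x50e050e)) (NT.node (nat_lit 9) (NT.leaf (nat_lit 32868) (nat_lit 0xa0e0b0e)) (NT.leaf (nat_lit 32872) (nat_lit 0x60e070e)))) (NT.node (nat_lit 12) (NT.node (nat_lit 11) (NT.leaf (nat_lit 49260) (nat_lit 0x120c130e)) (NT.leaf (nat_lit 49248) (nat_lit 0x10e01020e))) (NT.node (nat_lit 13) (NT.leaf (nat_lit 49264) (nat_lit 0x120d130c)) (NT.leaf (nat_lit 32808) (nat_lit 0x4120413)))))) (NT.node (nat_lit 21) (NT.node (nat_lit 17) (NT.node (nat_lit 15) (NT.leaf (nat_lit 40) (nat_lit 0x4130412)) (NT.node (nat_lit 16) (NT.leaf (nat_lit 52) (nat_lit 0x9050605)) (NT.leaf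 (nat_lit 16440) (nat_lit 0x5120512)))) (NT.node (nat_lit 19) (NT.node (nat_lit 18) (NT.leaf (nat_lit 28) (nat_lit 0x7130a12)) (NT.leaf (nat_lit 16413) (nat_lit 0xb120613))) (NT.node (nat_lit 20) (NT.leaf (nat_lit 32) (nat_lit 0x9130612)) (NT.leaf (nat_lit 76) (nat_lit 0x1130112))))) (NT.node (nat_lit 24) (NT.node (nat_lit 22) (NT.leaf (nat_lit 32844) (nat_lit 0x1120113)) (NT.node (nat_lit 23) (NT.leaf (nat_lit 32800) (nat_lit 0x6120913)) (NT.leaf (nat_lit 48) (nat_lit 0xb050a05)))) (NT.node (nat_lit 26) (NT.node (nat_lit 25) (NT.leaf (nat_lit 32769) (nat_lit 0x30707)) (NT.leaf (nat_lit 32773) (nat_lit 0x20b0b))) (NT.node (nat_lit 27) (NT.leaf (nat_lit 16480) (nat_lit 0x20e010e01)) (NT.leaf (nat_lit 0) (nat_lit 0x30606)))))))⟩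
noncomputable def wsD_U : List (List ℕ) := []
noncomputable def wsD_HL : List ℕ := [1,2,3,4,5,6,7,8,9,10,11,18,19]
theorem wsD_head : wsD_C.head 20 iW RW wsD_U wsD_HL 4 2 9 = true := by decide +kernel
noncomputable def wsD_s0 : List ℕ := [nat_lit 0x8c460106c841a2206c081a1f0f804191e0f004181d0f47603078ec7e3a0185c66381900c2c33180c80615170c05e030a0b8582f0184c662c1900c242e150bc0611170a06403080a058280183c5c261780c1c33130c8060d100bc3c030601814080381016060c80c060a0304c0e03048182e07018200c100380c0e060701c0606030280e03028181807018100c050100c0c030100808180180c020401808001d]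
theorem wsD_ok0 : wsD_C.StepsOK 13 42 := (SeqCert.StepsOK.refl _ 13).step (L := wsD_s0) (by decide +kernel)
theorem wsD_ok : wsD_C.StepsOK (4 + 9) 42 := wsD_ok0
noncomputable def wsD_r0 : List ℕ := [nat_lit 0x320600360480485c0b01502804c0901001c030050080, nat_lit 0x5f8760dc1fc0612124a404828f11ea3a86c931282425, nat_lit 0x388cb0d2050438fa1fc4a89711e2343b46914a27444a, nat_lit 0x670b90381e4410af15638c738b716628c4d88b12630f]
theorem wsD_final : wsD_C.final 20 42 (nat_lit 0xf) 4 [1,2,3,4,5,6,7,8,9,10,11,12,13,14,18,19] (wsD_r0) = true := by decide +kernel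
theorem wsD {G : Type*} [Group G] {g : ℕ → G} {H : Subgroup G} (hg : Sat g 20 iW RW)
    (hU : ∀ u ∈ wsD_U, wv g u ∈ H) (hL : ∀ l ∈ wsD_HL, g l ∈ H) :
    IdxLe H (Subgroup.closure {x | ∃ l ∈ ([1,2,3,4,5,6,7,8,9,10,11,12,13,14,18,19] : List ℕ), g l = x}) 4 :=
  SeqCert.idxLe_of_final hg hU hL wsD_head wsD_ok wsD_final

theorem card_NB {g : ℕ → G} (h : Sat g 20 iW RW) :
    Finite (closure {x | ∃ l ∈ ([1,2,3,4,5,6,7,8,9,10,11,12,13,14,18,19] : List ℕ), g l = x}) ∧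
    Nat.card (closure {x | ∃ l ∈ ([1,2,3,4,5,6,7,8,9,10,11,12,13,14,18,19] : List ℕ), g l = x}) ≤ 4 * (6 * (4 * (16 * 1))) :=
  (wsD h (by simp [wsD_U]) fun _ => letter_mem g).card_le
    ((wsC h (by simp [wsC_U]) fun _ => letter_mem g).card_le
      ((wsB h (by simp [wsB_U]) fun _ => letter_mem g).card_le
        ((wsA h (by simp [wsA_U]) (by simp [wsA_HL])).card_le card_bot_le)))

end Cfsg.Lib.Co3M
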