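import Cfsg.Agent.Co3M.WKit

/-! The wreath case: one of the four models. -/

set_option autoImplicit false
set_option maxRecDepth 100000
set_option linter.unusedSimpArgs false
set_option maxHeartbeats 1000000

namespace Cfsg.Lib.Co3M

open Subgroup Cfsg.Lib.Spor Cfsg.Lib.Spor.Bulk Cfsg.Lib.Spor.PK Cfsg.Lib.Spor.WF

/-- permutation model -/
@[reducible] def MW00 : PM where
  w := 9
  n := 24
  cs := [42657122426767500594227940119892518355493799619047408669337063936,
    31528230547898444918457164840111354346559749518046947680102121481,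
    38947520102443517594926926158076501467970141358565263612077150720,
    42649891233152833960701037558563442299161118660726541801274506770,
    38947520102659445692832743089311656091006660050528453627514196480,
    40809538362406848196018851914915844104306831980968688181058212352,
    38940288715735359865359007915474194168158919052287479365447229988,
    38911363941278482209456196636568840919860407564525902042869305371,
    35245050107866760056152785945695163987015704647866106561027678756,
    20435565585945400233913411146154300924765669647815000655683162139,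
    35237818721158602326584867703092856687270401191239914902263987730,
    20399409424780364848442681624646640376982472498863147460073651730,
    42649891233152833961102449440886787040366156888233601696551960064,
    38954751296058184433976712468958085021238957477466865224643018240,
    38947520102443517800851221789952353706154752069686673228849222144,
    42642659846229274274619575238123839975258565261594115650208960512,
    35252281301534882984617567156066365744303865323457677119665508352,
    35237818721212584762915019195044726851527811286740208083060424192,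
    40758919634710080349713760355135714093073697157901215786945791542,
    16743949470414458496193682037328920499520512018303203833338180653]
  SW := [([[1],[2],[3],[4],[5],[6],[7],[8],[9],[10],[11],[12],[13],[14],[15],[16],[17],[18],[19]],
    [⟨0, [64, 130, 197, 262, 337, 402, 450, 517, 582, 657, 722, 785, 850, 913, 978, 1041, 1106, 1169, 1234, 1297,
    1362, 1425, 1490], [[16], [15], [3], [0, 6, 16, 5, 0], [5, 4, 6]]⟩,
     ⟨5, [1027, 1092, 898, 836, 962, 771, 388], [[4, 1, 4, 0], [4, 2, 1, 2, 4, 3, 4, 2, 4, 3], [3, 2, 4, 3, 2, 4,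
    3, 2, 1, 2, 3], [4, 2, 1, 2, 4, 3, 2, 1, 2, 3]]⟩,
     ⟨3, [257], [[2], [1, 3, 1], [0]]⟩,
     ⟨1, [576, 449, 514], [[2, 0, 1], [2, 2, 1]]⟩,
     ⟨10, [1280, 1409, 1152], [[0, 1]]⟩,
     ⟨8, [576], []⟩])]

instance : NeZero MW00.n := ⟨by decide⟩

theorem MW00_ok : MW00.ok = true := by decide +kernel

theorem MW00_subs : MW00.subsOK = true := by decide +kernel

/-- the model of the `2`-group -/
@[reducible] def MT00 : PM := res MW00
  [([[1],[2],[3],[4],[5],[6],[7],[8],[9],[10],[11],[12],[13],[14],[15],[16],[17]],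
    [⟨0, [64, 130, 197, 262, 450, 517, 582], [[0, 2, 16, 0, 5, 8], [0, 5, 15, 0, 4], [1, 16], [3, 0, 5, 15, 0], [0,
    5, 15, 0, 5, 8]]⟩,
     ⟨5, [768, 961, 899, 1089, 1027, 387, 835], [[1, 3, 3, 1], [0, 2], [3, 4, 3], [0, 1, 1]]⟩,
     ⟨3, [257], [[0], [1, 2], [1, 3]]⟩,
     ⟨1, [448, 577, 513], [[0, 1, 2, 1], [2]]⟩,
     ⟨10, [1408, 1153, 1280], [[0, 1, 0]]⟩,
     ⟨8, [576], []⟩]),
   ([[12],[13],[15],[16],[17]],
    [⟨1, [448, 514, 578], [[2, 3], [2, 4, 2]]⟩,
     ⟨10, [1280, 1152, 1408], [[0, 1]]⟩,
     ⟨8, [576], []⟩])]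

theorem MT00_ok : MT00.ok = true := by decide +kernel

theorem MT00_subs : MT00.subsOK = true := by decide +kernel

/-- relations -/
def PX00 : List (List ℕ × List ℕ) := [([17, 6], [6, 12, 17]), ([14, 16, 15, 16, 15], [])]

/-- relators -/
noncomputable def RW00 : List (List ℕ) := RW ++ rl PX00

theorem MW00_sat : MW00.satB 20 iW RW00 = true := by decide +kernel

noncomputable def ws00_C : SeqCert := ⟨nat_lit 4, nat_lit 9, nat_lit 20, nat_lit 0x12131312111110100f0f0e0e0d0d0c0c0a0b0b0a0809090806070706050504040303020201010000, (NT.leaf (nat_lit 0) (nat_lit 0x137710570f67008712870f6809770d77017707770b77047705770e770c770277037710360544126409660d66016607660b660466125605560e660c660266036602440b44034409550f5301440444094407440c440d440d55015507550b55045512450e550c55025503550e440f2403220222021108220b1103110e2206220d220e110c2201220a22042201110521041109110711123209330c110d110d33013307330b330433121305330e330c3302330333131212000e000d000c000a00080006000500040003000200010010851174116211511041113010200f100000)), (NT.node (nat_lit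 21) (NT.node (nat_lit 10) (NT.node (nat_lit 5) (NT.node (nat_lit 2) (NT.node (nat_lit 1) (NT.leaf (nat_lit 16544) (nat_lit 0x130f1210)) (NT.leaf (nat_lit 16512) (nat_lit 0x3110311))) (NT.node (nat_lit 3) (NT.leaf (nat_lit 16516) (nat_lit 0x2110211)) (NT.node (nat_lit 4) (NT.leaf (nat_lit 16520) (nat_lit 0xc110c11)) (NT.leaf (nat_lit 16524) (nat_lit 0xe110e11))))) (NT.node (nat_lit 7) (NT.node (nat_lit 6) (NT.leaf (nat_lit 16536) (nat_lit 0x5110511)) (NT.leaf (nat_lit 49308) (nat_lit 0x120f1311))) (NT.node (nat_lit 8) (NT.leaf (nat_lit 32912) (nat_lit 0x41104110e)) (NT.node (nat_lit 9) (NT.leaf (nat_lit 32916) (nat_lit 0xb110a110e)) (NT.leaf (nat_lit 32932) (nat_lit 0x71106110c)))))) (NT.node (nat_lit 15) (NT.node (nat_lit 12) (NT.node (nat_lit 11) (NT.leaf (nat_lit 49276) (nat_lit 0x1110111040b)) (NT.leaf (nat_lit 116) (nat_lit 0xd0c0e))) (NT.node (nat_lit 13) (NT.leaf (nat_lit 112) (nat_lit 0xd130c12)) (NT.node (nat_lit 14) (NT.leaf (nat_lit 108) (nat_lit 0xc130e12)) (NT.leaf (nat_lit 52) (nat_lit 0x9050605)))))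 (NT.node (nat_lit 18) (NT.node (nat_lit 16) (NT.leaf (nat_lit 36) (nat_lit 0x121212)) (NT.node (nat_lit 17) (NT.leaf (nat_lit 28) (nat_lit 0x7130a12)) (NT.leaf (nat_lit 32) (nat_lit 0x9130612)))) (NT.node (nat_lit 19) (NT.leaf (nat_lit 40) (nat_lit 0x4130412)) (NT.node (nat_lit 20) (NT.leaf (nat_lit 16440) (nat_lit 0x5120512)) (NT.leaf (nat_lit 76) (nat_lit 0x1130112))))))) (NT.node (nat_lit 31) (NT.node (nat_lit 26) (NT.node (nat_lit 23) (NT.node (nat_lit 22) (NT.leaf (nat_lit 32808) (nat_lit 0x4120413)) (NT.leaf (nat_lit 32796) (nat_lit 0xa120713))) (NT.node (nat_lit 24) (NT.leaf (nat_lit 32844) (nat_lit 0x1120113)) (NT.node (nat_lit 25) (NT.leaf (nat_lit 32880) (nat_lit 0xc120d13)) (NT.leaf (nat_lit 32884) (nat_lit 0xe0d0c))))) (NT.node (nat_lit 28) (NT.node (nat_lit 27) (NT.leaf (nat_lit 32800) (nat_lit 0x6120913)) (NT.leaf (nat_lit 32876) (nat_lit 0xe120c13))) (NT.node (nat_lit 29) (NT.leaf (nat_lit 32769) (nat_lit 0x30707)) (NT.node (nat_lit 30) (NT.leaf (nat_lit 32777) (nat_lit 0xb0709)) (NT.leaf (nat_lit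 49185) (nat_lit 0x8130712)))))) (NT.node (nat_lit 36) (NT.node (nat_lit 33) (NT.node (nat_lit 32) (NT.leaf (nat_lit 16480) (nat_lit 0x20e010e01)) (NT.leaf (nat_lit 4) (nat_lit 0x20a0a))) (NT.node (nat_lit 34) (NT.leaf (nat_lit 0) (nat_lit 0x30606)) (NT.node (nat_lit 35) (NT.leaf (nat_lit 32936) (nat_lit 0xf100f0e10)) (NT.leaf (nat_lit 65705) (nat_lit 0xe0f100f10))))) (NT.node (nat_lit 39) (NT.node (nat_lit 37) (NT.leaf (nat_lit 32928) (nat_lit 0xf121013)) (NT.node (nat_lit 38) (NT.leaf (nat_lit 16393) (nat_lit 0x90b07)) (NT.leaf (nat_lit 160) (nat_lit 0x10130f12)))) (NT.node (nat_lit 40) (NT.leaf (nat_lit 62) (nat_lit 0xf0f)) (NT.node (nat_lit 41) (NT.leaf (nat_lit 66) (nat_lit 0x1010)) (NT.leaf (nat_lit 78) (nat_lit 0x1312))))))))⟩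
noncomputable def ws00_U : List (List ℕ) := []
noncomputable def ws00_HL : List ℕ := [1,2,3,4,5,6,7,8,9,10,11,12,13,14,18,19]
theorem ws00_head : ws00_C.head 20 iW RW00 ws00_U ws00_HL 9 4 12 = true := by decide +kernel
noncomputable def ws00_s0 : List ℕ := [nat_lit 0x6bb5004296b84004286bb4c04276a84150d2020901cb76900c0c103d25174041131196c40183984c00102d90c6072481e05053001c8d0781012c20726c1e04043081c90078100e0e5c03c0605071c81e0302039140f0180c1c9c0780c040e4c03c06015b1c49203131f14cb60184cf8a80103d4e835300c1ca45100816ac55030b00d02829440c30034080952030ac0d02021480c2a0340807061252a0303030a00b0181418620680c080c2d0340603061b01a0301030dc0d018052472491c8081f47230041d46230041c4120004251b824f803121f1087d01850f87e3e80c247c419f406113e204fa03081f0f47d01834f8783e80c187a3c00816803f028a40b02828f00a2582c08093d028ce0b02020f40a2702c0807050a8e00303028b80b0181014440580c060a3502c06020519016030082004053801046082e0080a0411180c00210958ac0210148b8522e0103e2b250a8061e26128041d25128041c248c090030d9248c480186856441500c1844210083249201200618248f890030b92478480185892382400c2a361f0dc06141b0d09003098d87037018486c3d1b80c22361d8dc0610158d8040f1a0f46803070d86437018346c301b80c183218008163a1c01824070282860060e01c08091901840070202064060c01c0807030a40603030183407018140c260380c08061101c0603030500e03010182c070180408280180c005a]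
theorem ws00_ok0 : ws00_C.StepsOK 21 111 := (SeqCert.StepsOK.refl _ 21).step (L := ws00_s0) (by decide +kernel)
theorem ws00_ok : ws00_C.StepsOK (9 + 12) 111 := ws00_ok0
noncomputable def ws00_r0 : List ℕ := [nat_lit 0xa4050006302100844c024011008404001f00f007403801a00c005802801200, nat_lit 0xdcc5640a504200c0b824212209984ce24c126892849625022709904d425211, nat_lit 0xa849060c60281c50c445e22d115c8ac46923411848c045112a11b88d845822, nat_lit 0x12486c20705db25146464031818e8c7664632398f0c7a63431c18b0c5c63e33, nat_lit 0x1f556cc0e70489c08e4888445226913688e447a23111a8b8448226113889244, nat_lit 0x2a58f880b16dba54cf4a8653c2a01502a9654baa09506aa763f29d14eca8455, nat_lit 0x2dd150a0d25d1b65d48cb265132b195acb465ab2b995eca65553279940cb066, nat_lit 0x371dbae0f46d2b61984ece7603b21d92ed0768bb29d96ec47633af1d7cecc77]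
theorem ws00_final : ws00_C.final 20 111 (nat_lit 0xff) 8 [1,2,3,4,5,6,7,8,9,10,11,12,13,14,15,16,17,18,19] (ws00_r0) = true := by decide +kernel
theorem ws00 {G : Type*} [Group G] {g : ℕ → G} {H : Subgroup G} (hg : Sat g 20 iW RW00)
    (hU : ∀ u ∈ ws00_U, wv g u ∈ H) (hL : ∀ l ∈ ws00_HL, g l ∈ H) :
    IdxLe H (Subgroup.closure {x | ∃ l ∈ ([1,2,3,4,5,6,7,8,9,10,11,12,13,14,15,16,17,18,19] : List ℕ), g l = x}) 8 :=
  SeqCert.idxLe_of_final hg hU hL ws00_head ws00_ok ws00_final

theorem MT00_z : MT00.dec zFm = true := by decide +kernel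

theorem MT00_z2 : MT00.dec z2Fm = true := by decide +kernel

theorem MT00_cl : MT00.dec clFm = true := by decide +kernel

theorem CF.WR.wq00 {G : Type*} [Group G] [Finite G] {F : CF G} {b b1 b2 f1 f2 f3 : G}
    (h : F.WR b b1 b2 f1 f2 f3) (h1 : F.a1 * f3 = f3 * b1 * F.a1) (h2 : f1 * f2 * f1 * f2 * b = 1) :
    ∃ T, F.WS T b :=
  h.ws MT00_ok MT00_subs (emb_res (PM.exists_hom MW00_ok MW00_subs (PM.sat MW00_ok MW00_sat)
    (sat_rl h.sat (P := PX00) (by decide) (by simpa [PX00, lf, CF.gW] using ⟨h1, h2⟩)) rfl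
    (fun s => (ws00 s (by simp [ws00_U]) fun _ => letter_mem _).card_le
      (card_NB (s.mono le_rfl fun _ => List.mem_append_left _))) (by decide +kernel))
    (PM.sat MW00_ok MW00_sat).zero MT00_ok MT00_subs (by decide +kernel) MT00_z F.ne.2.1)
    (by decide +kernel) MT00_z2 MT00_cl

end Cfsg.Lib.Co3M
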