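import Cfsg.Agent.Co3M.Bb

/-! The wreath case: the Sylow argument. -/

set_option autoImplicit false
set_option linter.unusedSimpArgs false

namespace Cfsg.Lib.Co3M

open Subgroup Cfsg.Lib.Trans Cfsg.Lib.Spor Cfsg.Lib.Spor.Bulk Cfsg.Lib.Spor.PK Cfsg.Lib.Spor.WF

variable {G : Type*} [Group G]

/-- the union of `H` and one coset -/
def adj (H : Subgroup G) (f : G) (h1 : ∀ x ∈ H, f * x * f⁻¹ ∈ H) (h2 : f * f ∈ H) : Subgroup G where
  carrier := {x | x ∈ H ∨ f * x ∈ H}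
  one_mem' := Or.inl (one_mem _)
  mul_mem' := by
    rintro x y (hx | hx) (hy | hy)
    · exact Or.inl (mul_mem hx hy)
    · exact Or.inr (by simpa [mul_assoc] using mul_mem (h1 x hx) hy)
    · exact Or.inr (by simpa [mul_assoc] using mul_mem hx hy)
    · exact Or.inl (by simpa [mul_assoc] using mul_mem (mul_mem (inv_mem h2) (h1 _ hx)) hy)
  inv_mem' := by
    rintro x (hx | hx)
    · exact Or.inl (inv_mem hx)
    · exact Or.inr (by simpa [mul_assoc] using mul_mem (h1 _ (inv_mem hx)) h2)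

theorem mem_adj {H : Subgroup G} {f x : G} {h1 : ∀ x ∈ H, f * x * f⁻¹ ∈ H} {h2 : f * f ∈ H} :
    x ∈ adj H f h1 h2 ↔ x ∈ H ∨ f * x ∈ H := Iff.rfl

/-- `k` centralizes `x` modulo `z` -/
def Cm (z k x : G) : Prop := k * x = x * k ∨ k * x = x * z * k

theorem Cm.cj {z k x n : G} (hz : n * z = z * n) (h : Cm z (n⁻¹ * k * n) x) :
    Cm z k (n * x * n⁻¹) := by
  refine h.imp (fun e => ?_) fun e => ?_
  · simpa [mul_assoc] using cj_comm (k := n) e
  · calc _ = n * (n⁻¹ * k * n * x) * n⁻¹ := by group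
      _ = n * x * n⁻¹ * (n * z) * (n⁻¹ * k) := by rw [e]; group
      _ = _ := by rw [hz]; group

namespace CF

variable {F : CF G}

theorem grow [Finite G] (hO : ∀ K : Subgroup G, K.index = 2 → F.e ∈ K) {Q T : Subgroup G}
    (h : Q ≤ T) (h2 : Q.relIndex T = 2) (hp : IsPGroup 2 T) (hX : ∀ x ∈ Q, ¬ F.X x) :
    ∃ S, IsSylowIn 2 S ⊤ ∧ T ≤ S ∧ ∃ g ∈ S, g ∉ T ∧
      ∀ x ∈ T, g * x * g⁻¹ ∈ T ∧ g⁻¹ * x * g ∈ T := exists_norm le_top hp fun hs => by
  obtain ⟨n, h1, h3⟩ := parity hO F.sq.1 Q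
  rw [show {w | IsConj F.e w ∧ w ∈ Q} = ∅ from Set.eq_empty_of_forall_notMem fun w hw =>
    hX w hw.2 hw.1, Set.ncard_empty, zero_mul, mul_eq_zero] at h1
  have h4 := relIndex_mul_index h
  have h5 := hs.not_dvd
  have h6 := Nat.card_pos (α := Q)
  rw [relIndex_top_right] at h5
  rw [h2] at h4
  omega

/-- the properties of the group of order `2 ^ 12` -/
structure WS (F : CF G) (T : Subgroup G) (b : G) : Prop where
  nb : F.Nb b
  bb : b * b = 1
  p2 : IsPGroup 2 T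
  le : F.T0 ≤ T
  mb : b ∈ T
  cz : ∀ k ∈ T, k * F.z = F.z * k
  cy : ∀ k ∈ T, Cm F.z k F.y
  cb : ∀ k ∈ T, Cm F.z k b
  z2 : ∀ x ∈ T, (∀ k ∈ T, Cm F.z k x) → ∃ v ∈ F.V, x = v ∨ x = v * b
  nx : ∀ u ∈ T, u * b = b * u → ¬ F.X u
  cl : ∀ u ∈ T, u * u = 1 → u * b = b * u ∨
    ∃ k ∈ T, k * F.e = u * k ∨ k * (F.e * F.r) = u * k

/-- `x` lies in `S`, outside of `T`, and normalizes `T` -/
def Out (S T : Subgroup G) (x : G) : Prop :=
  x ∈ S ∧ x ∉ T ∧ ∀ w ∈ T, x * w * x⁻¹ ∈ T ∧ x⁻¹ * w * x ∈ T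

theorem Out.inv {S T : Subgroup G} {x : G} (h : Out S T x) : Out S T x⁻¹ :=
  ⟨inv_mem h.1, mt inv_mem_iff.1 h.2.1, fun w hw => by rw [inv_inv]; exact (h.2.2 w hw).symm⟩

theorem Out.mul {S T : Subgroup G} {x t : G} (h : Out S T x) (hS : T ≤ S) (ht : t ∈ T) :
    Out S T (x * t) :=
  ⟨mul_mem h.1 (hS ht), mt (mul_mem_cancel_right ht).1 h.2.1, fun w hw =>
    ⟨by simpa [mul_assoc] using (h.2.2 _ (mul_mem (mul_mem ht hw) (inv_mem ht))).1,
      by simpa [mul_assoc] using mul_mem (mul_mem (inv_mem ht) (h.2.2 w hw).2) ht⟩⟩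

namespace WS

variable [Finite G] {T S : Subgroup G} {b : G} (h : F.WS T b)
include h

omit [Finite G] in
theorem ne {v : G} (hv : v * F.e = F.e * v) : v * b * F.e ≠ F.e * (v * b) := fun e => by
  rw [mul_assoc, h.nb.e, ← mul_assoc F.e, ← hv, mul_assoc v, mul_right_inj, mul_left_inj,
    mul_eq_left] at e
  exact F.ne.2.1 e

omit [Finite G] in
theorem me : F.e ∈ T := h.le F.memT0.1

theorem mem (hp : IsPGroup 2 S) (hS : T ≤ S) {n : G} (hn : n ∈ S) (e : n * F.e = F.e * n) :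
    n ∈ T := h.le ((F.sylT0.eq_inf hp (h.le.trans hS)).le ⟨hn, memC.2 e⟩)

omit [Finite G] in
theorem memV {x : G} (hx : x ∈ T) (h1 : ∀ k ∈ T, Cm F.z k x) (h2 : x * F.e = F.e * x) :
    x ∈ F.V := by
  obtain ⟨v, hv, rfl | rfl⟩ := h.z2 x hx h1
  · exact hv
  · exact absurd h2 (h.ne (memC.1 (F.M_le (F.V_le hv))))

omit [Finite G] in
theorem eq_z {n : G} (hx : n * F.z * n⁻¹ ∈ T) (h1 : ∀ k ∈ T, n⁻¹ * k * n * F.z = F.z * (n⁻¹ * k * n)) :
    n * F.z = F.z * n := by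
  have h2 : ∀ k ∈ T, k * (n * F.z * n⁻¹) = n * F.z * n⁻¹ * k := fun k hk => by
    simpa [mul_assoc] using cj_comm (k := n) (h1 k hk)
  have h3 := h2 _ (h.le F.memT0.2.2.1)
  rcases F.v_cases _ (h.memV hx (fun k hk => Or.inl (h2 k hk)) (h2 _ h.me).symm) with e | e | e | e
  · exact absurd (conj_eq_one_iff.1 e) F.ne.2.1
  · exact of_cj e
  all_goals exact absurd (e ▸ h3) (by cw F)

variable (hp : IsPGroup 2 S) (hS : T ≤ S)
include hp hS

theorem out_e {x : G} (hx : Out S T x) : ∃ k ∈ T, k * (F.e * F.r) = x * F.e * x⁻¹ * k := by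
  have h1 := (hx.2.2 _ h.me).1
  obtain e | ⟨k, hk, e | e⟩ := h.cl _ h1 (F.Xe.cj x).sq
  · exact absurd (F.Xe.cj x) (h.nx _ h1 e)
  · refine absurd ((mul_mem_cancel_right hk).1 (h.mem hp hS (mul_mem (inv_mem hx.1) (hS hk)) ?_))
      hx.inv.2.1
    rw [mul_assoc, e]; group
  · exact ⟨k, hk, e⟩

theorem out_sq {x : G} (hx : Out S T x) : x * x ∈ T := by
  obtain ⟨k, hk, e⟩ := h.out_e hp hS hx
  obtain ⟨l, hl, e'⟩ := h.out_e hp hS hx.inv
  have := h.mem hp hS (mul_mem (mul_mem (mul_mem hx.1 (hS hl)) (inv_mem (hS hk))) hx.1) (by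
    calc _ = x * l * k⁻¹ * (x * F.e * x⁻¹ * k) * (k⁻¹ * x) := by group
      _ = x * (l * (F.e * F.r)) * (k⁻¹ * x) := by rw [← e]; group
      _ = _ := by rw [e']; group)
  simpa [mul_assoc] using mul_mem (inv_mem (hx.2.2 _ (mul_mem hl (inv_mem hk))).1) this

omit [Finite G] hp hS in
theorem out_z {x : G} (hx : Out S T x) : x * F.z = F.z * x :=
  h.eq_z (hx.2.2 _ (h.le (let_mem _ 2 (by decide +kernel)))).1 fun k hk => h.cz _ (hx.2.2 k hk).2

theorem out_y {x : G} (hx : Out S T x) :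
    ∃ s, (s = 1 ∨ s = F.z) ∧ x * F.y * x⁻¹ = F.y * s * b := by
  have h1 := (hx.2.2 F.y (h.le (let_mem _ 3 (by decide +kernel)))).1
  have h2 : ∀ k ∈ T, Cm F.z k (x * F.y * x⁻¹) := fun k hk =>
    Cm.cj (h.out_z hx) (h.cy _ (hx.2.2 k hk).2)
  obtain ⟨k, hk, e⟩ := h.out_e hp hS hx
  have h3 : Commute (x * F.y * x⁻¹) (F.e * F.r) := by
    have h4 : Commute (x * F.y * x⁻¹) (x * F.e * x⁻¹) := cj_comm F.ce.2.1
    have h5 : Commute F.z (x * F.e * x⁻¹) := by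
      simpa only [cj_of (h.out_z hx), commute_iff_eq] using cj_comm (k := x) F.ce.1
    rw [← cj_of e] at h4 h5
    rw [← Commute.conj_iff k]
    rcases h2 k hk with e | e <;> rw [cj_of e]
    exacts [h4, h4.mul_left h5]
  have h4 : ∀ v, Commute v (F.e * F.r) → ¬ Commute (v * b) (F.e * F.r) := fun v h1 h2 =>
    h.ne (v := 1) (by simp) (by
      simpa using (((h1.inv_left.mul_left h2).mul_right (by
        simpa using Commute.inv_right h.nb.r : Commute (v⁻¹ * (v * b)) F.r⁻¹)).eq))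
  obtain ⟨v, hv, e | e⟩ := h.z2 _ h1 h2 <;> rcases F.v_cases v hv with rfl | rfl | rfl | rfl
  · exact absurd (conj_eq_one_iff.1 e) F.ne.2.2.1
  · exact absurd (by simpa [← h.out_z hx] using of_cj e) F.ne.2.2.2.1
  · exact absurd (e ▸ h3).eq (by cw F)
  · exact absurd (e ▸ h3).eq (by cw F)
  · exact absurd (e ▸ h3) (h4 _ (Commute.one_left _))
  · exact absurd (e ▸ h3) (h4 _ (show _ = _ by cw F))
  · exact ⟨1, Or.inl rfl, by rw [e, mul_one]⟩
  · exact ⟨_, Or.inr rfl, e⟩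

theorem out_b {x : G} (hx : Out S T x) : Cm F.z x b ∧ (x * x = 1 → x * b = b * x) := by
  have k : ∀ s s', (s' = 1 ∨ s' = F.z) → x * F.y * x⁻¹ = F.y * s * b →
      x⁻¹ * F.y * x⁻¹⁻¹ = F.y * s' * b → x * b * x⁻¹ = (s * b * s')⁻¹ := fun s s' h1 e e' => by
    have : x * s' = s' * x := by rcases h1 with rfl | rfl; simp; exact h.out_z hx
    refine eq_inv_of_mul_eq_one_right (mul_left_cancel (a := F.y) ?_)
    rw [← mul_assoc F.y, ← mul_assoc F.y, ← mul_assoc F.y, ← e, ← cj_of this, conj_mul, conj_mul,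
      ← e']
    group
  obtain ⟨s, hs, e⟩ := h.out_y hp hS hx
  have bi := inv_eq_of_mul_eq_one_right h.bb
  have zi := inv_eq_of_mul_eq_one_right F.sq.2.1
  refine ⟨?_, fun h2 => ?_⟩
  · obtain ⟨s', hs', e'⟩ := h.out_y hp hS hx.inv
    have := of_cj (k s s' hs' e e')
    rcases hs with rfl | rfl <;> rcases hs' with rfl | rfl <;>
      simp only [Cm, this, mul_inv_rev, bi, zi, inv_one, mul_one, one_mul, ← h.nb.z, as h.nb.z.symm,
        F.sq.2.1, true_or, or_true]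
  · have := of_cj (k s s hs e (by rwa [inv_eq_of_mul_eq_one_right h2]))
    rcases hs with rfl | rfl <;>
      simp only [this, mul_inv_rev, bi, zi, inv_one, mul_one, one_mul, as h.nb.z.symm, F.sq.2.1]

omit hp hS in
theorem false (hO : ∀ K : Subgroup G, K.index = 2 → F.e ∈ K) : False := by
  have mY : ∀ {x}, x ∈ T ⊓ centralizer {b} ↔ x ∈ T ∧ x * b = b * x := by
    simp [mem_centralizer_singleton_iff]
  have eb : F.e * b = b * F.z * F.e := by
    rw [mul_assoc, F.ce.1, ← mul_assoc, h.nb.e, mul_assoc, mul_assoc, h.nb.z, as1 F.sq.2.1]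
  have eY : F.e ∉ T ⊓ centralizer {b} := fun e => h.ne (v := 1) (by simp) (by simp [(mY.1 e).2])
  have iY : ∀ k ∈ T, k * F.e ∈ T ⊓ centralizer {b} ∨ k ∈ T ⊓ centralizer {b} := fun k hk =>
    (h.cb k hk).symm.imp (fun e => mY.2 ⟨mul_mem hk h.me, by
      rw [mul_assoc, eb, ← mul_assoc, ← mul_assoc, e, mul_assoc _ k, h.cz k hk]
      simp only [mul_assoc, as1 F.sq.2.1]⟩) fun e => mY.2 ⟨hk, e⟩
  obtain ⟨S, hS, hTS, f, hf⟩ := grow hO inf_le_left
    (relIndex_eq_two_iff_exists_notMem_and.2 ⟨_, h.me, eY, iY⟩) h.p2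
    fun x hx => h.nx x hx.1 (mY.1 hx).2
  have hp := hS.isPGroup
  obtain ⟨f, hf, fb⟩ : ∃ f, Out S T f ∧ f * b = b * F.z * f := by
    rcases (h.out_b hp hTS hf).1 with e | e
    · exact ⟨_, Out.mul hf hTS h.me, by
        rw [mul_assoc, eb, ← mul_assoc, ← mul_assoc, e, mul_assoc b, h.out_z hf]; group⟩
    · exact ⟨f, hf, e⟩
  have fz := h.out_z hf
  let U := adj T f (fun x hx => (hf.2.2 x hx).1) (h.out_sq hp hTS hf)
  have hU : ∀ x ∈ U, x ∈ T ∨ Out S T x := fun x hx =>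
    hx.imp_right fun e => by simpa using hf.inv.mul hTS e
  have TU : T ≤ U := fun x => Or.inl
  have fU : f ∈ U := Or.inr (h.out_sq hp hTS hf)
  let Q := adj (T ⊓ centralizer {b}) f (fun x hx => mY.2 ⟨(hf.2.2 x hx.1).1, by
      have := cj_comm (k := f) (mY.1 hx).2
      rw [cj_of fb, ← mul_assoc, mul_assoc b, ← h.cz _ (hf.2.2 x hx.1).1, ← mul_assoc] at this
      exact mul_right_cancel this⟩)
    (mY.2 ⟨h.out_sq hp hTS hf, by
      rw [mul_assoc, fb, ← mul_assoc, ← mul_assoc, fb, mul_assoc _ f, fz]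
      simp only [mul_assoc, as1 F.sq.2.1]⟩)
  obtain ⟨R, hR, hUR, n, hn, nU, hn'⟩ := grow (Q := Q) (T := U) hO
    (fun x hx => hx.imp And.left And.left)
    (relIndex_eq_two_iff_exists_notMem_and.2 ⟨_, TU h.me,
      fun e => e.elim eY fun e => hf.2.1 ((mul_mem_cancel_right h.me).1 e.1), fun x hx =>
        hx.elim (fun e => (iY x e).imp Or.inl Or.inl) fun e =>
          (iY _ e).imp (fun e => Or.inr (mul_assoc f _ _ ▸ e)) Or.inr⟩)
    (hp.to_le fun x hx => (hU x hx).elim (fun e => hTS e) And.left) fun x hx hX => hx.elim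
      (fun e => h.nx x e.1 (mY.1 e).2 hX) fun e => by
        have h1 := (h.out_b hp hTS (by simpa using hf.inv.mul hTS e.1 : Out S T x)).2 hX.sq
        have h2 := (mY.1 e).2
        rw [mul_assoc, h1, ← mul_assoc, fb, ← mul_assoc, mul_left_inj, mul_left_inj,
          mul_eq_left] at h2
        exact F.ne.2.1 h2
  have L : ∀ m ∈ R, m * F.e = F.e * m → m ∈ T := fun m => h.mem hR.isPGroup (TU.trans hUR)
  have L' : ∀ k ∈ U, k * F.e ≠ n * F.e * n⁻¹ * k := fun k hk e =>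
    nU (inv_mem_iff.1 ((mul_mem_cancel_right hk).1 (TU (L _ (mul_mem (inv_mem hn) (hUR hk))
      (by rw [mul_assoc, e]; group)))))
  have X := F.Xe.cj n
  rcases hU _ (hn' _ (TU h.me)).1 with e | e
  · obtain e' | ⟨k, hk, e' | e'⟩ := h.cl _ e X.sq
    · exact h.nx _ e e' X
    · exact L' k (TU hk) e'
    · obtain ⟨l, hl, e''⟩ := h.out_e hp hTS hf
      exact L' _ (mul_mem (mul_mem (TU hk) (inv_mem (TU hl))) fU) (by
        calc _ = k * l⁻¹ * (f * F.e * f⁻¹ * l) * (l⁻¹ * f) := by group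
          _ = k * (F.e * F.r) * (l⁻¹ * f) := by rw [← e'']; group
          _ = _ := by rw [e']; group)
  have zU : ∀ k ∈ U, k * F.z = F.z * k := fun k hk => (hU k hk).elim (h.cz k) h.out_z
  have mT : ∀ w ∈ T, n * F.e * n⁻¹ * w = w * (n * F.e * n⁻¹) →
      n⁻¹ * w * n⁻¹⁻¹ * F.e = F.e * (n⁻¹ * w * n⁻¹⁻¹) ∧ n⁻¹ * w * n⁻¹⁻¹ ∈ T := fun w hw e => by
    have : n⁻¹ * w * n⁻¹⁻¹ * F.e = F.e * (n⁻¹ * w * n⁻¹⁻¹) := by
      simpa [mul_assoc] using cj_comm (k := n⁻¹) e.symm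
    exact ⟨this, L _ (mul_mem (mul_mem (inv_mem hn) (hUR (TU hw))) (inv_mem (inv_mem hn))) this⟩
  have nz := h.eq_z (mT _ (h.le (let_mem _ 2 (by decide +kernel))) (h.out_z e)).2 fun k hk =>
    zU _ (by simpa using (hn' k (TU hk)).1)
  have h1 := mT _ h.mb ((h.out_b hp hTS e).2 X.sq)
  have h2 : ∀ k ∈ U, Cm F.z k (n⁻¹ * b * n⁻¹⁻¹) := fun k hk => Cm.cj nz
    ((hU _ (by simpa using (hn' k hk).1)).elim (h.cb _) fun e => (h.out_b hp hTS e).1)
  have h3 : b ∉ F.V := fun e => h.ne (v := 1) (by simp) (by simp [memC.1 (F.M_le (F.V_le e))])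
  obtain ⟨s, hs, h4⟩ := h.out_y hp hTS hf
  have h5 : ∀ v ∈ F.V, Cm F.z f v → f * v * f⁻¹ ∈ F.V := fun v hv e =>
    e.elim (fun e => by rwa [cj_of e]) fun e => cj_of e ▸ mul_mem hv F.zV
  have h6 : f * F.y * f⁻¹ ∉ F.V := fun e => h3 ((mul_mem_cancel_left (mul_mem F.yV
    (hs.elim (fun e => e ▸ one_mem _) fun e => e ▸ F.zV))).1 (h4 ▸ e))
  have h7 := h.memV h1.2 (fun k hk => h2 k (TU hk)) h1.1
  have h8 := h5 _ h7 (h2 f fU)
  rcases F.v_cases _ h7 with e | e | e | e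
  · exact h3 (conj_eq_one_iff.1 e ▸ one_mem _)
  · exact h3 ((by simpa [← nz] using of_cj e : b = F.z) ▸ F.zV)
  · exact h6 (e ▸ h8)
  · rw [e, ← conj_mul, cj_of fz] at h8
    exact h6 ((mul_mem_cancel_right F.zV).1 h8)

end WS

end CF

end Cfsg.Lib.Co3M
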